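import Groth.Prelude.Def_KRR
import Groth.Agent.K0Res.Main
import Groth.Agent.DCohLocus.FreeLocus
import Groth.Agent.KFlat.SchemeStalk
import Groth.Agent.CohProperPush.Basic
import Groth.Agent.VBTwo.Ext
import Groth.Agent.QC.FiniteType
import Groth.Agent.PdRes.Basic

/-!
The resolution theorem for coherent modules with enough finite locally free modules:
stalkwise projective dimension.
-/

set_option autoImplicit false
set_option backward.isDefEq.respectTransparency false
set_option backward.isDefEq.respectTransparency.types false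
set_option linter.style.haveILetI false

universe u

open CategoryTheory CategoryTheory.Limits AlgebraicGeometry ZeroObject

noncomputable section

namespace Groth.Agent.K0ResLF

variable {X : Scheme.{u}}

/-- the stalk functor -/
abbrev St (x : X) : X.Modules ⥤ ModuleCat.{u} (X.presheaf.stalk x) := DerSch.stalkFunctor X x

/-- all stalks have projective dimension `< n` -/
def PdLT (M : X.Modules) (n : ℕ) : Prop := ∀ x : X, HasProjectiveDimensionLT ((St x).obj M) n

lemma PdLT.mono {M : X.Modules} {n m : ℕ} (h : PdLT M n) (hnm : n ≤ m) : PdLT M m := fun x =>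
  haveI := h x
  hasProjectiveDimensionLT_of_ge _ n m hnm

lemma projective_stalk {M : X.Modules} (h : FlatMod.IsFinLocFree M) (x : X) : Projective ((St x).obj M) := by
  haveI : Module.Free (X.presheaf.stalk x) ((St x).obj M) := (DCohLocus.freeAt_of_isFinLocFree h x).1
  exact (IsProjective.iff_projective ((St x).obj M : Type u)).1 inferInstance

lemma pdLT_one {M : X.Modules} (h : FlatMod.IsFinLocFree M) : PdLT M 1 := fun x =>
  haveI := projective_stalk h x
  inferInstance

lemma freeAt_of_pdLT_one [IsLocallyNoetherian X] {M : X.Modules} (hM : Coh.IsCoh M) {x : X}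
    (h : HasProjectiveDimensionLT ((St x).obj M) 1) : DCohLocus.FreeAt M x := by
  haveI := h
  haveI := hM.1
  haveI : Module.Finite (X.presheaf.stalk x) (M.presheaf.stalk x) := SupportLib.finite_stalk M hM.2 x
  haveI : Projective ((St x).obj M) := projective_iff_hasProjectiveDimensionLT_one.2 h
  haveI : Module.Projective (X.presheaf.stalk x) (M.presheaf.stalk x) :=
    (IsProjective.iff_projective ((St x).obj M : Type u)).2 (this)
  exact ⟨Module.free_of_flat_of_isLocalRing, inferInstance⟩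

lemma exists_free_nhd [IsLocallyNoetherian X] {M : X.Modules} (hM : Coh.IsCoh M) {x : X}
    (h : DCohLocus.FreeAt M x) : ∃ U : X.Opens, x ∈ U ∧ FlatMod.IsFinLocFree (M.restrict U.ι) :=
  haveI := hM.1
  DCohLocus.exists_free_near M hM.1 (QC.isFP_of_isQCoh_of_isFT hM.2) h

lemma isFinLocFree_of_pdLT_one [IsLocallyNoetherian X] {M : X.Modules} (hM : Coh.IsCoh M) (h : PdLT M 1) :
    FlatMod.IsFinLocFree M := by
  refine DQCoh.isFinLocFree_of_local fun x => ?_
  obtain ⟨U, hx, hU⟩ := exists_free_nhd hM (freeAt_of_pdLT_one hM (h x))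
  exact ⟨U, U.ι, inferInstance, ⟨x, hx⟩, rfl, hU⟩

section ses

variable {S : ShortComplex X.Modules} (hS : S.ShortExact)
include hS

lemma pdLT_mid {n : ℕ} (h₁ : PdLT S.X₁ n) (h₃ : PdLT S.X₃ n) : PdLT S.X₂ n := fun x =>
  (hS.map_of_exact (St x)).hasProjectiveDimensionLT_X₂ n (h₁ x) (h₃ x)

lemma pdLT_left {n : ℕ} (h₂ : PdLT S.X₂ n) (h₃ : PdLT S.X₃ (n + 1)) : PdLT S.X₁ n := fun x =>
  (hS.map_of_exact (St x)).hasProjectiveDimensionLT_X₁ n (h₂ x) (h₃ x)

lemma isCoh_left [IsLocallyNoetherian X] (h₂ : Coh.IsCoh S.X₂) (h₃ : Coh.IsCoh S.X₃) : Coh.IsCoh S.X₁ := by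
  haveI := hS.mono_f
  exact K0Coh.isCoh_of_iso (hS.fIsKernel.conePointUniqueUpToIso (kernelIsKernel S.g)).symm
    (QC.isCoh_kernel h₂ h₃.1 S.g)

lemma isCoh_mid [IsLocallyNoetherian X] (h₁ : Coh.IsCoh S.X₁) (h₃ : Coh.IsCoh S.X₃) : Coh.IsCoh S.X₂ :=
  haveI := CohProperPush.isWeakSerre_isCoh (X := X)
  ObjectProperty.prop_X₂_of_shortExact (P := fun M : X.Modules => Coh.IsCoh M) hS h₁ h₃

lemma isFinLocFree_left (h₂ : FlatMod.IsFinLocFree S.X₂) (h₃ : FlatMod.IsFinLocFree S.X₃) :
    FlatMod.IsFinLocFree S.X₁ := by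
  haveI := hS.epi_g
  exact DQCoh.isFinLocFree_of_iso' (hS.fIsKernel.conePointUniqueUpToIso (kernelIsKernel S.g)).symm
    (DCohLocus.isFinLocFree_kernel S.g h₂ h₃)

end ses

end Groth.Agent.K0ResLF
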