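import Groth.Agent.SGA6Ext.Pull
import Groth.Agent.SGA6Ext.Model
import Groth.Agent.CycPB.DualFilt
import Groth.Agent.CycPB.BundleSmooth
import Groth.Agent.PBundle.Euler
import Groth.Agent.PBundle.Free
import Groth.Agent.OmegaLib.FiniteType
import Groth.Agent.Conormal.Omega
import Groth.Agent.Conormal.Maps
import Groth.Agent.GrpOmega.Diff
import Groth.Agent.PnReg.KTwist
import Groth.Agent.PnReg.BaseChange
import Groth.Agent.VBTwo.Ext
import Groth.Agent.DCohLocus.FreeLocus
import Groth.Agent.RelPCS.Single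
import Groth.Agent.KSixLib.ExchProj

/-!
The tangent element of a closed subscheme of projective space, in K-theory.
-/

set_option autoImplicit false
set_option linter.style.haveILetI false
set_option backward.isDefEq.respectTransparency false
set_option backward.isDefEq.respectTransparency.types false
set_option maxHeartbeats 1000000

universe v u

open CategoryTheory CategoryTheory.Limits AlgebraicGeometry

attribute [local instance] HasDerivedCategory.standard

noncomputable section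

namespace Groth.Agent.K0ResLF

open Groth.Agent.CycPB (dualM)

variable {X Y : Scheme.{u}}

theorem isFinLocFree_dualM {N : X.Modules} (h : FlatMod.IsFinLocFree N) : FlatMod.IsFinLocFree (dualM N) :=
  DQCoh.isFinLocFree_of_iso' (CycPB.dualIso N).symm (ResDesc.isFinLocFree_dual h)

def dualMCongr {A B : X.Modules} (e : A ≅ B) : dualM A ≅ dualM B :=
  (((DCoh.sheafHomAdj A).ofNatIsoLeft ((DCoh.tensorBi (X := X)).mapIso e)).rightAdjointUniq
    (DCoh.sheafHomAdj B)).app _

theorem nonempty_dualM_tensor (D F : X.Modules) (hF : FlatMod.IsFinLocFree F) :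
    Nonempty (dualM (CohB1.tensorMod F D) ≅ CohB1.tensorMod (dualM F) (dualM D)) := by
  obtain ⟨a⟩ := ExtShX.nonempty_homTensorIso D F
  exact ⟨a.app _ ≪≫ ((ExtShX.dualHomNat hF).app (dualM D)).symm ≪≫
    PicGrp.tensorModIso (CycPB.dualIso F).symm (Iso.refl _)⟩

theorem dualM_unit : Nonempty (dualM (Coh.structureModule X) ≅ Coh.structureModule X) := by
  haveI := W7Hull.isIso_evDual (TMul.isInvertible_structureModule (X := X))
  exact ⟨CycPB.dualIso _ ≪≫ (TMul.leftUnitIso _).symm ≪≫ asIso (W7Hull.evDual (Coh.structureModule X))⟩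

variable {K : Type v} [CommRing K] [LambdaRing.LambdaOps K] {P : LambdaRing.PosStructure K}
  {φ : SGA6.Kvb X →+ K}

theorem cl_shortExact' {A B C : X.Modules} {f : A ⟶ B} {g : B ⟶ C} {w : f ≫ g = 0}
    (hS : (ShortComplex.mk f g w).ShortExact) (h₁ : FlatMod.IsFinLocFree A)
    (h₂ : FlatMod.IsFinLocFree B) (h₃ : FlatMod.IsFinLocFree C) :
    KRR.cl X B = KRR.cl X A + KRR.cl X C :=
  K0Res.clSub_add (fun M => FlatMod.IsFinLocFree M) (S := ShortComplex.mk f g w) hS h₁ h₂ h₃

theorem dual_add' {A B C : X.Modules} {f : A ⟶ B} {g : B ⟶ C} {w : f ≫ g = 0}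
    (hS : (ShortComplex.mk f g w).ShortExact) (h₁ : FlatMod.IsFinLocFree A)
    (h₂ : FlatMod.IsFinLocFree B) (h₃ : FlatMod.IsFinLocFree C) :
    φ (KRR.cl X (dualM B)) = φ (KRR.cl X (dualM A)) + φ (KRR.cl X (dualM C)) := by
  obtain ⟨f', g', w', hd⟩ : ∃ (f' : dualM C ⟶ dualM B) (g' : dualM B ⟶ dualM A) (w : f' ≫ g' = 0),
      (ShortComplex.mk f' g' w).ShortExact :=
    CycPB.exists_dual_shortExact (S := ShortComplex.mk f g w) hS h₂ h₃
  rw [cl_shortExact' hd (isFinLocFree_dualM h₃) (isFinLocFree_dualM h₂) (isFinLocFree_dualM h₁), map_add,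
    add_comm]

theorem dual_iso {A B : X.Modules} (e : A ≅ B) (hA : FlatMod.IsFinLocFree A) :
    φ (KRR.cl X (dualM A)) = φ (KRR.cl X (dualM B)) :=
  congrArg φ (SGA6Ext.cls_iso (dualMCongr e) (isFinLocFree_dualM hA))

theorem dual_free (hK : KRR.IsModel X K P φ) (C : ℕ) :
    φ (KRR.cl X (dualM (FlatMod.freeMod X C))) = (C : K) := by
  have hO := PnReg.isFinLocFree_unit X
  obtain ⟨h, e⟩ := PnReg.rel_free_tensor (Pp := fun M => FlatMod.IsFinLocFree M)
    (fun M h => DQCoh.isFinLocFree_of_isZero h) (fun e h => DQCoh.isFinLocFree_of_iso' e h)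
    (fun hS h₁ h₃ => VBTwo.isFinLocFree_middle hS h₁ h₃) (fun M => φ (KRR.cl X (dualM M)))
    (fun {S} hS h₁ h₂ h₃ => dual_add' (f := S.f) (g := S.g) (w := S.zero) hS h₁ h₂ h₃) (fun e h => dual_iso e h) hO hO C
  obtain ⟨u⟩ := dualM_unit (X := X)
  rw [← dual_iso (TMul.commIso _ _ ≪≫ TMul.leftUnitIso _) h, e,
    show KRR.cl X (dualM (Coh.structureModule X)) = KRR.cl X (Coh.structureModule X) from
      SGA6Ext.cls_iso u (isFinLocFree_dualM hO), hK.map_one, zsmul_eq_mul, mul_one, Int.cast_natCast]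

theorem line_mul_dual (hK : KRR.IsModel X K P φ) {Z : Scheme.{u}} (g : X ⟶ Z) {M : Z.Modules}
    (hM : PicF.IsInvertible M) :
    φ (KRR.cl X ((Scheme.Modules.pullback g).obj M)) *
      φ (KRR.cl X (dualM ((Scheme.Modules.pullback g).obj M))) = 1 := by
  have h0 := ResDesc.isFinLocFree_of_isInvertible hM
  have h := DerPerf.isFinLocFree_pullback g h0
  haveI := W7Hull.isIso_evDual hM
  obtain ⟨a⟩ := TMul.nonempty_pullTensorIso g M (RefHull.dual M)
  obtain ⟨b⟩ := CycPB.nonempty_pullback_dual g h0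
  let e : CohB1.tensorMod ((Scheme.Modules.pullback g).obj M) (dualM ((Scheme.Modules.pullback g).obj M)) ≅
      Coh.structureModule X :=
    PicGrp.tensorModIso (Iso.refl _) (CycPB.dualIso _ ≪≫ b.symm) ≪≫ a ≪≫
      (Scheme.Modules.pullback g).mapIso (asIso (W7Hull.evDual M)) ≪≫ DerPerf.pullUnitIso g
  have hd := isFinLocFree_dualM h
  rw [hK.map_mul _ _ h hd, ← hK.map_one]
  exact congrArg φ (SGA6Ext.cls_iso e.symm (PnReg.isFinLocFree_unit X)).symm

theorem tangent_step (hK : KRR.IsModel X K P φ) (n : ℕ) {k : X ⟶ Y} [IsClosedImmersion k]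
    (hCk : FlatMod.IsFinLocFree (Omega.conormal k)) {i : X ⟶ KRR.PY n Y} [IsClosedImmersion i]
    (hik : i ≫ KRR.pr n Y = k) :
    FlatMod.IsFinLocFree (Omega.conormal i) ∧
    φ (KRR.cl X (dualM (Omega.conormal i))) = φ (KRR.cl X (dualM (Omega.conormal k))) +
      (((n + 1 : ℕ) : K) * φ (KRR.cl X ((Scheme.Modules.pullback i).obj (Twist.twistOver n Y 1))) - 1) := by
  haveI : Smooth (KRR.pr n Y) := CycPB.smooth_toBase n Y
  haveI : IsProper (KRR.pr n Y) := (KSixLib.Exch.toBase_proper_flat_lfp n Y).1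
  have hd := OmegaLib.isUniversal_dOmega (KRR.pr n Y)
  let Ω := Omega.sheaf (KRR.pr n Y)
  let T := Twist.twistOver n Y 1
  have hP := PBundle.isProjBundle_free n Y
  let q := PBundle.q0 n Y
  have hfree := RelPCS.isFinLocFree_freeMod (X := Y) (n + 1)
  obtain ⟨eu⟩ := PBundle.euler_sequence hP hfree hd
  have hTi : PicF.IsInvertible T := PBundle.isInvertible_twistOver n Y 1
  have hT := ResDesc.isFinLocFree_of_isInvertible hTi
  haveI := hP.epi
  have hF := DerPerf.isFinLocFree_pullback (KRR.pr n Y) hfree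
  have hker := DCohLocus.isFinLocFree_kernel q hF hT
  have hΩ : FlatMod.IsFinLocFree Ω := by
    haveI := W7Hull.isIso_evDual hTi
    refine DQCoh.isFinLocFree_of_iso' ?_ (DerPerf.isFinLocFree_tensor hker
      (ResDesc.isFinLocFree_dual hT))
    exact PicGrp.tensorModIso eu.symm (Iso.refl _) ≪≫ TMul.assocIso _ _ _ ≪≫
      PicGrp.tensorModIso (Iso.refl _) (asIso (W7Hull.evDual T)) ≪≫ TMul.commIso _ _ ≪≫ TMul.leftUnitIso _
  let ΩX := (Scheme.Modules.pullback i).obj Ω
  let L := (Scheme.Modules.pullback i).obj T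
  have hΩX : FlatMod.IsFinLocFree ΩX := DerPerf.isFinLocFree_pullback i hΩ
  have hL : FlatMod.IsFinLocFree L := DerPerf.isFinLocFree_pullback i hT
  -- the conormal sequence
  obtain ⟨ψ, hψ, -⟩ := Conormal.existsUnique_conormalMap i k (KRR.pr n Y) (𝟙 X) (by rw [Category.id_comp, hik])
  obtain ⟨χ, hχ⟩ := GrpOmega.exists_conormalDiff i (OmegaSh.dOmega (KRR.pr n Y))
  obtain ⟨w, hS⟩ := Conormal.shortExact_second hik hd hψ hχ
  have hCk' : FlatMod.IsFinLocFree ((Scheme.Modules.pullback (𝟙 X)).obj (Omega.conormal k)) :=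
    DerPerf.isFinLocFree_pullback _ hCk
  have hCi : FlatMod.IsFinLocFree (Omega.conormal i) := VBTwo.isFinLocFree_middle hS hCk' hΩX
  have h1 : φ (KRR.cl X (dualM (Omega.conormal i))) =
      φ (KRR.cl X (dualM (Omega.conormal k))) + φ (KRR.cl X (dualM ΩX)) := by
    rw [show φ (KRR.cl X (dualM (Omega.conormal k))) =
        φ (KRR.cl X (dualM ((Scheme.Modules.pullback (𝟙 X)).obj (Omega.conormal k)))) from
      (dual_iso ((Scheme.Modules.pullbackId X).app (Omega.conormal k)) hCk').symm]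
    exact dual_add' hS hCk' hCi hΩX
  refine ⟨hCi, ?_⟩
  -- the Euler sequence
  have hE : (ShortComplex.mk (kernel.ι q) q (kernel.condition q)).ShortExact :=
    { exact := ShortComplex.exact_of_f_is_kernel _ (kernelIsKernel q) }
  have hE' := SGA6Ext.shortExact_pullback i hE hker hF hT
  let ef := (Scheme.Modules.pullback i).mapIso (DerPerf.pullFreeIso (KRR.pr n Y) (n + 1)) ≪≫
    DerPerf.pullFreeIso i (n + 1)
  have hkX := DerPerf.isFinLocFree_pullback i hker
  have hfX := DerPerf.isFinLocFree_pullback i hF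
  obtain ⟨a⟩ := TMul.nonempty_pullTensorIso i Ω T
  let ek : (Scheme.Modules.pullback i).obj (kernel q) ≅ CohB1.tensorMod ΩX L :=
    (Scheme.Modules.pullback i).mapIso eu.symm ≪≫ a.symm
  obtain ⟨b⟩ := nonempty_dualM_tensor L ΩX hΩX
  have h2 : ((n + 1 : ℕ) : K) =
      φ (KRR.cl X (dualM ΩX)) * φ (KRR.cl X (dualM L)) + φ (KRR.cl X (dualM L)) := by
    rw [hK.map_mul _ _ (isFinLocFree_dualM hΩX) (isFinLocFree_dualM hL), ← dual_free hK (n + 1),
      ← dual_iso ef hfX]
    refine (dual_add' (A := (Scheme.Modules.pullback i).obj (kernel q))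
      (B := (Scheme.Modules.pullback i).obj ((Scheme.Modules.pullback (KRR.pr n Y)).obj (FlatMod.freeMod Y (n + 1))))
      (C := L) hE' hkX hfX hL).trans (congrArg (· + φ (KRR.cl X (dualM L))) ?_)
    exact (dual_iso ek hkX).trans
      (congrArg φ (SGA6Ext.cls_iso b (isFinLocFree_dualM (DQCoh.isFinLocFree_of_iso' ek hkX))))
  have h3 := line_mul_dual hK i hTi
  rw [h1]
  refine congrArg (φ (KRR.cl X (dualM (Omega.conormal k))) + ·) ?_
  linear_combination (φ (KRR.cl X L)) * h2.symm + (-(φ (KRR.cl X (dualM ΩX))) - 1) * h3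

end Groth.Agent.K0ResLF
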