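import Groth.Agent.K0Res.Main
import Groth.Prelude.Def_KRR

/-!
The class of an object with a finite resolution is the alternating sum of the classes of the terms.
-/

set_option autoImplicit false
set_option backward.isDefEq.respectTransparency false
set_option backward.isDefEq.respectTransparency.types false
set_option linter.style.haveILetI false

universe v u

open CategoryTheory CategoryTheory.Limits

noncomputable section

namespace Groth.Agent.K0ResLF

variable {C : Type u} [Category.{v} C] [Abelian C] (P : ObjectProperty C)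

theorem cl_eq_sum_aux (hker : ∀ S : ShortComplex C, S.ShortExact → P S.X₂ → P S.X₃ → P S.X₁) :
    ∀ (n : ℕ) (L : ℕ → C) (d : ∀ i, L (i + 1) ⟶ L i) (A : C) (ε : L 0 ⟶ A) (_ : Epi ε)
      (w : d 0 ≫ ε = 0) (w' : ∀ i, d (i + 1) ≫ d i = 0) (_ : (ShortComplex.mk (d 0) ε w).Exact)
      (_ : ∀ i, (ShortComplex.mk (d (i + 1)) (d i) (w' i)).Exact) (_ : ∀ i, n < i → IsZero (L i))
      (_ : ∀ i, P (L i)) (_ : P A),
      KZero.clSub P A = ∑ k ∈ Finset.range (n + 1), (-1 : ℤ) ^ k • KZero.clSub P (L k)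
  | 0, L, d, A, ε, hε, w, w', h0, h, hz, hL, hA => by
    have := hε
    have hmono : Mono ε := h0.mono_g ((hz 1 (by omega)).eq_of_src _ _)
    have hK : P (kernel ε) := hker _ (K0Res.kerSeq_shortExact ε) (hL 0) hA
    have hzero : IsZero (kernel ε) := isZero_kernel_of_mono ε
    have e0 : KZero.clSub P (kernel ε) = 0 := by
      have hse : (ShortComplex.mk (𝟙 (kernel ε)) (0 : kernel ε ⟶ kernel ε) (by simp)).ShortExact :=
        { exact := ShortComplex.exact_of_isZero_X₂ _ hzero
          mono_f := inferInstanceAs (Mono (𝟙 (kernel ε)))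
          epi_g := ⟨fun a b _ => hzero.eq_of_src a b⟩ }
      have := K0Res.clSub_add P hse hK hK hK
      simpa using this
    have := K0Res.clSub_add P (K0Res.kerSeq_shortExact ε) hK (hL 0) hA
    dsimp [K0Res.kerSeq] at this
    rw [Finset.sum_range_one, pow_zero, one_smul, this, e0, zero_add]
  | n + 1, L, d, A, ε, hε, w, w', h0, h, hz, hL, hA => by
    have := hε
    have hK : P (kernel ε) := hker _ (K0Res.kerSeq_shortExact ε) (hL 0) hA
    let ε' : L 1 ⟶ kernel ε := kernel.lift ε (d 0) w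
    have hε' : Epi ε' := h0.epi_kernelLift
    have hw : d 1 ≫ ε' = 0 := by
      rw [← cancel_mono (kernel.ι ε), Category.assoc, kernel.lift_ι, w', zero_comp]
    have h0' : (ShortComplex.mk (d 1) ε' hw).Exact :=
      (ShortComplex.exact_iff_of_epi_of_isIso_of_mono
        ({ τ₁ := 𝟙 _, τ₂ := 𝟙 _, τ₃ := kernel.ι ε, comm₂₃ := by simp [ε'] } :
          ShortComplex.mk (d 1) ε' hw ⟶ ShortComplex.mk (d 1) (d 0) (w' 0))).2 (h 0)
    have ih := cl_eq_sum_aux hker n (fun i => L (i + 1)) (fun i => d (i + 1)) (kernel ε) ε' hε' hw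
      (fun i => w' (i + 1)) h0' (fun i => h (i + 1)) (fun i hi => hz (i + 1) (by omega)) (fun i => hL (i + 1)) hK
    have := K0Res.clSub_add P (K0Res.kerSeq_shortExact ε) hK (hL 0) hA
    dsimp [K0Res.kerSeq] at this
    rw [Finset.sum_range_succ', pow_zero, one_smul, this, ih]
    simp only [pow_succ, mul_neg, mul_one, neg_smul, Finset.sum_neg_distrib]
    abel

/-- The class of an object with a finite resolution. -/
theorem cl_eq_sum (hker : ∀ S : ShortComplex C, S.ShortExact → P S.X₂ → P S.X₃ → P S.X₁)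
    {A : C} (hA : P A) (n : ℕ) (L : ChainComplex C ℕ) (π : L ⟶ (ChainComplex.single₀ C).obj A) [QuasiIso π]
    (hz : ∀ i, n < i → IsZero (L.X i)) (hL : ∀ i, P (L.X i)) :
    KZero.clSub P A = ∑ k ∈ Finset.range (n + 1), (-1 : ℤ) ^ k • KZero.clSub P (L.X k) := by
  let ε : L.X 0 ⟶ A := π.f 0
  have w : L.d 1 0 ≫ ε = 0 := by
    change L.d 1 0 ≫ π.f 0 = 0
    rw [← π.comm]; simp
  have h0 : (ShortComplex.mk (L.d 1 0) ε w).Exact ∧ Epi ε := by
    have := (inferInstance : QuasiIsoAt π 0)
    rw [ChainComplex.quasiIsoAt₀_iff, ShortComplex.quasiIso_iff_of_zeros'] at this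
    · refine (ShortComplex.exact_and_epi_g_iff_of_iso ?_).2 this
      exact ShortComplex.isoMk (Iso.refl _) (Iso.refl _) (Iso.refl _)
        (by simp) (by simp [ε])
    all_goals first | rfl | exact L.shape _ _ (by simp)
  refine cl_eq_sum_aux P hker n L.X (fun i => L.d (i + 1) i) A ε h0.2 w (fun i => L.d_comp_d _ _ _) h0.1
    (fun i => ?_) hz hL hA
  have he : L.ExactAt (i + 1) := (quasiIsoAt_iff_exactAt' π _ (ChainComplex.exactAt_succ_single_obj _ _)).1 inferInstance
  exact (HomologicalComplex.exactAt_iff' _ (i + 2) (i + 1) i (by simp) (by simp)).1 he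

end Groth.Agent.K0ResLF
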