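import Groth.Agent.K0ResLF.Ample
import Groth.Agent.K0ResLF.Euler
import Groth.Agent.KFlat.Acyclic
import Groth.Agent.KFlat.Pullback
import Groth.Agent.KFlat.SchemeStalk
import Groth.Agent.LocFree.Rank
import Groth.Agent.BivarOps.P1Inter
import Mathlib.Algebra.Homology.HomotopyCategory.MappingCone

/-!
The augmentation ideal of `K₀` of bundles on a scheme with an ample module is nil.
-/

set_option autoImplicit false
set_option linter.style.haveILetI false
set_option linter.unusedSectionVars false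
set_option backward.isDefEq.respectTransparency false
set_option backward.isDefEq.respectTransparency.types false
set_option maxHeartbeats 1000000

universe v u

open CategoryTheory CategoryTheory.Limits AlgebraicGeometry MonoidalCategory CochainComplex ZeroObject
open scoped TensorProduct

attribute [local instance] HasDerivedCategory.standard

noncomputable section

namespace Groth.Agent.K0ResLF

variable {X : Scheme.{u}}

/-- local abbreviation of the stalk functor -/
abbrev Sx (x : X) : X.Modules ⥤ ModuleCat.{u} (X.presheaf.stalk x) := DerSch.stalkFunctor X x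

/-- stalks of tensor products -/
def stTensNat (A : X.Modules) (x : X) :
    Sx x ⋙ tensorLeft ((Sx x).obj A) ≅ (DCoh.tensorBi (X := X)).obj A ⋙ Sx x :=
  NatIso.ofComponents (fun G => KFlat.stTensorIso A G x) fun {G G'} g => by
    have h := KFlat.stTensorIso_natural (𝟙 A) g x
    simp only [CategoryTheory.Functor.map_id, id_tensorHom] at h
    refine h.trans ?_
    congr 2

lemma isIso_tens_stalk {A B : X.Modules} (q : A ⟶ B) (x : X) [IsIso ((Sx x).map q)] (G : X.Modules) :
    IsIso ((Sx x).map (((DCoh.tensorBi (X := X)).map q).app G)) := by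
  have e := KFlat.stTensorIso_natural_left q G x
  rw [← Iso.inv_comp_eq] at e
  rw [← e]
  infer_instance

lemma acyclic_tens_stalk {A : X.Modules} (hA : FlatMod.IsFinLocFree A) (x : X) (C : CochainComplex X.Modules ℤ)
    (h : ((KFlat.stCx x).obj C).Acyclic) :
    ((KFlat.stCx x).obj ((((DCoh.tensorBi (X := X)).obj A).mapHomologicalComplex _).obj C)).Acyclic := by
  haveI : Module.Free (X.presheaf.stalk x) ((Sx x).obj A) := LocFree.free_stalk_of_isFinLocFree hA x
  intro i
  refine (HomologicalComplex.exactAt_iff _ i).2 ?_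
  have h2 : ((HomologicalComplex.sc ((KFlat.stCx x).obj C) i).map (tensorLeft ((Sx x).obj A))).Exact :=
    ((Module.Flat.iff_lTensor_preserves_shortComplex_exact ((Sx x).obj A)).1 inferInstance) _
      ((HomologicalComplex.exactAt_iff _ i).1 (h i))
  exact (ShortComplex.exact_iff_of_iso ((C.sc i).mapNatIso (stTensNat A x))).1 h2

/-- alternating classes of a complex in degrees `[-m, 0]` -/
def chiC (C : CochainComplex X.Modules ℤ) (m : ℕ) : SGA6.Kvb X :=
  ∑ i ∈ Finset.range (m + 1), (-1 : ℤ) ^ i • KRR.cl X (C.X (-(i : ℤ)))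

/-- bundles in degrees `[-m, 0]` -/
structure IsVB (C : CochainComplex X.Modules ℤ) (m : ℕ) : Prop where
  lf : ∀ i, FlatMod.IsFinLocFree (C.X i)
  low : ∀ i : ℤ, i < -(m : ℤ) → IsZero (C.X i)
  high : ∀ i : ℤ, 0 < i → IsZero (C.X i)

theorem chiC_eq_zero {C : CochainComplex X.Modules ℤ} {m : ℕ} (hC : IsVB C m) (h : C.Acyclic) :
    chiC C m = 0 := by
  let L : ℕ → X.Modules := fun i => C.X (-(i : ℤ))
  let d : ∀ i, L (i + 1) ⟶ L i := fun i => C.d _ _
  have hz : IsZero (0 : X.Modules) := isZero_zero _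
  have h0 : (ShortComplex.mk (d 0) (0 : L 0 ⟶ (0 : X.Modules)) comp_zero).Exact := by
    have h1 := (C.exactAt_iff' (-((0 + 1 : ℕ) : ℤ)) (-((0 : ℕ) : ℤ)) 1 (by simp) (by simp)).1 (h _)
    refine (ShortComplex.exact_iff_of_iso ?_).1 h1
    exact ShortComplex.isoMk (Iso.refl _) (Iso.refl _) ((hC.high 1 one_pos).iso hz) (by simp [d])
      ((hz).eq_of_tgt _ _)
  have hex : ∀ i, (ShortComplex.mk (d (i + 1)) (d i) (C.d_comp_d _ _ _)).Exact := fun i =>
    (C.exactAt_iff' _ _ _ (by simp; omega) (by simp)).1 (h _)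
  have := cl_eq_sum_aux (KRR.vbP X) (fun S hS h₂ h₃ => by
      haveI := hS.epi_g
      exact DQCoh.isFinLocFree_of_iso' (hS.fIsKernel.conePointUniqueUpToIso (kernelIsKernel S.g)).symm
        (DCohLocus.isFinLocFree_kernel S.g h₂ h₃))
    m L d (0 : X.Modules) 0 ⟨fun a b _ => hz.eq_of_src a b⟩ comp_zero (fun i => C.d_comp_d _ _ _) h0 hex
    (fun i hi => hC.low _ (by omega)) (fun i => hC.lf _) (DQCoh.isFinLocFree_of_isZero hz)
  exact this.symm.trans (K0Dev.cl_zero hz)

section Model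

variable [ConnectedSpace ↥X] {K : Type v} [CommRing K] [LambdaRing.LambdaOps K] {P : LambdaRing.PosStructure K}
  {φ : SGA6.Kvb X →+ K} (hK : KRR.IsModel X K P φ)
include hK

/-- One step: multiply the class by `[B] - [A]`, shrinking the exactness locus complement. -/
theorem exists_step {A B : X.Modules} (hA : FlatMod.IsFinLocFree A) (hB : FlatMod.IsFinLocFree B) (q : A ⟶ B)
    {C : CochainComplex X.Modules ℤ} {m : ℕ} (hC : IsVB C m) :
    ∃ C' : CochainComplex X.Modules ℤ, IsVB C' (m + 1) ∧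
      φ (chiC C' (m + 1)) = (φ (KRR.cl X B) - φ (KRR.cl X A)) * φ (chiC C m) ∧
      ∀ x : X, (((KFlat.stCx x).obj C).Acyclic ∨ IsIso ((Sx x).map q)) → ((KFlat.stCx x).obj C').Acyclic := by
  let F := (((DCoh.tensorBi (X := X)).obj A).mapHomologicalComplex (ComplexShape.up ℤ)).obj C
  let G := (((DCoh.tensorBi (X := X)).obj B).mapHomologicalComplex (ComplexShape.up ℤ)).obj C
  let ψ : F ⟶ G := (NatTrans.mapHomologicalComplex ((DCoh.tensorBi (X := X)).map q) (ComplexShape.up ℤ)).app C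
  have hFl : ∀ i, FlatMod.IsFinLocFree (F.X i) := fun i => DerPerf.isFinLocFree_tensor hA (hC.lf i)
  have hGl : ∀ i, FlatMod.IsFinLocFree (G.X i) := fun i => DerPerf.isFinLocFree_tensor hB (hC.lf i)
  have hF0 : ∀ i, IsZero (C.X i) → IsZero (F.X i) := fun i h => ((DCoh.tensorBi (X := X)).obj A).map_isZero h
  have hG0 : ∀ i, IsZero (C.X i) → IsZero (G.X i) := fun i h => ((DCoh.tensorBi (X := X)).obj B).map_isZero h
  let e : ∀ i : ℤ, (mappingCone ψ).X i ≅ F.X (i + 1) ⊞ G.X i := fun i =>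
    HomologicalComplex.homotopyCofiber.XIsoBiprod ψ i (i + 1) rfl
  have hbz : ∀ {a b : X.Modules}, IsZero a → IsZero b → IsZero (a ⊞ b) := fun ha hb =>
    (IsZero.iff_id_eq_zero _).2 (biprod.hom_ext' _ _ (ha.eq_of_src _ _) (hb.eq_of_src _ _))
  have hlf : ∀ i, FlatMod.IsFinLocFree ((mappingCone ψ).X i) := fun i =>
    DQCoh.isFinLocFree_of_iso' (e i).symm
      (SGA6Ext.finLocFree_of_rank (SGA6Ext.cls_biprod (hFl (i + 1)) (hGl i)).1)
  refine ⟨mappingCone ψ, ⟨hlf, fun i hi => ?_, fun i hi => ?_⟩, ?_, fun x hx => ?_⟩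
  · refine IsZero.of_iso (hbz ?_ ?_) (e i)
    · exact hF0 _ (hC.low _ (by omega))
    · exact hG0 _ (hC.low _ (by omega))
  · refine IsZero.of_iso (hbz ?_ ?_) (e i)
    · exact hF0 _ (hC.high _ (by omega))
    · exact hG0 _ (hC.high _ (by omega))
  · have hi : ∀ i : ℤ, φ (KRR.cl X ((mappingCone ψ).X i)) =
        φ (KRR.cl X A) * φ (KRR.cl X (C.X (i + 1))) + φ (KRR.cl X B) * φ (KRR.cl X (C.X i)) := fun i => by
      have h1 : KRR.cl X ((mappingCone ψ).X i) = KRR.cl X (F.X (i + 1)) + KRR.cl X (G.X i) :=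
        (SGA6Ext.cls_iso (e i) (hlf i)).trans (SGA6Ext.cls_biprod (hFl (i + 1)) (hGl i)).2
      rw [h1, map_add, hK.map_mul _ _ hA (hC.lf _), hK.map_mul _ _ hB (hC.lf _)]
      rfl
    have hz : ∀ i, IsZero (C.X i) → φ (KRR.cl X (C.X i)) = 0 := fun i h => by
      rw [show KRR.cl X (C.X i) = 0 from K0Dev.cl_zero h, map_zero]
    simp only [chiC, map_sum, map_zsmul, hi, smul_add, Finset.sum_add_distrib, sub_mul, Finset.mul_sum]
    have h1 : ∑ k ∈ Finset.range (m + 1 + 1), (-1 : ℤ) ^ k • (φ (KRR.cl X B) * φ (KRR.cl X (C.X (-(k : ℤ))))) =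
        ∑ k ∈ Finset.range (m + 1), φ (KRR.cl X B) * ((-1 : ℤ) ^ k • φ (KRR.cl X (C.X (-(k : ℤ))))) := by
      rw [Finset.sum_range_succ, hz _ (hC.low _ (by omega)), mul_zero, smul_zero, add_zero]
      exact Finset.sum_congr rfl fun k _ => (mul_smul_comm _ _ _).symm
    have h2 : ∑ k ∈ Finset.range (m + 1 + 1), (-1 : ℤ) ^ k • (φ (KRR.cl X A) * φ (KRR.cl X (C.X (-(k : ℤ) + 1)))) =
        -∑ k ∈ Finset.range (m + 1), φ (KRR.cl X A) * ((-1 : ℤ) ^ k • φ (KRR.cl X (C.X (-(k : ℤ))))) := by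
      rw [Finset.sum_range_succ', hz (-((0 : ℕ) : ℤ) + 1) (hC.high _ (by simp)), mul_zero, smul_zero, add_zero,
        ← Finset.sum_neg_distrib]
      refine Finset.sum_congr rfl fun k _ => ?_
      rw [show -((k + 1 : ℕ) : ℤ) + 1 = -(k : ℤ) by omega, mul_smul_comm, pow_succ, mul_comm _ (-1 : ℤ), mul_smul,
        neg_one_smul]
    rw [h1, h2, Finset.sum_sub_distrib]
    abel
  · haveI : QuasiIso ((KFlat.stCx x).map ψ) := by
      rcases hx with hx | hx
      · have h1 := acyclic_tens_stalk hA x C hx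
        have h2 := acyclic_tens_stalk hB x C hx
        exact ⟨fun i => (quasiIsoAt_iff_exactAt _ _ (h1 i)).2 (h2 i)⟩
      · haveI : ∀ i, IsIso (((KFlat.stCx x).map ψ).f i) := fun i => isIso_tens_stalk q x (C.X i)
        haveI := HomologicalComplex.Hom.isIso_of_components ((KFlat.stCx x).map ψ)
        infer_instance
    have hc := KFlat.mappingCone_acyclic ((KFlat.stCx x).map ψ)
    exact fun i => (hc i).of_iso (mappingCone.mapHomologicalComplexIso ψ (Sx x)).symm

/-- A product of differences vanishes as soon as the maps are somewhere isomorphisms around every point. -/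
theorem prod_eq_zero {A B : X.Modules} (hA : FlatMod.IsFinLocFree A) (hB : FlatMod.IsFinLocFree B)
    {N : ℕ} (q : Fin N → (A ⟶ B)) (h : ∀ x : X, ∃ i, IsIso ((Sx x).map (q i))) :
    (φ (KRR.cl X B) - φ (KRR.cl X A)) ^ N = 0 := by
  have key : ∀ k, k ≤ N → ∃ C : CochainComplex X.Modules ℤ, IsVB C k ∧
      φ (chiC C k) = (φ (KRR.cl X B) - φ (KRR.cl X A)) ^ k ∧
      ∀ x : X, (∃ i : Fin N, i.1 < k ∧ IsIso ((Sx x).map (q i))) → ((KFlat.stCx x).obj C).Acyclic := by
    intro k
    induction k with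
    | zero =>
      intro _
      let O := Coh.structureModule X
      let C := (HomologicalComplex.single X.Modules (ComplexShape.up ℤ) 0).obj O
      refine ⟨C, ⟨fun i => ?_, fun i hi => HomologicalComplex.isZero_single_obj_X _ _ _ _ (by simp at hi; omega),
        fun i hi => HomologicalComplex.isZero_single_obj_X _ _ _ _ (by omega)⟩, ?_,
        fun x ⟨i, hi, _⟩ => absurd hi (Nat.not_lt_zero _)⟩
      · by_cases hi : i = 0
        · subst hi
          exact DQCoh.isFinLocFree_of_iso' (HomologicalComplex.singleObjXSelf _ 0 O).symm (SGA6Ext.finLocFree_unit X)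
        · exact DQCoh.isFinLocFree_of_isZero (HomologicalComplex.isZero_single_obj_X _ _ _ _ hi)
      · rw [chiC, Finset.sum_range_one, pow_zero, one_smul, Nat.cast_zero, neg_zero,
          show KRR.cl X (C.X 0) = KRR.cl X O from SGA6Ext.cls_iso (HomologicalComplex.singleObjXSelf _ 0 O)
            (DQCoh.isFinLocFree_of_iso' (HomologicalComplex.singleObjXSelf _ 0 O).symm (SGA6Ext.finLocFree_unit X)),
          pow_zero]
        exact hK.map_one
    | succ k ih =>
      intro hk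
      obtain ⟨C, hC, hχ, hac⟩ := ih (by omega)
      obtain ⟨C', hC', hχ', hac'⟩ := exists_step hK hA hB (q ⟨k, by omega⟩) hC
      refine ⟨C', hC', by rw [hχ', hχ, pow_succ'], fun x ⟨i, hi, hiso⟩ => hac' x ?_⟩
      rcases Nat.lt_succ_iff_lt_or_eq.1 hi with h' | h'
      · exact Or.inl (hac x ⟨i, h', hiso⟩)
      · exact Or.inr (by rwa [show (⟨k, by omega⟩ : Fin N) = i from Fin.ext h'.symm])
  obtain ⟨C, hC, hχ, hac⟩ := key N le_rfl
  rw [← hχ, chiC_eq_zero hC ((KFlat.acyclic_iff_stalks C).2 fun x => hac x (by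
    obtain ⟨i, hi⟩ := h x
    exact ⟨i, i.2, hi⟩)), map_zero]

end Model

/-- A subfamily of a spanning family spans, over a local ring. -/
lemma exists_sub_spanning {x : X} {M : X.Modules} {r n : ℕ} (hfin : Module.Finite (X.presheaf.stalk x) (M.presheaf.stalk x))
    (hn : LocFree.rk M x = n) (m : Fin r → M.presheaf.stalk x)
    (hm : Submodule.span (X.presheaf.stalk x) (Set.range m) = ⊤) :
    ∃ σ : Fin n → Fin r, Submodule.span (X.presheaf.stalk x) (Set.range (m ∘ σ)) = ⊤ := by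
  classical
  set κ := IsLocalRing.ResidueField (X.presheaf.stalk x)
  obtain ⟨ι, a, ha, hspan, hli⟩ := exists_linearIndependent' κ
    (fun i => (1 : κ) ⊗ₜ[X.presheaf.stalk x] m i)
  haveI : Finite ι := Finite.of_injective a ha
  haveI := Fintype.ofFinite ι
  rw [LocFree.span_residue m hm] at hspan
  let b := Module.Basis.mk hli hspan.ge
  have hc : Fintype.card ι = n := (Module.finrank_eq_card_basis b).symm.trans hn
  let e := (Fintype.equivFinOfCardEq hc).symm
  refine ⟨a ∘ e, ?_⟩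
  have h := IsLocalRing.span_eq_top_of_tmul_eq_basis (m ∘ a) b (fun i => (Module.Basis.mk_apply hli hspan.ge i).symm)
  rw [← Function.comp_assoc, e.surjective.range_comp]
  exact h

/-- The maps `O^n ⟶ E` extracted from a surjection `O^r ⟶ E`. -/
def subMap {r n : ℕ} {E : X.Modules} (π : FlatMod.freeMod X r ⟶ E) (σ : Fin n → Fin r) :
    FlatMod.freeMod X n ⟶ E :=
  Sigma.desc fun j => Sigma.ι (fun _ : Fin r => Coh.structureModule X) (σ j) ≫ π

theorem exists_subMap_isIso {r n : ℕ} {E : X.Modules} (hE : FlatMod.IsFinLocFreeOfRank n E)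
    (π : FlatMod.freeMod X r ⟶ E) [Epi π] (x : X) :
    ∃ σ : Fin n → Fin r, IsIso ((Sx x).map (subMap π σ)) := by
  haveI : PreservesColimitsOfSize.{0, 0} (Sx x) := preservesSmallestColimits_of_preservesColimits _
  let O := Coh.structureModule X
  obtain ⟨hOf, hOfin⟩ := DCohLocus.freeAt_of_isFinLocFree (SGA6Ext.finLocFree_unit X) x
  haveI : Module.Free (X.presheaf.stalk x) ((Sx x).obj O) := hOf
  have hO1 : Module.finrank (X.presheaf.stalk x) ((Sx x).obj O) = 1 := by
    haveI : Module.Free (X.presheaf.stalk x) (O.presheaf.stalk x) := hOf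
    haveI : Module.Finite (X.presheaf.stalk x) (O.presheaf.stalk x) := hOfin
    exact (Module.finrank_baseChange (R := IsLocalRing.ResidueField (X.presheaf.stalk x))).symm.trans
      (SGA6Ext.rk_of_rank SGA6Ext.isRank_unit x)
  haveI : Module.Free (X.presheaf.stalk x) ((Sx x).obj O) := hOf
  obtain ⟨g, -, hg⟩ := (finrank_eq_one_iff' (K := X.presheaf.stalk x) (V := ((Sx x).obj O : Type u))).1 hO1
  let m : Fin r → E.presheaf.stalk x := fun i => ((Sx x).map (Sigma.ι (fun _ : Fin r => O) i ≫ π)).hom g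
  have hm : Submodule.span (X.presheaf.stalk x) (Set.range m) = ⊤ := by
    by_contra hne
    let W : Submodule (X.presheaf.stalk x) ((Sx x).obj E) := Submodule.span _ (Set.range m)
    have h0 : (Sx x).map π ≫ ModuleCat.ofHom W.mkQ = 0 := by
      refine (isColimitOfPreserves (Sx x) (coproductIsCoproduct fun _ : Fin r => O)).hom_ext fun i => ?_
      rw [comp_zero]
      ext w
      obtain ⟨c, rfl⟩ := hg w
      have hw : ((Sx x).map (Sigma.ι (fun _ : Fin r => O) i.as ≫ π)).hom (c • g) ∈ W := by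
        rw [map_smul]
        exact W.smul_mem c (Submodule.subset_span ⟨i.as, rfl⟩)
      rw [Functor.map_comp] at hw
      exact (Submodule.Quotient.mk_eq_zero W).2 hw
    haveI : Epi ((Sx x).map π) := inferInstance
    have h1 : (ModuleCat.ofHom W.mkQ) = 0 := by rw [← cancel_epi ((Sx x).map π), h0, comp_zero]
    refine hne (eq_top_iff.2 fun w _ => (Submodule.Quotient.mk_eq_zero W).1 ?_)
    exact congrArg (fun f => f.hom w) h1
  obtain ⟨hEf, hEfin⟩ := DCohLocus.freeAt_of_isFinLocFree (SGA6Ext.finLocFree_of_rank hE) x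
  obtain ⟨σ, hσ⟩ := exists_sub_spanning hEfin (SGA6Ext.rk_of_rank hE x) m hm
  refine ⟨σ, ?_⟩
  let f : (Sx x).obj (FlatMod.freeMod X n) ⟶ (Sx x).obj E := (Sx x).map (subMap π σ)
  have hsurj : Function.Surjective f.hom := by
    rw [← LinearMap.range_eq_top, ← top_le_iff, ← hσ, Submodule.span_le]
    rintro _ ⟨j, rfl⟩
    refine ⟨((Sx x).map (Sigma.ι (fun _ : Fin n => O) j)).hom g, ?_⟩
    show ((Sx x).map (Sigma.ι (fun _ : Fin n => O) j) ≫ f).hom g = m (σ j)
    rw [← Functor.map_comp]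
    simp [subMap, m, O]
  have hfr : FlatMod.IsFinLocFreeOfRank n (FlatMod.freeMod X n) := BivarOps.isFinLocFreeOfRank_free n
  obtain ⟨hPf, hPfin⟩ := DCohLocus.freeAt_of_isFinLocFree (SGA6Ext.finLocFree_of_rank hfr) x
  haveI : Module.Free (X.presheaf.stalk x) ((Sx x).obj (FlatMod.freeMod X n)) := hPf
  haveI : Module.Free (X.presheaf.stalk x) ((Sx x).obj E) := hEf
  haveI : Module.Finite (X.presheaf.stalk x) ((Sx x).obj (FlatMod.freeMod X n)) := hPfin
  haveI : Module.Finite (X.presheaf.stalk x) ((Sx x).obj E) := hEfin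
  have hfe : Module.finrank (X.presheaf.stalk x) ((Sx x).obj (FlatMod.freeMod X n)) =
      Module.finrank (X.presheaf.stalk x) ((Sx x).obj E) :=
    ((Module.finrank_baseChange (R := IsLocalRing.ResidueField (X.presheaf.stalk x))).symm.trans
      (SGA6Ext.rk_of_rank hfr x)).trans
    ((Module.finrank_baseChange (R := IsLocalRing.ResidueField (X.presheaf.stalk x))).symm.trans
      (SGA6Ext.rk_of_rank hE x)).symm
  let e := LinearEquiv.ofFinrankEq (R := X.presheaf.stalk x) ((Sx x).obj (FlatMod.freeMod X n)) ((Sx x).obj E) hfe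
  have hinj : Function.Injective f.hom := by
    have := OrzechProperty.injective_of_surjective_endomorphism (e.symm.toLinearMap.comp f.hom)
      (e.symm.surjective.comp hsurj)
    exact fun a b hab => this (congrArg e.symm hab)
  exact (ConcreteCategory.isIso_iff_bijective f).2 ⟨hinj, hsurj⟩

section Model

variable [ConnectedSpace ↥X] {K : Type v} [CommRing K] [LambdaRing.LambdaOps K] {P : LambdaRing.PosStructure K}
  {φ : SGA6.Kvb X →+ K} (hK : KRR.IsModel X K P φ)
include hK

theorem isNilpotent_twist_sub {L : X.Modules} (hL : CohB1.IsAmple L) {E : X.Modules} {n : ℕ}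
    (hE : FlatMod.IsFinLocFreeOfRank n E) :
    ∃ n₀, ∀ a, n₀ ≤ a → IsNilpotent (φ (KRR.cl X E) * φ (KRR.cl X L) ^ a - (n : K)) := by
  have hEl := SGA6Ext.finLocFree_of_rank hE
  obtain ⟨n₀, hn₀⟩ := exists_epi_free_twist hL E (LocFree.isQCoh_of_isFinLocFree hEl)
    (LocFree.isFT_of_isFinLocFree hEl)
  refine ⟨n₀, fun a ha => ?_⟩
  obtain ⟨r, π, hπ⟩ := hn₀ a ha
  haveI := hπ
  have hLl : FlatMod.IsFinLocFree L := ResDesc.isFinLocFree_of_isInvertible hL.1
  obtain ⟨hPl, hPc⟩ := phi_tensorPow hK hLl a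
  have hG := SGA6Ext.isFinLocFree_tm hEl hPl
  have hGr : FlatMod.IsFinLocFreeOfRank n (CohB1.tensorMod E (CohB1.tensorPow L a)) := by
    have h1 := SGA6Ext.rank_tm hEl hPl
    have h2 : FlatMod.IsFinLocFreeOfRank 1 (CohB1.tensorPow L a) :=
      CurveRR.isFinLocFreeOfRank_one (TMul.isInvertible_tensorPow hL.1 a)
    rw [SGA6Ext.rank_of hE, SGA6Ext.rank_of h2, mul_one] at h1
    exact h1 ▸ SGA6Ext.isRank hG
  refine ⟨Fintype.card (Fin n → Fin r), ?_⟩
  rw [← hPc, ← phi_mul hK hEl hPl, ← phi_free hK n]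
  refine prod_eq_zero hK (SGA6Ext.finLocFree_of_rank (BivarOps.isFinLocFreeOfRank_free n)) hG
    (fun i => subMap π ((Fintype.equivFin (Fin n → Fin r)).symm i)) fun x => ?_
  obtain ⟨σ, hσ⟩ := exists_subMap_isIso hGr π x
  exact ⟨Fintype.equivFin (Fin n → Fin r) σ, by rw [Equiv.symm_apply_apply]; exact hσ⟩

theorem isNilpotent_of_aug_eq_zero {L : X.Modules} (hL : CohB1.IsAmple L) {x : K} (hx : P.aug x = 0) :
    IsNilpotent x := by
  have hL1 := CurveRR.isFinLocFreeOfRank_one hL.1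
  have hO : ∃ a₀, ∀ a, a₀ ≤ a → IsNilpotent (φ (KRR.cl X L) ^ a - 1) := by
    obtain ⟨a₀, ha⟩ := isNilpotent_twist_sub hK hL SGA6Ext.isRank_unit
    exact ⟨a₀, fun a h => by simpa [hK.map_one] using ha a h⟩
  have cls : ∀ (n : ℕ) (E : X.Modules), FlatMod.IsFinLocFreeOfRank n E →
      IsNilpotent (φ (KRR.cl X E) - (n : K)) := by
    intro n E hE
    obtain ⟨n₁, h₁⟩ := isNilpotent_twist_sub hK hL hE
    obtain ⟨n₂, h₂⟩ := hO
    obtain ⟨a, ha1, ha2⟩ : ∃ a, n₁ ≤ a ∧ n₂ ≤ a := ⟨max n₁ n₂, le_max_left _ _, le_max_right _ _⟩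
    have hw := h₂ a ha2
    have hu : IsUnit (φ (KRR.cl X L) ^ a) := by
      have := hw.isUnit_add_one
      rwa [sub_add_cancel] at this
    have h3 : IsNilpotent ((φ (KRR.cl X E) - (n : K)) * φ (KRR.cl X L) ^ a) := by
      rw [show (φ (KRR.cl X E) - (n : K)) * φ (KRR.cl X L) ^ a =
        (φ (KRR.cl X E) * φ (KRR.cl X L) ^ a - (n : K)) - (n : K) * (φ (KRR.cl X L) ^ a - 1) by ring]
      exact (Commute.all _ _).isNilpotent_sub (h₁ a ha1) ((Commute.all _ _).isNilpotent_mul_left hw)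
    obtain ⟨N, hN⟩ := h3
    rw [mul_pow] at hN
    exact ⟨N, (hu.pow N).mul_left_eq_zero.1 hN⟩
  obtain ⟨e, f, he, hf, rfl⟩ := P.exists_sub x
  obtain ⟨n, E, -, hE, rfl⟩ := (hK.mem_pos_iff e).1 he
  obtain ⟨k, F, -, hF, rfl⟩ := (hK.mem_pos_iff f).1 hf
  rw [map_sub, hK.aug_cl n E hE, hK.aug_cl k F hF, sub_eq_zero, Nat.cast_inj] at hx
  subst hx
  rw [show φ (KRR.cl X E) - φ (KRR.cl X F) = (φ (KRR.cl X E) - (n : K)) - (φ (KRR.cl X F) - (n : K)) by ring]
  exact (Commute.all _ _).isNilpotent_sub (cls n E hE) (cls n F hF)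

end Model

end Groth.Agent.K0ResLF
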