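import Groth.Agent.K0ResLF.RRNil
import Groth.Agent.K0ResLF.Nil
import Groth.Agent.KSplit.GammaModel
import Groth.Agent.PnReg.KModel
import Groth.Agent.PnReg.KTwist
import Groth.Agent.ProjMor.Segre

/-!
Adams–Riemann–Roch for the projection of a projective space over a base.
-/

set_option autoImplicit false
set_option linter.unusedSectionVars false
set_option linter.style.haveILetI false
set_option backward.isDefEq.respectTransparency false
set_option backward.isDefEq.respectTransparency.types false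
set_option maxHeartbeats 1000000

universe v w u

open CategoryTheory CategoryTheory.Limits AlgebraicGeometry TopologicalSpace Opposite
open LambdaRing Polynomial
open scoped TensorProduct

noncomputable section

namespace Groth.Agent.K0ResLF.RR

open Groth.Agent.KSplit

section Transfer

variable {A : Type v} {B : Type w} [CommRing A] [CommRing B] [LambdaOps A] [LambdaOps B]
  {PA : PosStructure A} {PB : PosStructure B}

/-- Adams operations commute with homomorphisms of λ-rings with augmentation. -/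
theorem map_adams (f : A →+* B) (hlam : ∀ i x, f (LambdaOps.lam i x) = LambdaOps.lam i (f x))
    {j : ℕ} (hj : 1 ≤ j) (x : A) : f (adams PA j x) = adams PB j (f x) := by
  rw [Lambda.adams_eq PA hj, Lambda.adams_eq PB hj, Lambda.adamsOp_eq, Lambda.adamsOp_eq, Lambda.map_N]
  exact congrArg (fun e => Lambda.N e j) (funext fun i => hlam i x)

/-- Bott classes commute with homomorphisms of λ-rings with augmentation. -/
theorem map_bott (f : A →+* B) (hlam : ∀ i x, f (LambdaOps.lam i x) = LambdaOps.lam i (f x))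
    (haug : ∀ x, PB.aug (f x) = PA.aug x) (j : ℕ) (x : A) : f (KRR.bott PA j x) = KRR.bott PB j (f x) := by
  simp only [KRR.bott]
  rw [haug, Lambda.map_aeval_int]
  simp only [hlam]

end Transfer

section Sigma

variable {K : Type v} [CommRing K] [LambdaOps K]

theorem lamSeries_natCast (P : PosStructure K) (m : ℕ) : lamSeries (m : K) = (1 + PowerSeries.X) ^ m := by
  have h1 : lamSeries (1 : K) = 1 + PowerSeries.X := by
    ext n
    rw [lamSeries, PowerSeries.coeff_mk, map_add, PowerSeries.coeff_one, PowerSeries.coeff_X]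
    rcases n with _ | _ | n
    · simp [LambdaOps.lam_zero]
    · simp [LambdaOps.lam_one]
    · rw [Lambda.lam_one_eq_zero_of_pos P _ (by omega)]
      simp
  induction m with
  | zero => rw [Nat.cast_zero, pow_zero, Lambda.lamSeries_zero]
  | succ m ih => rw [Nat.cast_succ, Lambda.lamSeries_add, ih, h1, pow_succ]

theorem sigma_natCast_succ (P : PosStructure K) (n i : ℕ) :
    KRR.sigma i ((n + 1 : ℕ) : K) = ((n + i).choose n : K) := by
  have h := KRRLam.rescale_lamSeries_mul_sigma (K := K) ((n + 1 : ℕ) : K)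
  rw [lamSeries_natCast P, map_pow, map_add, map_one, PowerSeries.rescale_X] at h
  simp only [map_neg, map_one, neg_mul, one_mul, ← sub_eq_add_neg] at h
  have h2 : ((PowerSeries.invOneSubPow K (n + 1)).val) * (1 - PowerSeries.X) ^ (n + 1) = 1 := by
    rw [← PowerSeries.invOneSubPow_inv_eq_one_sub_pow]
    exact (PowerSeries.invOneSubPow K (n + 1)).val_inv
  rw [KRR.sigma, ← left_inv_eq_right_inv h2 h, PowerSeries.invOneSubPow_val_succ_eq_mk_add_choose,
    PowerSeries.coeff_mk]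

end Sigma

section Pn

variable {n : ℕ} {Y : Scheme.{u}}

/-- The bundle of the trivial module. -/
@[reducible] def bunPn (n : ℕ) (Y : Scheme.{u}) : PBReg.Bun n Y :=
  ⟨KRR.PY n Y, KRR.pr n Y, FlatMod.freeMod Y (n + 1), fun _ =>
    ⟨⊤, trivial, ⟨(Scheme.Modules.restrictFunctorIsoPullback (⊤ : Y.Opens).ι).app _ ≪≫
      Groth.Agent.DerPerf.pullFreeIso (⊤ : Y.Opens).ι (n + 1)⟩⟩, Twist.twistOver n Y 1,
    PBundle.q0 n Y, PBundle.isProjBundle_free (n := n) (S := Y)⟩

theorem stable_bunPn [IsNoetherian Y] [ConnectedSpace ↥Y] :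
    IsNoetherian (KRR.PY n Y) ∧ ConnectedSpace ↥(KRR.PY n Y) := by
  have hp : IsProper (bunPn n Y).π := by
    show IsProper (CohB1.ProjSpaceOver.toBase n Y)
    haveI := ProjMor.isProper_toSpec n (ULift.{u} ℤ)
    exact MorphismProperty.pullback_snd _ _ inferInstance
  exact stable_noeth (bunPn n Y) hp ⟨‹_›, ‹_›⟩

variable [IsNoetherian Y] [ConnectedSpace ↥Y]

theorem exists_isAmple_of_isQProjOver {S : Scheme.{u}} [IsAffine S] {qY : Y ⟶ S} (h : KRR.IsQProjOver qY) :
    ∃ L : Y.Modules, CohB1.IsAmple L := by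
  obtain ⟨N, i, hi, -⟩ := h
  haveI := hi
  exact ⟨_, TMul.isAmple_pullback i i.isEmbedding.isInducing (ProjMor.isAmple_twistOver N S)⟩

theorem adams_pushPr {L : Y.Modules} (hL : CohB1.IsAmple L)
    (KP : Type v) [CommRing KP] [LambdaOps KP] (PP : PosStructure KP) (φP : SGA6.Kvb (KRR.PY n Y) →+ KP)
    (hKP : KRR.IsModel (KRR.PY n Y) KP PP φP)
    (KY : Type v) [CommRing KY] [LambdaOps KY] (PY : PosStructure KY) (φY : SGA6.Kvb Y →+ KY)
    (hKY : KRR.IsModel Y KY PY φY)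
    (g : KP →+ KY) (hg : KRR.IsPushPr n Y φP φY g) (j : ℕ) (hj : 1 ≤ j)
    (R : Type) [CommRing R] [Module.Flat ℤ R] (hjR : IsUnit (j : R)) :
    (∃ w : R ⊗[ℤ] KP, w * ((1 : R) ⊗ₜ[ℤ] KRR.bott PP j (φP (KRR.cl (KRR.PY n Y)
      (KRR.twF n Y (-1) ((Scheme.Modules.pullback (KRR.pr n Y)).obj (FlatMod.freeMod Y (n + 1))))))) = 1) ∧
    ∀ w : R ⊗[ℤ] KP, w * ((1 : R) ⊗ₜ[ℤ] KRR.bott PP j (φP (KRR.cl (KRR.PY n Y)
      (KRR.twF n Y (-1) ((Scheme.Modules.pullback (KRR.pr n Y)).obj (FlatMod.freeMod Y (n + 1))))))) = 1 →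
    ∀ z : KP, (1 : R) ⊗ₜ[ℤ] adams PY j (g z) =
      LinearMap.lTensor R g.toIntLinearMap ((j : R ⊗[ℤ] KP) * ((1 : R) ⊗ₜ[ℤ] adams PP j z) * w) := by
  haveI hNC := stable_bunPn (n := n) (Y := Y)
  haveI := hNC.1
  haveI := hNC.2
  letI := SGA6Ext.kvbRing Y
  letI := SGA6Ext.kvbLam Y
  letI := SGA6Ext.kvbRing (KRR.PY n Y)
  letI := SGA6Ext.kvbLam (KRR.PY n Y)
  let B := bunPn n Y
  letI : CommRing (SGA6.Kvb B.P) := SGA6Ext.kvbRing B.P
  letI : LambdaOps (SGA6.Kvb B.P) := SGA6Ext.kvbLam B.P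
  haveI : IsNoetherian B.P := hNC.1
  haveI : ConnectedSpace ↥B.P := hNC.2
  let P := SGA6Ext.kvbPos Y
  let PQ := SGA6Ext.kvbPos (KRR.PY n Y)
  have hT := isModel_kvb Y
  have hQ := isModel_kvb (KRR.PY n Y)
  -- the isomorphisms onto the given models
  let α : SGA6.Kvb (KRR.PY n Y) →+* KP := ringOf φP hKP.map_one hKP.map_mul
  let β : SGA6.Kvb Y →+* KY := ringOf φY hKY.map_one hKY.map_mul
  have hαlam : ∀ i x, α (LambdaOps.lam i x) = LambdaOps.lam i (α x) := fun i x =>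
    map_lamK hKP.map_one hKP.map_mul hKP.map_lam i x
  have hβlam : ∀ i x, β (LambdaOps.lam i x) = LambdaOps.lam i (β x) := fun i x =>
    map_lamK hKY.map_one hKY.map_mul hKY.map_lam i x
  have hαaug : ∀ x, PP.aug (α x) = PQ.aug x := fun x =>
    DFunLike.congr_fun (SGA6Ext.hom_ext_cls (f := PP.aug.toAddMonoidHom.comp φP)
      (g := SGA6Ext.rankHom (KRR.PY n Y)) fun A hA =>
      (hKP.aug_cl _ A (SGA6Ext.isRank (X := KRR.PY n Y) hA)).trans (SGA6Ext.rankHom_cls hA).symm) x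
  let e : SGA6.Kvb Y := SGA6Ext.cls B.E
  have he : e ∈ P.pos := (hT.mem_pos_iff e).2 ⟨n + 1, B.E, by omega, B.hE, rfl⟩
  have hr : P.aug e = n + 1 := (hT.aug_cl (n + 1) B.E B.hE).trans (by push_cast; ring)
  have hen : e = ((n + 1 : ℕ) : SGA6.Kvb Y) := phi_free (hK := hT) (n + 1)
  let q := pullRing B.π
  have hq : KRR.IsPull B.π (AddMonoidHom.id _) (AddMonoidHom.id _) q.toAddMonoidHom := fun E hE =>
    SGA6Ext.pullK_cls B.π hE
  let l : SGA6.Kvb (KRR.PY n Y) := SGA6Ext.cls B.O1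
  have hrel := S3788.result Y B.P n B.E B.hE B.π B.O1 B.q B.hB (SGA6.Kvb Y) P _ hT (SGA6.Kvb B.P) PQ _ hQ _ hq
  have hbij := S3789.result Y B.P n B.E B.hE B.π B.O1 B.q B.hB (SGA6.Kvb Y) P _ hT (SGA6.Kvb B.P) PQ _ hQ _ hq
  have hrel' : (KRR.extPoly P e).eval₂ q l = 0 := by
    rw [KRRLam.extPoly_eq (P := P) hr, eval₂_finsetSum]
    refine (Finset.sum_congr rfl fun i _ => ?_).trans hrel
    rw [eval₂_mul, eval₂_C, eval₂_X_pow, map_mul, map_pow, map_neg, map_one]
    rfl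
  let Ψ : AdjoinRoot (KRR.extPoly P e) →+* SGA6.Kvb (KRR.PY n Y) := AdjoinRoot.lift q l hrel'
  have hΨof : ∀ x, Ψ (AdjoinRoot.of (KRR.extPoly P e) x) = q x := fun x => AdjoinRoot.lift_of hrel'
  have hΨroot : Ψ (AdjoinRoot.root (KRR.extPoly P e)) = l := AdjoinRoot.lift_root hrel'
  haveI : Nontrivial (SGA6.Kvb Y) := ⟨⟨0, 1, fun h => by simpa using congrArg P.aug h⟩⟩
  -- the relation
  have hpoly : KRR.extPoly P e = (X - 1) ^ (n + 1) := by
    rw [KRRLam.extPoly_eq (P := P) hr, sub_eq_add_neg, add_comm (X : (SGA6.Kvb Y)[X]), add_pow]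
    refine Finset.sum_congr rfl fun i _ => ?_
    rw [hen, show LambdaOps.lam i (((n + 1 : ℕ)) : SGA6.Kvb Y) = PowerSeries.coeff i (lamSeries (((n + 1 : ℕ)) : SGA6.Kvb Y)) by
      rw [lamSeries, PowerSeries.coeff_mk], lamSeries_natCast P, ← Polynomial.coe_one, ← Polynomial.coe_X, ← Polynomial.coe_add,
      ← Polynomial.coe_pow, Polynomial.coeff_coe, Polynomial.coeff_one_add_X_pow,
      map_mul, map_pow, map_neg, map_one, map_natCast]
    ring
  have hmon : (KRR.extPoly P e).Monic := by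
    rw [hpoly]; exact (monic_X_sub_C (1 : SGA6.Kvb Y)).pow (n + 1)
  have hnd : (KRR.extPoly P e).natDegree = n + 1 := by
    rw [hpoly, ← map_one (C : SGA6.Kvb Y →+* _), (monic_X_sub_C (1 : SGA6.Kvb Y)).natDegree_pow, natDegree_X_sub_C, mul_one]
  have hlow : ∀ p : (SGA6.Kvb Y)[X], p.natDegree < n + 1 → p.eval₂ q l = 0 → p = 0 := fun p hp h0 => by
    rw [eval₂_eq_sum_range' q hp, ← Fin.sum_univ_eq_sum_range (fun i => q (p.coeff i) * l ^ i)] at h0
    have := hbij.1 (a₁ := fun i : Fin (n + 1) => p.coeff i) (a₂ := 0) (h0.trans (by simp))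
    ext i
    rcases Nat.lt_or_ge i (n + 1) with hi | hi
    · simpa using congrFun this ⟨i, hi⟩
    · simpa using coeff_eq_zero_of_natDegree_lt (lt_of_lt_of_le hp hi)
  have hne1 : KRR.extPoly P e ≠ 1 := fun h => by rw [h, natDegree_one] at hnd; omega
  have hΨ : Function.Bijective Ψ := by
    refine ⟨(injective_iff_map_eq_zero _).2 fun x hx => ?_, fun x => ?_⟩
    · obtain ⟨p, rfl⟩ := AdjoinRoot.mk_surjective x
      have hp : AdjoinRoot.mk (KRR.extPoly P e) (p %ₘ KRR.extPoly P e) = AdjoinRoot.mk _ p := by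
        rw [AdjoinRoot.mk_eq_mk]
        refine ⟨-(p /ₘ KRR.extPoly P e), ?_⟩
        linear_combination modByMonic_add_div p (KRR.extPoly P e)
      rw [← hp] at hx ⊢
      rw [hlow _ ((natDegree_modByMonic_lt p hmon hne1).trans_le hnd.le) (by rwa [← AdjoinRoot.lift_mk hrel']), map_zero]
    · obtain ⟨a, rfl⟩ := hbij.2 x
      refine ⟨∑ i : Fin (n + 1), AdjoinRoot.of _ (a i) * AdjoinRoot.root _ ^ (i : ℕ), ?_⟩
      rw [map_sum]
      exact Finset.sum_congr rfl fun i _ => by rw [map_mul, map_pow, hΨof, hΨroot]; rfl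
  obtain ⟨ψ, hψ, hψ'⟩ := Function.bijective_iff_has_inverse.1 hΨ
  let inst : LambdaOps (AdjoinRoot (KRR.extPoly P e)) :=
    { lam := fun i x => ψ (LambdaOps.lam i (Ψ x))
      lam_zero := fun x => hΨ.1 (by rw [hψ', LambdaOps.lam_zero, map_one])
      lam_one := fun x => by rw [LambdaOps.lam_one, hψ]
      lam_add := fun i x y => hΨ.1 (by
        rw [hψ', map_add, LambdaOps.lam_add, map_sum]
        exact Finset.sum_congr rfl fun j _ => by rw [map_mul, hψ', hψ']) }
  letI := inst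
  have hlam : ∀ i x, Ψ (LambdaOps.lam i x) = LambdaOps.lam i (Ψ x) := fun i x => hψ' _
  let Pe : PosStructure (AdjoinRoot (KRR.extPoly P e)) :=
    { aug := PQ.aug.comp Ψ
      aug_surjective := fun z => ⟨(z : AdjoinRoot (KRR.extPoly P e)), map_intCast (PQ.aug.comp Ψ) z⟩
      pos := {x | Ψ x ∈ PQ.pos}
      add_mem := fun a b ha hb => by
        show Ψ (a + b) ∈ PQ.pos
        rw [map_add]; exact PQ.add_mem _ _ ha hb
      mul_mem := fun a b ha hb => by
        show Ψ (a * b) ∈ PQ.pos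
        rw [map_mul]; exact PQ.mul_mem _ _ ha hb
      natCast_mem := fun m hm => by
        show Ψ m ∈ PQ.pos
        rw [map_natCast]; exact PQ.natCast_mem m hm
      exists_sub := fun x => by
        obtain ⟨a, b, ha, hb, h⟩ := PQ.exists_sub (Ψ x)
        exact ⟨ψ a, ψ b, show Ψ (ψ a) ∈ PQ.pos by rwa [hψ'], show Ψ (ψ b) ∈ PQ.pos by rwa [hψ'],
          hΨ.1 (by rw [map_sub, hψ', hψ', h])⟩
      aug_pos := fun a ha => PQ.aug_pos _ ha
      lam_eq_zero := fun a ha i hi => hΨ.1 (by rw [hlam, map_zero]; exact PQ.lam_eq_zero _ ha i hi)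
      isUnit_lam := fun a ha => by
        obtain ⟨b, hb⟩ := (PQ.isUnit_lam _ ha).exists_right_inv
        exact IsUnit.of_mul_eq_one (ψ b) (hΨ.1 (by rw [map_mul, hlam, hψ', map_one]; exact hb)) }
  let φe : SGA6.Kvb (KRR.PY n Y) →+ AdjoinRoot (KRR.extPoly P e) :=
    AddMonoidHom.mk' ψ fun a b => hΨ.1 (by rw [hψ', map_add, hψ', hψ'])
  have hMe : KRR.IsModel (KRR.PY n Y) (AdjoinRoot (KRR.extPoly P e)) Pe φe :=
    { bijective := Function.bijective_iff_has_inverse.2 ⟨Ψ, hψ', hψ⟩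
      map_one := hΨ.1 ((hψ' _).trans (hQ.map_one.trans (map_one Ψ).symm))
      map_mul := fun A B hA hB => hΨ.1 (by
        show Ψ (ψ _ * ψ _) = Ψ (ψ _)
        rw [map_mul, hψ', hψ', hψ']
        exact hQ.map_mul A B hA hB)
      map_lam := fun i A L hA hL h => hΨ.1 (by
        show Ψ (LambdaOps.lam i (ψ _)) = Ψ (ψ _)
        rw [hlam, hψ', hψ']
        exact hQ.map_lam i A L hA hL h)
      aug_cl := fun m A h => by
        show PQ.aug (Ψ (ψ _)) = _
        rw [hψ']
        exact hQ.aug_cl m A h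
      mem_pos_iff := fun x => by
        show Ψ x ∈ PQ.pos ↔ _
        rw [hQ.mem_pos_iff]
        refine exists₂_congr fun m A => and_congr_right fun _ => and_congr_right fun _ => ?_
        exact ⟨fun h => hΨ.1 ((hψ' _).trans h), fun h => by rw [← h]; exact (hψ' _).symm⟩ }
  have hext : IsExtension P Pe (AdjoinRoot.of (KRR.extPoly P e)) :=
    { isLambdaHom := fun i x => hΨ.1 (by rw [hlam, hΨof, hΨof]; exact pullK_lamK B.π i x)
      injective := fun a b h => Function.LeftInverse.injective (g := B.pushK)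
        (fun x => PBReg.pushK_pullK (X := B) x) (by
          have h' := congrArg Ψ h
          rwa [hΨof, hΨof] at h')
      aug_comp := fun x => by
        show PQ.aug (Ψ _) = _
        rw [hΨof]
        exact rankHom_pullK B.π x
      pos_subset := fun a ha => by
        obtain ⟨m, A, hm, hA, rfl⟩ := (hT.mem_pos_iff a).1 ha
        show Ψ _ ∈ PQ.pos
        rw [hΨof]
        exact (hQ.mem_pos_iff _).2 ⟨m, _, hm, Nagata.isFinLocFreeOfRank_pullback B.π hA,
          (SGA6Ext.pullK_cls B.π (SGA6Ext.finLocFree_of_rank hA)).symm⟩ }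
  have hline : Pe.IsLine (AdjoinRoot.root (KRR.extPoly P e)) := by
    refine ⟨show Ψ _ ∈ PQ.pos from ?_, show PQ.aug (Ψ _) = 1 from ?_⟩
    · rw [hΨroot]; exact (hQ.mem_pos_iff _).2 ⟨1, B.O1, le_rfl, B.hB.invertible, rfl⟩
    · rw [hΨroot]; exact (hQ.aug_cl 1 B.O1 B.hB.invertible).trans Nat.cast_one
  -- the augmentation ideal is nil
  have hnil : ∀ y, Pe.aug y = 0 → IsNilpotent y := by
    intro y hy
    obtain ⟨p, rfl⟩ := AdjoinRoot.mk_surjective y
    have hu : IsNilpotent (AdjoinRoot.root (KRR.extPoly P e) - 1) := ⟨n + 1, by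
      have h : AdjoinRoot.mk (KRR.extPoly P e) ((X - 1) ^ (n + 1)) = 0 := by
        rw [← hpoly]; exact AdjoinRoot.mk_self
      rwa [map_pow, map_sub, AdjoinRoot.mk_X, map_one] at h⟩
    obtain ⟨c, hc⟩ := X_sub_C_dvd_sub_C_eval (a := (1 : SGA6.Kvb Y)) (p := p)
    have hc' : AdjoinRoot.mk (KRR.extPoly P e) p = (AdjoinRoot.root (KRR.extPoly P e) - 1) *
        AdjoinRoot.mk _ c + AdjoinRoot.of _ (p.eval 1) := by
      rw [eq_add_of_sub_eq hc]
      simp [map_add, map_mul, map_sub]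
    rw [hc']
    have hnl : IsNilpotent ((AdjoinRoot.root (KRR.extPoly P e) - 1) * AdjoinRoot.mk _ c) :=
      (Commute.all _ _).isNilpotent_mul_right hu
    refine (Commute.all _ _).isNilpotent_add hnl (IsNilpotent.map ?_ _)
    refine isNilpotent_of_aug_eq_zero (hK := hT) hL ?_
    rw [hc', map_add, map_mul, map_sub, map_one, hline.2, sub_self, zero_mul, zero_add, hext.aug_comp] at hy
    exact hy
  -- the functional
  let γ : AdjoinRoot (KRR.extPoly P e) →+* KP := α.comp Ψ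
  have hγ : Function.Bijective γ := hKP.bijective.comp hΨ
  have hγlam : ∀ i x, γ (LambdaOps.lam i x) = LambdaOps.lam i (γ x) := fun i x => by
    simp only [γ, RingHom.comp_apply, hlam, hαlam]
  have hγaug : ∀ x, PP.aug (γ x) = Pe.aug x := fun x => hαaug _
  obtain ⟨β', hβ₁, hβ₂⟩ := Function.bijective_iff_has_inverse.1 (hKY.bijective : Function.Bijective β)
  have hβ₂' : ∀ x, β (β' x) = x := hβ₂
  have hβ₁' : ∀ x, β' (β x) = x := hβ₁
  let β'' : KY →+ SGA6.Kvb Y := AddMonoidHom.mk' β' fun a b =>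
    hKY.bijective.1 (show β (β' (a + b)) = β (β' a + β' b) by rw [map_add, hβ₂', hβ₂', hβ₂'])
  let f₀ : AdjoinRoot (KRR.extPoly P e) →+ SGA6.Kvb Y := β''.comp (g.comp γ.toAddMonoidHom)
  have hf₀ : ∀ x, β (f₀ x) = g (γ x) := fun x => hβ₂' _
  let qM : KY →+ KP := (φP.comp (SGA6Ext.pullK B.π)).comp β''
  have hqM : KRR.IsPull (KRR.pr n Y) φY φP qM := fun E hE => by
    show φP (SGA6Ext.pullK B.π (β' (β (SGA6Ext.cls E)))) = _
    rw [hβ₁']
    exact congrArg φP (SGA6Ext.pullK_cls B.π hE)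
  let f : AdjoinRoot (KRR.extPoly P e) →ₗ[SGA6.Kvb Y] SGA6.Kvb Y :=
    { toFun := f₀
      map_add' := map_add f₀
      map_smul' := fun a x => hKY.bijective.1 (by
        show β (f₀ (a • x)) = β (a • f₀ x)
        rw [smul_eq_mul, map_mul, hf₀, hf₀, Algebra.smul_def, AdjoinRoot.algebraMap_eq, map_mul,
          mul_comm (γ _), mul_comm (β a)]
        have h := PnReg.push_mul_pull hKP.map_mul hKY.map_mul hKP.bijective.2 hKY.bijective.2 hg hqM (γ x) (β a)
        rw [← h]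
        congr 2
        show φP (Ψ _) = φP (SGA6Ext.pullK B.π (β' (β a)))
        rw [hβ₁', hΨof]
        rfl) }
  have hlpow : ∀ i : ℕ, l ^ i = SGA6Ext.cls (KRR.twF n Y (i : ℤ) (Coh.structureModule (KRR.PY n Y))) := by
    intro i
    induction i with
    | zero =>
      obtain ⟨t⟩ := PnReg.nonempty_twF_zero (Coh.structureModule (KRR.PY n Y))
      rw [pow_zero]
      exact hQ.map_one.symm.trans (SGA6Ext.cls_iso t.symm (PnReg.isFinLocFree_unit _))
    | succ i ih =>
      have hO := PnReg.isFinLocFree_twF (i : ℤ) (PnReg.isFinLocFree_unit (KRR.PY n Y))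
      obtain ⟨t⟩ := PnReg.nonempty_twF_twF (Coh.structureModule (KRR.PY n Y)) 1 (i : ℤ) ((i + 1 : ℕ) : ℤ) (by push_cast; ring)
      rw [pow_succ', ih]
      exact (hQ.map_mul _ _ (SGA6Ext.finLocFree_of_rank B.hB.invertible) hO).trans
        (SGA6Ext.cls_iso t (PnReg.isFinLocFree_twF 1 hO))
  have hf : ∀ i : ℕ, i ≤ n → f (AdjoinRoot.root (KRR.extPoly P e) ^ i) = KRR.sigma i e := fun i _ => by
    apply hKY.bijective.1
    show β (f₀ _) = β _
    rw [hf₀, show KRR.sigma i e = _ from (congrArg (KRR.sigma i) hen).trans (sigma_natCast_succ P n i), map_natCast,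
      Nat.choose_symm_add]
    show g (φP (Ψ _)) = _
    rw [map_pow, hΨroot, hlpow]
    exact PnReg.push_twist_nonneg hKY.map_one hg i
  let m : SGA6.Kvb (KRR.PY n Y) := SGA6Ext.cls (Twist.twistOver n Y (-1))
  have hm1 : FlatMod.IsFinLocFree (Twist.twistOver n Y (-1)) :=
    DQCoh.isFinLocFree_of_iso' (PnReg.twUnitIso (n := n) (T := Y) (-1))
      (PnReg.isFinLocFree_twF (-1) (PnReg.isFinLocFree_unit (KRR.PY n Y)))
  let linv := ψ m
  have hlinv : linv * AdjoinRoot.root (KRR.extPoly P e) = 1 := hΨ.1 (by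
    rw [map_mul, hψ', hΨroot, map_one]
    have h1 := SGA6Ext.finLocFree_of_rank B.hB.invertible
    obtain ⟨t⟩ := PnReg.nonempty_twF_twF (Coh.structureModule (KRR.PY n Y)) (-1) 1 0 (by ring)
    obtain ⟨t₀⟩ := PnReg.nonempty_twF_zero (Coh.structureModule (KRR.PY n Y))
    refine ((hQ.map_mul _ _ hm1 h1).trans (SGA6Ext.cls_iso ?_ ?_)).trans hQ.map_one
    · exact ((DCoh.tensorBi (X := KRR.PY n Y)).obj _).mapIso (PnReg.twUnitIso 1).symm ≪≫ t ≪≫ t₀
    · exact PnReg.isFinLocFree_twF (-1) h1)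
  have hbig : γ (AdjoinRoot.of (KRR.extPoly P e) e * linv) = φP (KRR.cl (KRR.PY n Y)
      (KRR.twF n Y (-1) ((Scheme.Modules.pullback (KRR.pr n Y)).obj (FlatMod.freeMod Y (n + 1))))) := by
    show φP (Ψ _) = _
    rw [map_mul, hΨof, hψ', mul_comm]
    refine congrArg φP ?_
    show m * SGA6Ext.pullK B.π e = _
    rw [show SGA6Ext.pullK B.π e = _ from SGA6Ext.pullK_cls B.π (SGA6Ext.finLocFree_of_rank B.hE)]
    exact hQ.map_mul _ _ hm1 (DerPerf.isFinLocFree_pullback _ (SGA6Ext.finLocFree_of_rank B.hE))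
  have hsK : HasSplitting (SGA6.Kvb Y) P := hasSplitting (SGA6.Kvb Y) P _ hT
  obtain ⟨hex, hall⟩ := rr_elementary hsK he hr Pe hext hline (hasSplitting _ Pe φe hMe) hnil f hf linv hlinv
    j hj R hjR
  -- transfer
  let γ' : AdjoinRoot (KRR.extPoly P e) →ₐ[ℤ] KP := γ.toIntAlgHom
  let Γ : R ⊗[ℤ] AdjoinRoot (KRR.extPoly P e) →ₐ[R] R ⊗[ℤ] KP :=
    Algebra.TensorProduct.map (AlgHom.id R R) γ'
  have hΓt : ∀ c y, Γ (c ⊗ₜ[ℤ] y) = c ⊗ₜ[ℤ] γ y := fun c y => by
    rw [Algebra.TensorProduct.map_tmul]; rfl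
  have hΓb : Γ ((1 : R) ⊗ₜ[ℤ] KRR.bott Pe j (AdjoinRoot.of (KRR.extPoly P e) e * linv)) =
      (1 : R) ⊗ₜ[ℤ] KRR.bott PP j (φP (KRR.cl (KRR.PY n Y)
      (KRR.twF n Y (-1) ((Scheme.Modules.pullback (KRR.pr n Y)).obj (FlatMod.freeMod Y (n + 1)))))) := by
    rw [hΓt, map_bott γ hγlam hγaug, hbig]
  obtain ⟨w₀, hw₀⟩ := hex
  have hW := congrArg Γ hw₀
  rw [map_mul, map_one, hΓb] at hW
  refine ⟨⟨Γ w₀, hW⟩, fun w hw z => ?_⟩
  rw [show w = Γ w₀ from left_inv_eq_right_inv hw (by rw [mul_comm]; exact hW)]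
  obtain ⟨x, rfl⟩ := hγ.2 z
  have key := congrArg (LinearMap.lTensor R β.toAddMonoidHom.toIntLinearMap) (hall w₀ hw₀ x)
  rw [LinearMap.lTensor_tmul] at key
  have hcomm : ∀ y, LinearMap.lTensor R β.toAddMonoidHom.toIntLinearMap
      (LinearMap.lTensor R f.toAddMonoidHom.toIntLinearMap y) = LinearMap.lTensor R g.toIntLinearMap (Γ y) := by
    intro y
    induction y using TensorProduct.induction_on with
    | zero => simp
    | add a b ha hb => simp only [map_add, ha, hb]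
    | tmul c y =>
      rw [LinearMap.lTensor_tmul, LinearMap.lTensor_tmul, hΓt, LinearMap.lTensor_tmul]
      exact congrArg _ (hf₀ y)
  rw [hcomm, map_mul Γ, map_mul Γ, map_natCast Γ, hΓt, map_adams (PB := PP) γ hγlam hj] at key
  rw [mul_right_comm, ← key]
  congr 1
  show adams PY j (g (γ x)) = β (adams P j (f₀ x))
  rw [map_adams (PB := PY) β hβlam hj, hf₀]

end Pn

end Groth.Agent.K0ResLF.RR
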