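import Groth.Agent.KosExt.Sheaf
import Groth.Agent.CurveRR.Zero
import Groth.Agent.SGA6Ext.Model
import Groth.Agent.ExtFund.CanonIndep
import Groth.Agent.KoszulLib.SchNoeth
import Groth.Agent.KoszulLib.Change
import Groth.Agent.KoszulLib.NoethQuasi
import Groth.Agent.KoszulLib.Iff
import Groth.Agent.CohQC.Affineness
import Groth.Prelude.Def_KRR
import Groth.Prelude.Def_KoszulSh

/-!
A cosection cutting out a regular immersion of the maximal codimension is regular.
-/

set_option autoImplicit false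
set_option linter.style.haveILetI false
set_option backward.isDefEq.respectTransparency false
set_option backward.isDefEq.respectTransparency.types false
set_option maxHeartbeats 1000000

universe u

open CategoryTheory CategoryTheory.Limits AlgebraicGeometry TopologicalSpace Opposite
open Groth.Agent.QC (res resO res_res res_smul app_res)
open RingTheory.Sequence

noncomputable section

namespace Groth.Agent.K0ResLF

variable {X Y : Scheme.{u}}

/-- The length of a regular sequence cutting out the immersion is the rank of the conormal module. -/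
theorem length_eq_rank (i : X ⟶ Y) [IsClosedImmersion i] {d : ℕ}
    (hci : FlatMod.IsFinLocFreeOfRank d (Omega.conormal i)) (U : Y.affineOpens) (rs : List Γ(Y, U.1))
    (hrs : IsRegular Γ(Y, U.1) rs) (hker : i.ker.ideal U = Ideal.ofList rs) (x : X) (hx : i x ∈ U.1) :
    rs.length = d := by
  have hch : Conormal.IsChart i U.1 := ⟨U.2, inferInstance⟩
  have hq : CAlgX.IsQuasiRegular rs.get := KoszulLib.quasi_seq_of RegImm.Kind.regular _ rs hrs
  have hker' : RingHom.ker (i.app U.1).hom = Ideal.span (Set.range rs.get) := by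
    rw [← Scheme.Hom.ker_apply, hker, Set.range_list_get]
  have hz : ∀ j, i.app U.1 (rs.get j) = 0 := fun j =>
    RingHom.mem_ker.1 (hker'.symm ▸ Ideal.subset_span (Set.mem_range_self j))
  choose s hs using fun j => Conormal.exists_idealSect i U.1 (rs.get j) (hz j)
  let b : Fin rs.length → Γ(Omega.conormal i, i ⁻¹ᵁ U.1) := fun j => OmegaSh.conormalSect i U.1 (s j)
  have key : ∀ a : Fin rs.length → Γ(Y, U.1), ∑ j, (i.app U.1).hom (a j) • b j =
      OmegaSh.conormalSect i U.1 (∑ j, a j • s j) := fun a => by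
    rw [map_sum]
    exact Finset.sum_congr rfl fun j _ => (Conormal.conormalSect_smul i U.1 (a j) (s j)).symm
  have key2 : ∀ a : Fin rs.length → Γ(Y, U.1), OmegaSh.idealSect i.ker U.1 (∑ j, a j • s j) =
      ∑ j, a j * rs.get j := fun a => by
    rw [map_sum]
    exact Finset.sum_congr rfl fun j _ => by rw [Conormal.idealSect_smul, hs]
  have hb : TMul.IsFrame b := by
    refine PBundle.isFrame_of_bijective (Conormal.isQCoh_conormal i) hch.preimage ⟨?_, ?_⟩
    · intro r r' h
      choose a ha using fun j => hch.surjective (r j - r' j)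
      have h0 : ∑ j, (r j - r' j) • b j = 0 := by
        simp only [sub_smul, Finset.sum_sub_distrib]
        exact sub_eq_zero.2 h
      simp only [← ha] at h0
      rw [key, Conormal.conormalSect_eq_zero_iff i hch, key2] at h0
      funext j
      refine sub_eq_zero.1 ?_
      rw [← ha j]
      refine RingHom.mem_ker.1 ?_
      rw [hker']
      exact SectRank.indep_of_quasi rs.get hq a (by rwa [hker'] at h0) j
    · intro m
      obtain ⟨t, rfl⟩ := Conormal.conormalSect_surjective i hch m
      have hmem : OmegaSh.idealSect i.ker U.1 t ∈ Ideal.span (Set.range rs.get) :=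
        hker' ▸ RingHom.mem_ker.2 (Conormal.app_idealSect i U.1 t)
      obtain ⟨a, ha⟩ := Ideal.mem_span_range_iff_exists_fun.1 hmem
      refine ⟨fun j => (i.app U.1).hom (a j), ?_⟩
      change ∑ j, _ • b j = _
      rw [key]
      congr 1
      exact Conormal.idealSect_injective i.ker U.1 ((key2 a).trans ha)
  obtain ⟨W, e, hxW, he⟩ := CurveRR.exists_frame hci x
  exact W7Strat.frame_card_unique hb he hx hxW

/-- A list starting with a unit is weakly regular. -/
theorem isWeaklyRegular_cons_isUnit {R : Type u} [CommRing R] {r : R} (hr : IsUnit r) (rs : List R) :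
    IsWeaklyRegular R (r :: rs) := by
  rw [isWeaklyRegular_cons_iff]
  refine ⟨hr.isSMulRegular R, ?_⟩
  haveI : Subsingleton (QuotSMulTop r R) :=
    Submodule.Quotient.subsingleton_iff.mpr (eq_top_iff.mpr fun z _ => by
      obtain ⟨c, hc⟩ := hr.exists_right_inv
      rw [Submodule.mem_smul_pointwise_iff_exists]
      exact ⟨c * z, trivial, by rw [smul_eq_mul, ← mul_assoc, hc, one_mul]⟩)
  exact ⟨fun _ _ _ _ _ => Subsingleton.elim _ _⟩

/-- Sections with values given on a basis generate the image ideal. -/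
theorem span_eq_span_basis {R M : Type u} [CommRing R] [AddCommGroup M] [Module R M] {d : ℕ}
    (b : Module.Basis (Fin d) R M) (φ : M →ₗ[R] R) :
    Ideal.span {a | ∃ s, φ s = a} = Ideal.span (Set.range fun k => φ (b k)) := by
  refine le_antisymm (Ideal.span_le.2 ?_) (Ideal.span_mono ?_)
  · rintro _ ⟨s, rfl⟩
    rw [← b.sum_repr s, map_sum]
    exact Ideal.sum_mem _ fun k _ => by
      rw [map_smul]; exact Ideal.mul_mem_left _ _ (Ideal.subset_span ⟨k, rfl⟩)
  · rintro _ ⟨k, rfl⟩; exact ⟨b k, rfl⟩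

theorem exists_regular_basis [IsLocallyNoetherian Y] {d : ℕ} {E : Y.Modules}
    (hE : FlatMod.IsFinLocFreeOfRank d E) (t : E ⟶ Coh.structureModule Y) (i : X ⟶ Y) [IsClosedImmersion i]
    (ht : ∀ U : Y.affineOpens, i.ker.ideal U = Ideal.span {a : Γ(Y, U.1) | ∃ s : Γ(E, U.1), (t.app U.1) s = a})
    (hi : Mor2.IsRegularClosedImmersion i) (hci : FlatMod.IsFinLocFreeOfRank d (Omega.conormal i)) (y : Y) :
    ∃ U : Y.affineOpens, y ∈ U.1 ∧ ∃ b : Module.Basis (Fin d) Γ(Y, U.1) Γ(E, U.1),
      IsWeaklyRegular Γ(Y, U.1) (List.ofFn fun k => KoszSh.secForm t U.1 (b k)) := by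
  classical
  haveI : E.IsQuasicoherent := LocFree.isQCoh_of_isFinLocFree (SGA6Ext.finLocFree_of_rank hE)
  obtain ⟨W, e, hyW, he⟩ := CurveRR.exists_frame hE y
  have basisAt : ∀ U : Y.affineOpens, U.1 ≤ W → Nonempty (Module.Basis (Fin d) Γ(Y, U.1) Γ(E, U.1)) :=
    fun U h => ⟨Module.Basis.ofEquivFun (he.equiv h).symm⟩
  have hideal : ∀ (U : Y.affineOpens) (b : Module.Basis (Fin d) Γ(Y, U.1) Γ(E, U.1)),
      i.ker.ideal U = Ideal.span (Set.range fun k => KoszSh.secForm t U.1 (b k)) := fun U b =>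
    (ht U).trans (span_eq_span_basis b (KoszSh.secForm t U.1))
  by_cases hy : y ∈ Set.range i
  · obtain ⟨x, rfl⟩ := hy
    obtain ⟨U, hU, hxU, rs, hrs, hker⟩ := hi.2 x
    have hlen := length_eq_rank i hci ⟨U, hU⟩ rs hrs hker x hxU
    obtain ⟨a, ha, hxa⟩ := hU.exists_basicOpen_le (V := W) ⟨i x, hyW⟩ hxU
    let D : Y.affineOpens := ⟨Y.basicOpen a, hU.basicOpen a⟩
    obtain ⟨b⟩ := basisAt D ha
    let g : Fin d → Γ(Y, D.1) := fun k => KoszSh.secForm t D.1 (b k)
    letI := (Y.presheaf.map (homOfLE (Y.basicOpen_le a)).op).hom.toAlgebra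
    haveI : IsLocalization.Away a Γ(Y, Y.basicOpen a) := hU.isLocalization_basicOpen a
    haveI : Module.Flat Γ(Y, U) Γ(Y, Y.basicOpen a) := IsLocalization.flat _ (Submonoid.powers a)
    have hrs' := IsWeaklyRegular.of_flat (S := Γ(Y, Y.basicOpen a)) hrs.toIsWeaklyRegular
    let f : Fin rs.length → Γ(Y, D.1) := fun k => algebraMap Γ(Y, U) Γ(Y, Y.basicOpen a) (rs.get k)
    have hf : Wiebe.Acyclic f := by
      refine KoszulLib.acyclic_of_isWeaklyRegular' ?_
      rw [show List.ofFn f = rs.map (algebraMap Γ(Y, U) Γ(Y, Y.basicOpen a)) by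
        conv_rhs => rw [← List.ofFn_get rs, List.map_ofFn]
        rfl]
      exact hrs'
    have hspan : Ideal.span (Set.range f) = Ideal.span (Set.range g) := by
      refine Eq.trans ?_ (hideal D b)
      show _ = i.ker.ideal (Y.affineBasicOpen (U := ⟨U, hU⟩) a)
      rw [← i.ker.map_ideal_basicOpen ⟨U, hU⟩ a, hker, Ideal.map_ofList]
      show Ideal.span _ = Ideal.span _
      congr 1
      ext z
      constructor
      · rintro ⟨k, rfl⟩
        exact List.mem_map_of_mem (List.get_mem rs k)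
      · intro hz
        obtain ⟨w, hw, rfl⟩ := List.mem_map.1 hz
        obtain ⟨k, rfl⟩ := List.mem_iff_get.1 hw
        exact ⟨k, rfl⟩
    have hg : Wiebe.Acyclic g := KoszulLib.acyclic_of_length_le hf hspan (by omega)
    have hquasi : RegImm.Kind.quasi.Seq Γ(Y, D.1) (List.ofFn g) :=
      KoszulLib.quasi_seq_of RegImm.Kind.koszul _ _ (KoszulLib.isKoszulRegularSeq_of_acyclic hg)
    have hle : Ideal.ofList (List.ofFn g) ≤ (D.2.primeIdealOf ⟨i x, hxa⟩).asIdeal := by
      refine le_trans ?_ (KoszulLib.ker_le_primeIdealOf i D inferInstance x hxa)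
      rw [← Scheme.Hom.ker_apply, hideal D b]
      exact le_of_eq (congrArg Ideal.span (by ext z; simp [g]))
    obtain ⟨c, hxc, hreg⟩ := KoszulLib.exists_regular_basicOpen D (i x) hxa (List.ofFn g) hquasi hle
    obtain ⟨b', hb'⟩ := KosExt.exists_basis_res E D.2 b c
    refine ⟨⟨Y.basicOpen c, D.2.basicOpen c⟩, hxc, b', ?_⟩
    have h1 := hreg.toIsWeaklyRegular
    rw [List.map_ofFn] at h1
    simpa only [hb', KosExt.secForm_res] using! h1
  · let O : Y.Opens := ⟨(Set.range i)ᶜ, i.isClosedEmbedding.isClosed_range.isOpen_compl⟩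
    obtain ⟨U₀, hU₀, hyU, hUle⟩ := exists_isAffineOpen_mem_and_subset (x := y) (U := W ⊓ O) ⟨hyW, hy⟩
    let U : Y.affineOpens := ⟨U₀, hU₀⟩
    obtain ⟨b⟩ := basisAt U fun z hz => (hUle hz).1
    have htop : Ideal.span (Set.range fun k => KoszSh.secForm t U.1 (b k)) = ⊤ := by
      rw [← hideal U b, Ideal.eq_top_iff_one]
      refine (QC.mem_range_idealModι_affine i.ker U 1).1 (CohQC.range_idealModι_of_disjoint i.ker U.1 ?_ 1)
      rw [Set.eq_empty_iff_forall_notMem]
      rintro z ⟨hz1, hz2⟩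
      rw [Scheme.Hom.support_ker] at hz2
      replace hz2 : z ∈ closure (Set.range i) := hz2
      rw [i.isClosedEmbedding.isClosed_range.closure_eq] at hz2
      exact (hUle hz1).2 hz2
    obtain ⟨k, hk⟩ : ∃ k, KoszSh.secForm t U.1 (b k) ∉ (U.2.primeIdealOf ⟨y, hyU⟩).asIdeal := by
      by_contra hn
      push Not at hn
      refine (U.2.primeIdealOf ⟨y, hyU⟩).isPrime.ne_top (top_le_iff.1 (htop ▸ Ideal.span_le.2 ?_))
      rintro _ ⟨j, rfl⟩; exact hn j
    let r := KoszSh.secForm t U.1 (b k)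
    have hyr : y ∈ Y.basicOpen r := by
      rw [show y = U.2.fromSpec (U.2.primeIdealOf ⟨y, hyU⟩) from (U.2.fromSpec_primeIdealOf ⟨y, hyU⟩).symm]
      show U.2.primeIdealOf ⟨y, hyU⟩ ∈ U.2.fromSpec ⁻¹ᵁ Y.basicOpen r
      rw [U.2.fromSpec_preimage_basicOpen]
      exact hk
    obtain ⟨b', hb'⟩ := KosExt.exists_basis_res E U.2 b r
    obtain ⟨m, rfl⟩ : ∃ m, d = m + 1 := ⟨d - 1, by have := k.isLt; omega⟩
    refine ⟨⟨Y.basicOpen r, U.2.basicOpen r⟩, hyr, b'.reindex (Equiv.swap 0 k), ?_⟩
    rw [List.ofFn_succ]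
    refine isWeaklyRegular_cons_isUnit ?_ _
    have h0 : (b'.reindex (Equiv.swap 0 k)) 0 = b' k := by
      rw [Module.Basis.reindex_apply, Equiv.symm_swap, Equiv.swap_apply_left]
    rw [h0, hb', KosExt.secForm_res]
    exact RingedSpace.isUnit_res_basicOpen _ r

end Groth.Agent.K0ResLF
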