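import Groth.Agent.K0ResLF.Pd

/-!
The resolution theorem for coherent modules with enough finite locally free modules.
-/

set_option autoImplicit false
set_option backward.isDefEq.respectTransparency false
set_option backward.isDefEq.respectTransparency.types false
set_option linter.style.haveILetI false

universe u

open CategoryTheory CategoryTheory.Limits AlgebraicGeometry ZeroObject

noncomputable section

namespace Groth.Agent.K0ResLF

variable {X : Scheme.{u}}

open K0Res (IsRes kerSeq kerSeq_shortExact)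

/-- finite locally free -/
abbrev LF (X : Scheme.{u}) : ObjectProperty X.Modules := KRR.vbP X

/-- coherent -/
abbrev CohP (X : Scheme.{u}) : ObjectProperty X.Modules := fun M : X.Modules => Coh.IsCoh M

lemma lf_iso : (LF X).IsClosedUnderIsomorphisms := ⟨fun e h => DQCoh.isFinLocFree_of_iso' e h⟩

lemma exists_lift [IsLocallyNoetherian X] (hX : KRR.HasEnoughLocFree X) {A B D : X.Modules} (u' : A ⟶ B)
    (v : D ⟶ B) [Epi u'] (hA : Coh.IsCoh A) (hB : Coh.IsCoh B) (hD : Coh.IsCoh D) :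
    ∃ (L : X.Modules) (a : L ⟶ D) (b : L ⟶ A), FlatMod.IsFinLocFree L ∧ Epi a ∧ a ≫ v = b ≫ u' := by
  have hP : Coh.IsCoh (pullback u' v) := by
    haveI : Epi (pullback.snd u' v) := Abelian.epi_pullback_of_epi_f u' v
    haveI := isIso_kernel_map_of_isPullback (IsPullback.of_hasPullback u' v).flip
    refine isCoh_mid (kerSeq_shortExact (pullback.snd u' v)) ?_ hD
    exact K0Coh.isCoh_of_iso (asIso (kernel.map (pullback.snd u' v) u' (pullback.fst u' v) v
      pullback.condition.symm)).symm (QC.isCoh_kernel hA hB.1 u')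
  obtain ⟨E, p, hE, hp⟩ := hX _ hP
  haveI := hp
  haveI : Epi (pullback.snd u' v) := Abelian.epi_pullback_of_epi_f u' v
  exact ⟨E, p ≫ pullback.snd u' v, p ≫ pullback.fst u' v, hE, inferInstance, by
    simp only [Category.assoc, pullback.condition]⟩

theorem hypCoh [IsLocallyNoetherian X] (hX : KRR.HasEnoughLocFree X) : K0Res.Hyp (LF X) (CohP X) where
  iso₀ := lf_iso
  iso₁ := ⟨fun e h => K0Coh.isCoh_of_iso e h⟩
  le _ h := K0Coh.isCoh_of_isFinLocFree h
  ext₁ _ hS h₁ h₃ := isCoh_mid hS h₁ h₃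
  ker₀ _ hS h₂ h₃ := isFinLocFree_left hS h₂ h₃
  ker₁ _ hS h₂ h₃ := isCoh_left hS h₂ h₃
  lift _ _ _ u' v hu hA hB hD := @exists_lift X _ hX _ _ _ u' v hu hA hB hD

lemma res_coh [IsLocallyNoetherian X] {T : ℕ → ShortComplex X.Modules} (hT : IsRes (LF X) T)
    (hA : Coh.IsCoh (T 0).X₃) : ∀ i, Coh.IsCoh (T i).X₃
  | 0 => hA
  | i + 1 => (hT i).2.2 ▸ isCoh_left (hT i).1 (K0Coh.isCoh_of_isFinLocFree (hT i).2.1) (res_coh hT hA i)

lemma res_pd {T : ℕ → ShortComplex X.Modules} (hT : IsRes (LF X) T) :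
    ∀ (i n : ℕ), PdLT (T 0).X₃ (n + 1 + i) → PdLT (T i).X₃ (n + 1)
  | 0, _, h => h
  | i + 1, n, h => (hT i).2.2 ▸ pdLT_left (hT i).1 ((pdLT_one (hT i).2.1).mono (by omega))
      (res_pd hT i (n + 1) (h.mono (by omega)))

lemma isFinLocFree_syzygy [IsLocallyNoetherian X] {T : ℕ → ShortComplex X.Modules} (hT : IsRes (LF X) T)
    {A : X.Modules} (h0 : (T 0).X₃ = A) (hA : Coh.IsCoh A) {n : ℕ} (h : PdLT A (n + 1)) :
    FlatMod.IsFinLocFree (T n).X₃ := by
  subst h0
  exact isFinLocFree_of_pdLT_one (res_coh hT hA n) (res_pd hT n 0 (h.mono (by omega)))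

lemma isFinLocFree_zero : FlatMod.IsFinLocFree (0 : X.Modules) :=
  DQCoh.isFinLocFree_of_isZero (isZero_zero _)

/-- truncation of a resolution -/
def trunc (T : ℕ → ShortComplex X.Modules) (n : ℕ) (i : ℕ) : ShortComplex X.Modules :=
  if i < n then T i else if i = n then ShortComplex.mk (0 : (0 : X.Modules) ⟶ (T n).X₃) (𝟙 _) (by simp)
  else ShortComplex.mk (0 : (0 : X.Modules) ⟶ (0 : X.Modules)) (𝟙 _) (by simp)

lemma trunc_shortExact {T : ℕ → ShortComplex X.Modules} (hT : ∀ i, (T i).ShortExact) (n i : ℕ) :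
    (trunc T n i).ShortExact := by
  unfold trunc
  split_ifs
  · exact hT i
  all_goals
    exact (ShortComplex.Splitting.mk (0 : _ ⟶ (0 : X.Modules)) (𝟙 _)
      ((isZero_zero X.Modules).eq_of_src _ _) (by simp) (by simp)).shortExact

lemma trunc_link {T : ℕ → ShortComplex X.Modules} (hl : ∀ i, (T (i + 1)).X₃ = (T i).X₁) (n i : ℕ) :
    (trunc T n (i + 1)).X₃ = (trunc T n i).X₁ := by
  unfold trunc
  split_ifs with h1 h2 h3 h4 h5 <;> first | exact hl i | (subst_vars; exact hl i) | rfl | omega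

lemma trunc_zero_X₃ (T : ℕ → ShortComplex X.Modules) (n : ℕ) : (trunc T n 0).X₃ = (T 0).X₃ := by
  rcases Nat.eq_zero_or_pos n with rfl | h
  · simp [trunc]
  · simp [trunc, h]

lemma trunc_lf {T : ℕ → ShortComplex X.Modules} (hT : IsRes (LF X) T) {n : ℕ}
    (hn : FlatMod.IsFinLocFree (T n).X₃) (i : ℕ) : FlatMod.IsFinLocFree (trunc T n i).X₂ := by
  unfold trunc
  split_ifs
  · exact (hT i).2.1
  · exact hn
  · exact isFinLocFree_zero

lemma trunc_isZero (T : ℕ → ShortComplex X.Modules) {n i : ℕ} (hi : n < i) : IsZero (trunc T n i).X₂ := by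
  unfold trunc
  rw [if_neg (by omega), if_neg (by omega)]
  exact isZero_zero _

variable {C : Type*} [Category C] [Abelian C] in
lemma exists_aug (T : ℕ → ShortComplex C) (hT : ∀ i, (T i).ShortExact)
    (hl : ∀ i, (T (i + 1)).X₃ = (T i).X₁) :
    ∃ π : K0Res.complex T hl ⟶ (ChainComplex.single₀ C).obj (T 0).X₃, QuasiIso π := by
  have hd : (K0Res.complex T hl).d 1 0 = K0Res.dT T hl 0 := K0Res.complex_d T hl 0
  have hw : (K0Res.complex T hl).d 1 0 ≫ (T 0).g = 0 := by
    rw [hd]; simp [K0Res.dT]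
  refine ⟨(ChainComplex.toSingle₀Equiv _ _).symm ⟨(T 0).g, hw⟩, ⟨fun i => ?_⟩⟩
  cases i with
  | zero =>
    rw [ChainComplex.quasiIsoAt₀_iff, ShortComplex.quasiIso_iff_of_zeros']
    · have := (hT 1).epi_g
      have := (hT 0).epi_g
      let S' : ShortComplex C := ShortComplex.mk (K0Res.dT T hl 0) (T 0).g (by simp [K0Res.dT])
      let φ : S' ⟶ T 0 :=
        { τ₁ := (T 1).g ≫ eqToHom (hl 0)
          τ₂ := 𝟙 _
          τ₃ := 𝟙 _
          comm₁₂ := by simp [S', K0Res.dT]
          comm₂₃ := by simp [S'] }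
      have : Epi φ.τ₁ := epi_comp _ _
      have : IsIso φ.τ₂ := inferInstanceAs (IsIso (𝟙 _))
      have : Mono φ.τ₃ := inferInstanceAs (Mono (𝟙 _))
      have h' : S'.Exact := (ShortComplex.exact_iff_of_epi_of_isIso_of_mono φ).2 (hT 0).exact
      refine (ShortComplex.exact_and_epi_g_iff_of_iso ?_).2 (⟨h', (hT 0).epi_g⟩ : S'.Exact ∧ Epi S'.g)
      exact ShortComplex.isoMk (Iso.refl _) (Iso.refl _) (Iso.refl _) (by simp [S', hd])
        (by simp [S', ChainComplex.toSingle₀Equiv])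
    all_goals rfl
  | succ i =>
    rw [quasiIsoAt_iff_exactAt' _ _ (ChainComplex.exactAt_succ_single_obj _ _)]
    exact K0Res.complex_exactAt T hT hl (i + 1) (by omega)

theorem hasLFRes_of_res {T : ℕ → ShortComplex X.Modules} (hT : IsRes (LF X) T) {A : X.Modules}
    (h0 : (T 0).X₃ = A) {n : ℕ} (hn : FlatMod.IsFinLocFree (T n).X₃) : KRR.HasLFRes A := by
  subst h0
  have hs := trunc_shortExact (fun i => (hT i).1) n
  have hl := trunc_link (fun i => (hT i).2.2) n
  obtain ⟨π, hπ⟩ := exists_aug (trunc T n) hs hl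
  rw [← trunc_zero_X₃ T n]
  exact ⟨n, K0Res.complex (trunc T n) hl, π, fun i => trunc_lf hT hn i, fun i hi => trunc_isZero T hi, hπ⟩

theorem hasLFRes_of_pdLT [IsLocallyNoetherian X] (hX : KRR.HasEnoughLocFree X) {A : X.Modules} (hA : Coh.IsCoh A)
    {n : ℕ} (h : PdLT A (n + 1)) : KRR.HasLFRes A := by
  obtain ⟨T, hT, h0⟩ := K0Res.exists_res (hypCoh hX) hA
  exact hasLFRes_of_res hT h0 (isFinLocFree_syzygy hT h0 hA h)

theorem exists_pdLT {A : X.Modules} (h : KRR.HasLFRes A) : ∃ n, PdLT A (n + 1) := by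
  obtain ⟨n, L, π, hL, hz, hπ⟩ := h
  refine ⟨n, fun x => ?_⟩
  haveI := hπ
  let G := St x
  let P : ProjectiveResolution (G.obj A) :=
    { complex := (G.mapHomologicalComplex _).obj L
      projective := fun i => projective_stalk (hL i) x
      π := (G.mapHomologicalComplex _).map π ≫ ((HomologicalComplex.singleMapHomologicalComplex G _ 0).app A).hom
      quasiIso := inferInstance }
  exact PdRes.hasProjectiveDimensionLE_of_resolution n _ P (fun i hi => G.map_isZero (hz i hi)) n le_rfl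

/-- coherent with a finite resolution -/
abbrev ResP (X : Scheme.{u}) : ObjectProperty X.Modules := fun M : X.Modules => Coh.IsCoh M ∧ KRR.HasLFRes M

theorem hypRes [IsLocallyNoetherian X] (hX : KRR.HasEnoughLocFree X)
    (h : ∀ M : X.Modules, FlatMod.IsFinLocFree M → Coh.IsCoh M ∧ KRR.HasLFRes M) :
    K0Res.Hyp (LF X) (ResP X) where
  iso₀ := lf_iso
  iso₁ := ⟨fun e hM => by
    obtain ⟨n, hn⟩ := exists_pdLT hM.2
    exact ⟨K0Coh.isCoh_of_iso e hM.1, hasLFRes_of_pdLT hX (K0Coh.isCoh_of_iso e hM.1) (n := n) fun x =>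
      haveI := hn x
      hasProjectiveDimensionLT_of_iso ((St x).mapIso e) _⟩⟩
  le M hM := h M hM
  ext₁ S hS h₁ h₃ := by
    obtain ⟨m, hm⟩ := exists_pdLT h₁.2
    obtain ⟨k, hk⟩ := exists_pdLT h₃.2
    exact ⟨isCoh_mid hS h₁.1 h₃.1, hasLFRes_of_pdLT hX (isCoh_mid hS h₁.1 h₃.1) (n := max m k)
      (pdLT_mid hS (hm.mono (by omega)) (hk.mono (by omega)))⟩
  ker₀ _ hS h₂ h₃ := isFinLocFree_left hS h₂ h₃
  ker₁ S hS h₂ h₃ := by
    obtain ⟨m, hm⟩ := exists_pdLT h₂.2
    obtain ⟨k, hk⟩ := exists_pdLT h₃.2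
    exact ⟨isCoh_left hS h₂.1 h₃.1, hasLFRes_of_pdLT hX (isCoh_left hS h₂.1 h₃.1) (n := max m k)
      (pdLT_left hS (hm.mono (by omega)) (hk.mono (by omega)))⟩
  lift _ _ _ u' v hu hA hB hD := @exists_lift X _ hX _ _ _ u' v hu hA.1 hB.1 hD.1

/-- The resolution theorem for coherent modules with finite resolutions. -/
theorem bijective_res [IsLocallyNoetherian X] (hX : KRR.HasEnoughLocFree X)
    (h : ∀ M : X.Modules, FlatMod.IsFinLocFree M → Coh.IsCoh M ∧ KRR.HasLFRes M) :
    Function.Bijective (SGA6.mapSub (𝟭 X.Modules) (LF X) (ResP X) h) := by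
  refine K0Res.bijective (hypRes hX h) fun A hA => ?_
  obtain ⟨n, hn⟩ := exists_pdLT hA.2
  exact ⟨n, hA, fun T hT h0 => isFinLocFree_syzygy hT h0 hA.1 hn⟩

/-- On a Noetherian regular scheme every coherent module has bounded stalkwise projective dimension. -/
theorem exists_pdLT_of_regular [IsNoetherian X] (hX : KRR.HasEnoughLocFree X)
    (hreg : ∀ x : X, IsRegularLocalRing (X.presheaf.stalk x)) {A : X.Modules} (hA : Coh.IsCoh A) :
    ∃ n, PdLT A (n + 1) := by
  obtain ⟨T, hT, h0⟩ := K0Res.exists_res (hypCoh hX) hA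
  subst h0
  -- the pointwise bound
  have hpt : ∀ x : X, ∃ d : ℕ, HasProjectiveDimensionLT ((St x).obj (T 0).X₃) (d + 1) := fun x => by
    haveI := hreg x
    exact ⟨_, SerreReg.pdLE_of_isRegularLocalRing _ _
      (IsRegularLocalRing.spanFinrank_maximalIdeal (R := X.presheaf.stalk x)).symm ((St x).obj (T 0).X₃)⟩
  choose d hd using hpt
  -- the syzygy is free near the point
  have key : ∀ x : X, ∃ U : X.Opens, x ∈ U ∧ ∀ y ∈ U, HasProjectiveDimensionLT ((St y).obj (T 0).X₃) (d x + 1) := by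
    intro x
    have hdown : ∀ i, i ≤ d x → HasProjectiveDimensionLT ((St x).obj (T i).X₃) (d x - i + 1) := by
      intro i
      induction i with
      | zero => intro _; exact hd x
      | succ i ih =>
        intro hi
        rw [(hT i).2.2]
        haveI := projective_stalk (hT i).2.1 x
        refine ((hT i).1.map_of_exact (St x)).hasProjectiveDimensionLT_X₁ _ ?_ ?_
        · exact hasProjectiveDimensionLT_of_ge ((St x).obj (T i).X₂) 1 _ (by omega)
        · haveI := ih (by omega)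
          exact hasProjectiveDimensionLT_of_ge ((St x).obj (T i).X₃) (d x - i + 1) _ (by omega)
    have h1 := hdown (d x) le_rfl
    rw [Nat.sub_self] at h1
    obtain ⟨U, hxU, hU⟩ := exists_free_nhd (res_coh hT hA (d x)) (freeAt_of_pdLT_one (res_coh hT hA (d x)) h1)
    refine ⟨U, hxU, fun y hy => ?_⟩
    have hfree : DCohLocus.FreeAt (T (d x)).X₃ y :=
      (DCohLocus.freeAt_restrict_iff (T (d x)).X₃ U ⟨y, hy⟩).1 (DCohLocus.freeAt_of_isFinLocFree hU _)
    haveI : Projective ((St y).obj (T (d x)).X₃) :=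
      haveI : Module.Free (X.presheaf.stalk y) ((St y).obj (T (d x)).X₃) := hfree.1
      (IsProjective.iff_projective ((St y).obj (T (d x)).X₃ : Type u)).1 inferInstance
    have hup : ∀ j, j ≤ d x → HasProjectiveDimensionLT ((St y).obj (T (d x - j)).X₃) (j + 1) := by
      intro j
      induction j with
      | zero => intro _; rw [Nat.sub_zero]; infer_instance
      | succ j ih =>
        intro hj
        have h2 := ih (by omega)
        rw [show d x - j = d x - (j + 1) + 1 by omega, (hT (d x - (j + 1))).2.2] at h2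
        haveI := projective_stalk (hT (d x - (j + 1))).2.1 y
        exact ((hT (d x - (j + 1))).1.map_of_exact (St y)).hasProjectiveDimensionLT_X₃ _ h2
          (hasProjectiveDimensionLT_of_ge ((St y).obj (T (d x - (j + 1))).X₂) 1 _ (by omega))
    have := hup (d x) le_rfl
    rwa [Nat.sub_self] at this
  choose U hxU hU using key
  obtain ⟨s, hs⟩ := isCompact_univ.elim_finite_subcover (fun x => (U x : Set X)) (fun x => (U x).2)
    (fun x _ => Set.mem_iUnion.2 ⟨x, hxU x⟩)
  refine ⟨s.sup d, fun y => ?_⟩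
  obtain ⟨x, hx, hy⟩ := Set.mem_iUnion₂.1 (hs (Set.mem_univ y))
  haveI := hU x y hy
  exact hasProjectiveDimensionLT_of_ge ((St y).obj (T 0).X₃) (d x + 1) _ (by simpa using Finset.le_sup (f := d) hx)

/-- On a regular Noetherian scheme the Cartan map is bijective. -/
theorem bijective_regular [IsNoetherian X] (hX : KRR.HasEnoughLocFree X)
    (hreg : ∀ x : X, IsRegularLocalRing (X.presheaf.stalk x))
    (h : ∀ M : X.Modules, FlatMod.IsFinLocFree M → Coh.IsCoh M) :
    Function.Bijective (SGA6.mapSub (𝟭 X.Modules) (LF X) (CohP X) h) := by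
  refine K0Res.bijective (hypCoh hX) fun A hA => ?_
  obtain ⟨n, hn⟩ := exists_pdLT_of_regular hX hreg hA
  exact ⟨n, hA, fun T hT h0 => isFinLocFree_syzygy hT h0 hA hn⟩

end Groth.Agent.K0ResLF
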