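import Groth.Agent.K0ResLF.KoszulCx
import Groth.Agent.K0ResLF.KoszulReg
import Groth.Agent.K0ResLF.Main
import Groth.Agent.FPExt.Basic
import Groth.Agent.Conormal.Maps
import Groth.Agent.KoszulLib.SchKer

/-!
The Koszul resolution of the zero scheme of a regular cosection.
-/

set_option autoImplicit false
set_option linter.style.haveILetI false
set_option backward.isDefEq.respectTransparency false
set_option backward.isDefEq.respectTransparency.types false
set_option maxHeartbeats 1000000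

universe u

open CategoryTheory CategoryTheory.Limits AlgebraicGeometry TopologicalSpace Opposite
open Groth.Agent.QC (res resO res_res res_smul app_res section_eq_of_locally)

noncomputable section

namespace Groth.Agent.K0ResLF

variable {X Y : Scheme.{u}} {E : Y.Modules} {t : E ⟶ Coh.structureModule Y}

theorem exists_affine_basis {d : ℕ} (hE : FlatMod.IsFinLocFreeOfRank d E) (y : Y) :
    ∃ W : Y.Opens, y ∈ W ∧ ∀ U : Y.affineOpens, U.1 ≤ W →
      Nonempty (Module.Basis (Fin d) Γ(Y, U.1) Γ(E, U.1)) := by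
  obtain ⟨W, e, hyW, he⟩ := CurveRR.exists_frame hE y
  exact ⟨W, hyW, fun U h => ⟨Module.Basis.ofEquivFun (he.equiv h).symm⟩⟩

/-- Terms above the rank vanish. -/
theorem isZero_cx_X {d : ℕ} (hE : FlatMod.IsFinLocFreeOfRank d E) (C : KoszSh.Cx E t) {p : ℕ} (hp : d < p) :
    IsZero (C.K.X p) := by
  rw [IsZero.iff_id_eq_zero]
  refine KosExt.hom_ext_affine fun U s => ?_
  refine section_eq_of_locally fun y hy => ?_
  obtain ⟨W, hyW, hW⟩ := exists_affine_basis hE y
  obtain ⟨V, hV, hyV, hVle⟩ := exists_isAffineOpen_mem_and_subset (x := y) (U := U.1 ⊓ W) ⟨hy, hyW⟩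
  obtain ⟨b⟩ := hW ⟨V, hV⟩ fun z hz => (hVle hz).2
  haveI : Subsingleton ↥(⋀[Γ(Y, V)]^p Γ(E, V)) := by
    haveI : IsEmpty (Set.powersetCard (Fin d) p) :=
      Finite.card_eq_zero_iff.mp (by rw [Set.powersetCard.card, Nat.card_fin, Nat.choose_eq_zero_of_lt hp])
    exact (b.exteriorPower p).repr.toEquiv.subsingleton
  haveI : Subsingleton Γ(C.K.X p, V) := (C.loc p ⟨V, hV⟩).toEquiv.subsingleton
  exact ⟨V, fun z hz => (hVle hz).1, hyV, Subsingleton.elim _ _⟩

/-- The degree-zero term is the structure sheaf. -/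
theorem exists_zero_hom (C : KoszSh.Cx E t) : ∃ a : C.K.X 0 ⟶ Coh.structureModule Y,
    ∀ (U : Y.affineOpens) (s : Γ(C.K.X 0, U.1)),
      (show Γ(Y, U.1) from a.app U.1 s) = exteriorPower.zeroEquiv Γ(Y, U.1) Γ(E, U.1) (C.loc 0 U s) := by
  let ψ : ∀ U : Y.affineOpens, Γ(C.K.X 0, U.1) →ₗ[Γ(Y, U.1)] Γ(Coh.structureModule Y, U.1) := fun U =>
    { toFun := fun s => exteriorPower.zeroEquiv Γ(Y, U.1) Γ(E, U.1) (C.loc 0 U s)
      map_add' := fun a b => by
        show (_ : Γ(Y, U.1)) = _ + _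
        rw [map_add, map_add]
      map_smul' := fun r a => by
        show (_ : Γ(Y, U.1)) = r * _
        rw [map_smul, map_smul]; rfl }
  obtain ⟨a, ha⟩ := KosExt.exists_hom_affine (C.K.X 0) (Coh.structureModule Y) ψ fun U V h s => by
    obtain ⟨y, rfl⟩ := (C.loc 0 U).symm.surjective s
    show resO Y h (exteriorPower.zeroEquiv Γ(Y, U.1) Γ(E, U.1) (C.loc 0 U ((C.loc 0 U).symm y))) =
      exteriorPower.zeroEquiv Γ(Y, V.1) Γ(E, V.1) (C.loc 0 V (res (C.K.X 0) h ((C.loc 0 U).symm y)))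
    have hy : y ∈ Submodule.span Γ(Y, U.1)
        (Set.range (exteriorPower.ιMulti Γ(Y, U.1) 0 (M := Γ(E, U.1)))) := by
      rw [exteriorPower.ιMulti_span]; trivial
    induction hy using Submodule.span_induction with
    | mem y hy =>
      obtain ⟨e, rfl⟩ := hy
      rw [show res (C.K.X 0) h ((C.loc 0 U).symm (exteriorPower.ιMulti _ 0 e)) = _ from C.loc_res 0 U V h e,
        LinearEquiv.apply_symm_apply, LinearEquiv.apply_symm_apply, exteriorPower.zeroEquiv_ιMulti,
        exteriorPower.zeroEquiv_ιMulti, map_one]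
    | zero => simp only [map_zero]
    | add a b _ _ ha hb => simp only [map_add, ha, hb]
    | smul r a _ ha => simp only [map_smul, res_smul, smul_eq_mul, map_mul, ha]
  exact ⟨a, fun U s => ha U s⟩

/-- The Koszul complex resolves the structure sheaf of the zero scheme. -/
theorem exists_koszul_res [IsLocallyNoetherian Y] {d : ℕ} (hE : FlatMod.IsFinLocFreeOfRank d E)
    (i : X ⟶ Y) [IsClosedImmersion i]
    (ht : ∀ U : Y.affineOpens, i.ker.ideal U = Ideal.span {a : Γ(Y, U.1) | ∃ s : Γ(E, U.1), (t.app U.1) s = a})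
    (hi : Mor2.IsRegularClosedImmersion i) (hci : FlatMod.IsFinLocFreeOfRank d (Omega.conormal i)) :
    ∃ (C : KoszSh.Cx E t)
      (π : C.K ⟶ (ChainComplex.single₀ Y.Modules).obj ((Scheme.Modules.pushforward i).obj (Coh.structureModule X))),
      KRR.IsLFRes ((Scheme.Modules.pushforward i).obj (Coh.structureModule X)) d C.K π := by
  obtain ⟨C, hC⟩ := exists_cx t (SGA6Ext.finLocFree_of_rank hE)
  obtain ⟨a, ha⟩ := exists_zero_hom C
  let π₀ : C.K.X 0 ⟶ (Scheme.Modules.pushforward i).obj (Coh.structureModule X) := a ≫ ClSub.unitToPush i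
  have hπ₀ : ∀ (U : Y.affineOpens) (s : Γ(C.K.X 0, U.1)), (show Γ(X, i ⁻¹ᵁ U.1) from π₀.app U.1 s) =
      i.app U.1 (exteriorPower.zeroEquiv Γ(Y, U.1) Γ(E, U.1) (C.loc 0 U s)) := fun U s => by
    rw [← ha U s]; rfl
  have hker : ∀ (U : Y.affineOpens) (r : Γ(Y, U.1)), i.app U.1 r = 0 ↔ ∃ e : Γ(E, U.1),
      KoszSh.secForm t U.1 e = r := fun U r => by
    have h1 : i.app U.1 r = 0 ↔ r ∈ LinearMap.range (KoszSh.secForm t U.1) := by
      rw [← RingHom.mem_ker, ← Scheme.Hom.ker_apply, ht U]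
      have : Ideal.span {a : Γ(Y, U.1) | ∃ s : Γ(E, U.1), (t.app U.1) s = a} =
          LinearMap.range (KoszSh.secForm t U.1) := by
        refine le_antisymm (Ideal.span_le.2 ?_) ?_
        · rintro _ ⟨s, rfl⟩; exact ⟨s, rfl⟩
        · rintro _ ⟨s, rfl⟩; exact Ideal.subset_span ⟨s, rfl⟩
      rw [this]
    rw [h1, LinearMap.mem_range]
  have hd : ∀ (U : Y.affineOpens) (e : Γ(E, U.1)),
      exteriorPower.zeroEquiv Γ(Y, U.1) Γ(E, U.1) (C.loc 0 U ((C.K.d 1 0).app U.1
        ((C.loc 1 U).symm (exteriorPower.ιMulti _ 1 fun _ => e)))) = KoszSh.secForm t U.1 e := fun U e => by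
    rw [C.rule 0 U, LinearEquiv.apply_symm_apply, KoszSh.dGen, Fin.sum_univ_one, map_smul,
      exteriorPower.zeroEquiv_ιMulti, smul_eq_mul, mul_one, Fin.val_zero, pow_zero, one_mul]
  have hw : C.K.d 1 0 ≫ π₀ = 0 := KosExt.hom_ext_affine fun U s => by
    obtain ⟨y, rfl⟩ := (C.loc 1 U).symm.surjective s
    have hy : y ∈ Submodule.span Γ(Y, U.1)
        (Set.range (exteriorPower.ιMulti Γ(Y, U.1) 1 (M := Γ(E, U.1)))) := by
      rw [exteriorPower.ιMulti_span]; trivial
    show π₀.app U.1 ((C.K.d 1 0).app U.1 ((C.loc 1 U).symm y)) = 0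
    induction hy using Submodule.span_induction with
    | mem y hy =>
      obtain ⟨e, rfl⟩ := hy
      refine (hπ₀ U _).trans ?_
      rw [show e = fun _ => e 0 from funext fun j => by rw [Subsingleton.elim j 0], hd]
      exact (hker U _).2 ⟨_, rfl⟩
    | zero => simp only [map_zero]
    | add a b _ _ ha hb => simp only [map_add, ha, hb, add_zero]
    | smul r a _ ha => simp only [map_smul, Scheme.Modules.Hom.app_smul, ha, smul_zero]
  let S : ShortComplex Y.Modules := ShortComplex.mk (C.K.d 1 0) π₀ hw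
  have hS : S.Exact := by
    refine Conormal.exact_of_basis S (B := {W | IsAffineOpen W}) (fun O z hz => ?_) ?_
    · obtain ⟨V, hV, hzV, hVle⟩ := exists_isAffineOpen_mem_and_subset (x := z) hz
      exact ⟨V, hV, hVle, hzV⟩
    · intro W hW s hs
      obtain ⟨e, he⟩ := (hker ⟨W, hW⟩ _).1 ((hπ₀ ⟨W, hW⟩ s).symm.trans hs)
      refine ⟨(C.loc 1 ⟨W, hW⟩).symm (exteriorPower.ιMulti _ 1 fun _ => e), ?_⟩
      exact (C.loc 0 ⟨W, hW⟩).injective ((exteriorPower.zeroEquiv Γ(Y, W) Γ(E, W)).injective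
        ((hd ⟨W, hW⟩ e).trans he))
  have hepi : Epi π₀ := FPExt.epi_of_locally π₀ fun O r y hy => by
    obtain ⟨V, hV, hyV, hVle⟩ := exists_isAffineOpen_mem_and_subset (x := y) (U := O) hy
    obtain ⟨c, hc⟩ := KoszulLib.app_surjective i (U := ⟨V, hV⟩) inferInstance
      (res ((Scheme.Modules.pushforward i).obj (Coh.structureModule X)) hVle r)
    refine ⟨V, hVle, hyV, (C.loc 0 ⟨V, hV⟩).symm ((exteriorPower.zeroEquiv Γ(Y, V) Γ(E, V)).symm c), ?_⟩
    refine (hπ₀ ⟨V, hV⟩ _).trans ?_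
    rw [LinearEquiv.apply_symm_apply, LinearEquiv.apply_symm_apply]
    exact hc
  let π : C.K ⟶ (ChainComplex.single₀ Y.Modules).obj ((Scheme.Modules.pushforward i).obj (Coh.structureModule X)) :=
    (ChainComplex.toSingle₀Equiv _ _).symm ⟨π₀, hw⟩
  refine ⟨C, π, hC, fun p hp => isZero_cx_X hE C hp, ⟨fun p => ?_⟩⟩
  cases p with
  | zero =>
    rw [ChainComplex.quasiIsoAt₀_iff, ShortComplex.quasiIso_iff_of_zeros']
    · refine (ShortComplex.exact_and_epi_g_iff_of_iso ?_).2 (⟨hS, hepi⟩ : S.Exact ∧ Epi S.g)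
      exact ShortComplex.isoMk (Iso.refl _) (Iso.refl _) (Iso.refl _) (by simp [S])
        (by simp [S, π, ChainComplex.toSingle₀Equiv])
    all_goals first | rfl | simp
  | succ p =>
    rw [quasiIsoAt_iff_exactAt' _ _ (ChainComplex.exactAt_succ_single_obj _ _),
      HomologicalComplex.exactAt_iff_isZero_homology]
    exact KosExt.isZero_homology d hE (fun y => exists_regular_basis hE t i ht hi hci y) C (p + 1) (by omega)

end Groth.Agent.K0ResLF
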