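import Groth.Agent.ExtShX.TwistCover
import Groth.Agent.PnReg.KTwist
import Groth.Agent.CurveRR.Curve
import Groth.Agent.SGA6Ext.Model
import Groth.Agent.DCohLocus.FreeLocus
import Groth.Agent.K0Dev.Abstract
import Groth.Agent.K0Res.Main

/-!
Twists by high powers of an ample module are quotients of free modules of finite rank; ample line elements.
-/

set_option autoImplicit false
set_option linter.style.haveILetI false
set_option linter.unusedSectionVars false
set_option backward.isDefEq.respectTransparency false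
set_option backward.isDefEq.respectTransparency.types false

universe v u

open CategoryTheory CategoryTheory.Limits AlgebraicGeometry TopologicalSpace Opposite
open Groth.Agent.QC (res resO res_res res_smul resO_resO app_res res_self)

attribute [local instance] HasDerivedCategory.standard

noncomputable section

namespace Groth.Agent.K0ResLF

open Groth.Agent.ResDesc

variable {X : Scheme.{u}}

set_option maxHeartbeats 800000 in
/-- High twists are quotients of free modules of finite rank. -/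
theorem exists_epi_free_twist {L : X.Modules} (hL : CohB1.IsAmple L) (F : X.Modules) (hF : Coh.IsQCoh F)
    (hFT : CohB1.IsFT F) : ∃ n₀ : ℕ, ∀ n, n₀ ≤ n → ∃ (r : ℕ)
      (π : FlatMod.freeMod X r ⟶ CohB1.tensorMod F (CohB1.tensorPow L n)), Epi π := by
  classical
  haveI := hL.2.1
  obtain ⟨n₀, hn⟩ := TMul.exists_forall_genOn hL (F := F) hFT
  refine ⟨n₀, fun n hle => ?_⟩
  let P := CohB1.tensorPow L n
  have hP : PicF.IsInvertible P := TMul.isInvertible_tensorPow hL.1 n
  let G := CohB1.tensorMod F P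
  have hG : Coh.IsQCoh G := TMul.isQCoh_tensor hP
  have hGT : CohB1.IsFT G := TMul.isFT_tensor hP hFT
  choose D hD hxD hgen using hn n hle
  obtain ⟨s, hs⟩ := isCompact_univ.elim_finite_subcover (fun x : X => (D x : Set X)) (fun x => (D x).2)
    (fun x _ => Set.mem_iUnion.mpr ⟨x, hxD x⟩)
  have hfg : ∀ x : X, ∃ T : Finset Γ(G, ⊤),
      Submodule.span Γ(X, D x) (res G (le_top : D x ≤ ⊤) '' (T : Set Γ(G, ⊤))) = ⊤ := fun x => by
    haveI : G.IsQuasicoherent := hG
    haveI := (QC.isFT_iff_finite_sections (M := G)).mp hGT ⟨D x, hD x⟩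
    obtain ⟨T, hT⟩ : ∃ T : Finset Γ(G, D x), Submodule.span Γ(X, D x) (T : Set Γ(G, D x)) = ⊤ :=
      (Module.Finite.fg_top : (⊤ : Submodule Γ(X, D x) Γ(G, D x)).FG)
    have hTsub : ∀ t : T, ∃ T' : Finset Γ(G, ⊤),
        (t : Γ(G, D x)) ∈ Submodule.span Γ(X, D x) (res G (le_top : D x ≤ ⊤) '' (T' : Set Γ(G, ⊤))) := fun t => by
      have ht : (t : Γ(G, D x)) ∈ Submodule.span Γ(X, D x) (Set.range (res G (le_top : D x ≤ ⊤))) := (hgen x) ▸ trivial
      obtain ⟨S, hS, htS⟩ := Submodule.mem_span_finite_of_mem_span ht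
      choose g hg using fun y : S => hS y.2
      refine ⟨S.attach.image g, Submodule.span_mono (fun y hy => ?_) htS⟩
      exact ⟨g ⟨y, hy⟩, by simp, hg _⟩
    choose T' hT' using hTsub
    refine ⟨T.attach.biUnion T', top_le_iff.mp (hT ▸ Submodule.span_le.mpr fun t ht => ?_)⟩
    exact Submodule.span_mono (Set.image_mono (fun z hz => Finset.mem_biUnion.mpr ⟨⟨t, ht⟩, by simp, hz⟩)) (hT' ⟨t, ht⟩)
  choose T hT using hfg
  let K := s.biUnion T
  let e := K.equivFin
  let E := FlatMod.freeMod X K.card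
  let p : E ⟶ G := Sigma.desc fun i => TMul.homOf ((e.symm i).1)
  have hp : Epi p := by
    refine Preadditive.epi_of_cancel_zero _ fun {N} g hg => ?_
    refine cancel_zero_of_span hG (fun x : s => D x.1) (fun x => hD x.1) (fun y => ?_)
      (fun x => res G le_top '' (T x.1 : Set Γ(G, ⊤))) (fun x => hT x.1) g fun x t ht => ?_
    · obtain ⟨x, hx, hy⟩ := Set.mem_iUnion₂.mp (hs (Set.mem_univ y))
      exact ⟨⟨x, hx⟩, hy⟩
    · obtain ⟨t, ht', rfl⟩ := ht
      let i := e ⟨t, Finset.mem_biUnion.mpr ⟨x.1, x.2, ht'⟩⟩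
      have h : Sigma.ι (fun _ : Fin K.card => Coh.structureModule X) i ≫ p = TMul.homOf t := by
        rw [Sigma.ι_desc]; simp [i, e]
      have h' : TMul.homOf t ≫ g = 0 := by rw [← h, Category.assoc, hg, comp_zero]
      have h2 : g.app ⊤ t = 0 := by
        have e := congrArg (fun φ : Coh.structureModule X ⟶ N => TMul.val φ ⊤) h'
        simp only [TMul.val_comp, TMul.val_homOf, res_self] at e
        exact e.trans rfl
      rw [← app_res, h2, map_zero]
  exact ⟨K.card, p, hp⟩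

section Model

variable [ConnectedSpace ↥X] {K : Type v} [CommRing K] [LambdaRing.LambdaOps K] {P : LambdaRing.PosStructure K}
  {φ : SGA6.Kvb X →+ K} (hK : KRR.IsModel X K P φ)
include hK

lemma phi_mul {E F : X.Modules} (hE : FlatMod.IsFinLocFree E) (hF : FlatMod.IsFinLocFree F) :
    φ (KRR.cl X (CohB1.tensorMod E F)) = φ (KRR.cl X E) * φ (KRR.cl X F) :=
  (hK.map_mul E F hE hF).symm

lemma phi_tensorPow {L : X.Modules} (hL : FlatMod.IsFinLocFree L) :
    ∀ n, FlatMod.IsFinLocFree (CohB1.tensorPow L n) ∧ φ (KRR.cl X (CohB1.tensorPow L n)) = φ (KRR.cl X L) ^ n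
  | 0 => ⟨SGA6Ext.finLocFree_unit X, by rw [pow_zero]; exact hK.map_one⟩
  | n + 1 => by
    obtain ⟨h1, h2⟩ := phi_tensorPow hL n
    refine ⟨SGA6Ext.isFinLocFree_tm h1 hL, ?_⟩
    show φ (KRR.cl X (CohB1.tensorMod (CohB1.tensorPow L n) L)) = _
    rw [phi_mul hK h1 hL, h2, pow_succ]

lemma phi_free (r : ℕ) : φ (KRR.cl X (FlatMod.freeMod X r)) = (r : K) := by
  have h : KRR.cl X (FlatMod.freeMod X r) = (r : ℤ) • KRR.cl X (Coh.structureModule X) :=
    PnReg.cls_free X r
  rw [h, map_zsmul, hK.map_one, zsmul_one, Int.cast_natCast]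

lemma pow_mem_pos {u : K} (hu : u ∈ P.pos) : ∀ n : ℕ, u ^ n ∈ P.pos
  | 0 => by rw [pow_zero]; simpa using P.natCast_mem 1 one_pos
  | n + 1 => by rw [pow_succ]; exact P.mul_mem _ _ (pow_mem_pos hu n) hu

theorem isAmpleElt [IsNoetherian X] {L : X.Modules} (hL : CohB1.IsAmple L) :
    KRR.IsAmpleElt P (φ (KRR.cl X L)) := by
  have hLf : FlatMod.IsFinLocFree L := ResDesc.isFinLocFree_of_isInvertible hL.1
  have hLr : FlatMod.IsFinLocFreeOfRank 1 L := CurveRR.isFinLocFreeOfRank_one hL.1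
  have hpos : φ (KRR.cl X L) ∈ P.pos := (hK.mem_pos_iff _).2 ⟨1, L, le_rfl, hLr, rfl⟩
  refine ⟨⟨hpos, by rw [hK.aug_cl 1 L hLr]; rfl⟩, fun x => ?_⟩
  obtain ⟨e, f, he, hf, rfl⟩ := P.exists_sub x
  obtain ⟨a, F, -, hFr, rfl⟩ := (hK.mem_pos_iff f).1 hf
  have hFl := SGA6Ext.finLocFree_of_rank hFr
  obtain ⟨n₀, hn₀⟩ := exists_epi_free_twist hL F (LocFree.isQCoh_of_isFinLocFree hFl)
    (LocFree.isFT_of_isFinLocFree hFl)
  refine ⟨n₀, fun n hn => ?_⟩
  obtain ⟨r, π, hπ⟩ := hn₀ n hn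
  haveI := hπ
  obtain ⟨hPl, hPc⟩ := phi_tensorPow hK hLf n
  have hG := SGA6Ext.isFinLocFree_tm hFl hPl
  have hr : FlatMod.IsFinLocFree (FlatMod.freeMod X r) := DCohLocus.isFinLocFree_free X r
  have hKer := DCohLocus.isFinLocFree_kernel π hr hG
  have hsum : φ (KRR.cl X (FlatMod.freeMod X r)) =
      φ (KRR.cl X (kernel π)) + φ (KRR.cl X (CohB1.tensorMod F (CohB1.tensorPow L n))) := by
    rw [← map_add]
    exact congrArg φ (K0Res.clSub_add (KRR.vbP X) (K0Res.kerSeq_shortExact π) hKer hr hG)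
  rw [phi_free hK, phi_mul hK hFl hPl, hPc] at hsum
  rcases Nat.eq_zero_or_pos (SGA6Ext.rank (kernel π)) with h0 | h0
  · have hz : φ (KRR.cl X (kernel π)) = 0 := by
      have : IsZero (kernel π) := SGA6Ext.isZero_of_rank_zero (h0 ▸ SGA6Ext.isRank hKer)
      rw [show KRR.cl X (kernel π) = 0 from K0Dev.cl_zero this, map_zero]
    refine ⟨φ (KRR.cl X L) ^ n * e, r, P.mul_mem _ _ (pow_mem_pos hK hpos n) he, ?_⟩
    rw [hsum, hz, zero_add, mul_sub, mul_comm (φ (KRR.cl X F))]
  · refine ⟨φ (KRR.cl X L) ^ n * e + φ (KRR.cl X (kernel π)), r,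
      P.add_mem _ _ (P.mul_mem _ _ (pow_mem_pos hK hpos n) he)
        ((hK.mem_pos_iff _).2 ⟨_, _, h0, SGA6Ext.isRank hKer, rfl⟩), ?_⟩
    rw [hsum]; ring

end Model

end Groth.Agent.K0ResLF
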