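import Groth.Agent.KSplit.GammaModel
import Groth.Agent.PnReg.KModel

/-!
The γ-filtration of a projective bundle is generated by the filtration of the base.
-/

set_option autoImplicit false
set_option linter.unusedSectionVars false
set_option linter.style.haveILetI false
set_option backward.isDefEq.respectTransparency false
set_option backward.isDefEq.respectTransparency.types false
set_option maxHeartbeats 1000000

universe v w u

open CategoryTheory CategoryTheory.Limits AlgebraicGeometry TopologicalSpace Opposite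
open LambdaRing Polynomial

noncomputable section

namespace Groth.Agent.K0ResLF

open Groth.Agent.KSplit

variable {r : ℕ} {T : Scheme.{u}} (B : PBReg.Bun r T)

/-- Elements of the filtration of the bundle are combinations of inverse images. -/
theorem gFil_induction [IsNoetherian T] [ConnectedSpace ↥T] [IsNoetherian B.P] [ConnectedSpace ↥B.P]
    (k : ℕ) {Mot : SGA6.Kvb B.P → Prop} (h0 : Mot 0) (hadd : ∀ a b, Mot a → Mot b → Mot (a + b))
    (hmem : ∀ (i : ℕ) (a : SGA6.Kvb T) (z : SGA6.Kvb B.P), i ≤ r → a ∈ gFil T (k - i) →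
      Mot (SGA6Ext.mulK B.P (SGA6Ext.pullK B.π a) z))
    {x : SGA6.Kvb B.P} (hx : x ∈ gFil B.P k) : Mot x := by
  letI := SGA6Ext.kvbRing T
  letI := SGA6Ext.kvbLam T
  letI := SGA6Ext.kvbRing B.P
  letI := SGA6Ext.kvbLam B.P
  let P := SGA6Ext.kvbPos T
  let PP := SGA6Ext.kvbPos B.P
  have hT := isModel_kvb T
  have hP := isModel_kvb B.P
  let e : SGA6.Kvb T := SGA6Ext.cls B.E
  let g := pullRing B.π
  have hg : KRR.IsPull B.π (AddMonoidHom.id _) (AddMonoidHom.id _) g.toAddMonoidHom := fun E hE =>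
    SGA6Ext.pullK_cls B.π hE
  have hr : P.aug e = r + 1 := (hT.aug_cl (r + 1) B.E B.hE).trans (by push_cast; ring)
  have he : e ∈ P.pos := (hT.mem_pos_iff e).2 ⟨r + 1, B.E, by omega, B.hE, rfl⟩
  let l : SGA6.Kvb B.P := SGA6Ext.cls B.O1
  have hrel := S3788.result T B.P r B.E B.hE B.π B.O1 B.q B.hB (SGA6.Kvb T) P _ hT (SGA6.Kvb B.P) PP _ hP _ hg
  have hbij := S3789.result T B.P r B.E B.hE B.π B.O1 B.q B.hB (SGA6.Kvb T) P _ hT (SGA6.Kvb B.P) PP _ hP _ hg
  have hrel' : (KRR.extPoly P e).eval₂ g l = 0 := by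
    rw [KRRLam.extPoly_eq (P := P) hr, eval₂_finsetSum]
    refine (Finset.sum_congr rfl fun i _ => ?_).trans hrel
    rw [eval₂_mul, eval₂_C, eval₂_X_pow, map_mul, map_pow, map_neg, map_one]
    rfl
  let Ψ : AdjoinRoot (KRR.extPoly P e) →+* SGA6.Kvb B.P := AdjoinRoot.lift g l hrel'
  have hΨof : ∀ x, Ψ (AdjoinRoot.of (KRR.extPoly P e) x) = g x := fun x => AdjoinRoot.lift_of hrel'
  have hΨroot : Ψ (AdjoinRoot.root (KRR.extPoly P e)) = l := AdjoinRoot.lift_root hrel'
  obtain ⟨hmon, hdeg⟩ : (KRR.extPoly P e).Monic ∧ (KRR.extPoly P e).natDegree ≤ r + 1 := by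
    have e1 : KRR.extPoly P e = X ^ (r + 1) + ∑ i ∈ Finset.range (r + 1),
        C ((-1 : SGA6.Kvb T) ^ (i + 1) * LambdaOps.lam (i + 1) e) * X ^ (r + 1 - (i + 1)) := by
      rw [KRRLam.extPoly_eq (P := P) hr, Finset.sum_range_succ', add_comm]
      simp [LambdaOps.lam_zero]
    have hlt : (∑ i ∈ Finset.range (r + 1),
        C ((-1 : SGA6.Kvb T) ^ (i + 1) * LambdaOps.lam (i + 1) e) * (X : (SGA6.Kvb T)[X]) ^ (r + 1 - (i + 1))).degree
          < ((r + 1 : ℕ) : WithBot ℕ) := by
      refine lt_of_le_of_lt (degree_sum_le _ _) ((Finset.sup_lt_iff (by exact_mod_cast WithBot.bot_lt_coe _)).2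
        fun i _ => lt_of_le_of_lt (degree_C_mul_X_pow_le _ _) ?_)
      exact_mod_cast (by omega : r + 1 - (i + 1) < r + 1)
    refine ⟨e1 ▸ monic_X_pow_add hlt, ?_⟩
    rw [e1]
    refine natDegree_le_iff_degree_le.2 ((degree_add_le _ _).trans (max_le (degree_X_pow_le _) hlt.le))
  haveI : Nontrivial (SGA6.Kvb T) := ⟨⟨0, 1, fun h => by simpa using congrArg P.aug h⟩⟩
  have hnd : (KRR.extPoly P e).natDegree = r + 1 := by
    refine le_antisymm hdeg (le_natDegree_of_ne_zero ?_)
    rw [KRRLam.extPoly_eq (P := P) hr, finsetSum_coeff, Finset.sum_eq_single 0]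
    · simp [LambdaOps.lam_zero]
    · intro i hi hi0
      rw [coeff_C_mul_X_pow, if_neg (by omega)]
    · simp
  have hlow : ∀ q : (SGA6.Kvb T)[X], q.natDegree < r + 1 → q.eval₂ g l = 0 → q = 0 := fun q hq h0 => by
    rw [eval₂_eq_sum_range' g hq, ← Fin.sum_univ_eq_sum_range (fun i => g (q.coeff i) * l ^ i)] at h0
    have := hbij.1 (a₁ := fun i : Fin (r + 1) => q.coeff i) (a₂ := 0) (h0.trans (by simp))
    ext i
    rcases Nat.lt_or_ge i (r + 1) with hi | hi
    · simpa using congrFun this ⟨i, hi⟩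
    · simpa using coeff_eq_zero_of_natDegree_lt (lt_of_lt_of_le hq hi)
  have hne1 : KRR.extPoly P e ≠ 1 := fun h => by rw [h, natDegree_one] at hnd; omega
  have hΨ : Function.Bijective Ψ := by
    refine ⟨(injective_iff_map_eq_zero _).2 fun x hx => ?_, fun x => ?_⟩
    · obtain ⟨q, rfl⟩ := AdjoinRoot.mk_surjective x
      have hq : AdjoinRoot.mk (KRR.extPoly P e) (q %ₘ KRR.extPoly P e) = AdjoinRoot.mk _ q := by
        rw [AdjoinRoot.mk_eq_mk]
        refine ⟨-(q /ₘ KRR.extPoly P e), ?_⟩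
        linear_combination modByMonic_add_div q (KRR.extPoly P e)
      rw [← hq] at hx ⊢
      rw [hlow _ ((natDegree_modByMonic_lt q hmon hne1).trans_le hdeg) (by rwa [← AdjoinRoot.lift_mk hrel']), map_zero]
    · obtain ⟨a, rfl⟩ := hbij.2 x
      refine ⟨∑ i : Fin (r + 1), AdjoinRoot.of _ (a i) * AdjoinRoot.root _ ^ (i : ℕ), ?_⟩
      rw [map_sum]
      exact Finset.sum_congr rfl fun i _ => by rw [map_mul, map_pow, hΨof, hΨroot]; rfl
  obtain ⟨ψ, hψ, hψ'⟩ := Function.bijective_iff_has_inverse.1 hΨ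
  let inst : LambdaOps (AdjoinRoot (KRR.extPoly P e)) :=
    { lam := fun i x => ψ (LambdaOps.lam i (Ψ x))
      lam_zero := fun x => hΨ.1 (by rw [hψ', LambdaOps.lam_zero, map_one])
      lam_one := fun x => by rw [LambdaOps.lam_one, hψ]
      lam_add := fun i x y => hΨ.1 (by
        rw [hψ', map_add, LambdaOps.lam_add, map_sum]
        exact Finset.sum_congr rfl fun j _ => by rw [map_mul, hψ', hψ']) }
  letI := inst
  have hlam : ∀ i x, Ψ (LambdaOps.lam i x) = LambdaOps.lam i (Ψ x) := fun i x => hψ' _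
  let Pe : PosStructure (AdjoinRoot (KRR.extPoly P e)) :=
    { aug := PP.aug.comp Ψ
      aug_surjective := fun z => ⟨(z : AdjoinRoot (KRR.extPoly P e)), map_intCast (PP.aug.comp Ψ) z⟩
      pos := {x | Ψ x ∈ PP.pos}
      add_mem := fun a b ha hb => by
        show Ψ (a + b) ∈ PP.pos
        rw [map_add]; exact PP.add_mem _ _ ha hb
      mul_mem := fun a b ha hb => by
        show Ψ (a * b) ∈ PP.pos
        rw [map_mul]; exact PP.mul_mem _ _ ha hb
      natCast_mem := fun n hn => by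
        show Ψ n ∈ PP.pos
        rw [map_natCast]; exact PP.natCast_mem n hn
      exists_sub := fun x => by
        obtain ⟨a, b, ha, hb, h⟩ := PP.exists_sub (Ψ x)
        exact ⟨ψ a, ψ b, show Ψ (ψ a) ∈ PP.pos by rwa [hψ'], show Ψ (ψ b) ∈ PP.pos by rwa [hψ'],
          hΨ.1 (by rw [map_sub, hψ', hψ', h])⟩
      aug_pos := fun a ha => PP.aug_pos _ ha
      lam_eq_zero := fun a ha i hi => hΨ.1 (by rw [hlam, map_zero]; exact PP.lam_eq_zero _ ha i hi)
      isUnit_lam := fun a ha => by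
        obtain ⟨b, hb⟩ := (PP.isUnit_lam _ ha).exists_right_inv
        exact IsUnit.of_mul_eq_one (ψ b) (hΨ.1 (by rw [map_mul, hlam, hψ', map_one]; exact hb)) }
  let φe : SGA6.Kvb B.P →+ AdjoinRoot (KRR.extPoly P e) :=
    AddMonoidHom.mk' ψ fun a b => hΨ.1 (by rw [hψ', map_add, hψ', hψ'])
  have hMe : KRR.IsModel B.P (AdjoinRoot (KRR.extPoly P e)) Pe φe :=
    { bijective := Function.bijective_iff_has_inverse.2 ⟨Ψ, hψ', hψ⟩
      map_one := hΨ.1 ((hψ' _).trans (hP.map_one.trans (map_one Ψ).symm))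
      map_mul := fun A B hA hB => hΨ.1 (by
        show Ψ (ψ _ * ψ _) = Ψ (ψ _)
        rw [map_mul, hψ', hψ', hψ']
        exact hP.map_mul A B hA hB)
      map_lam := fun i A L hA hL h => hΨ.1 (by
        show Ψ (LambdaOps.lam i (ψ _)) = Ψ (ψ _)
        rw [hlam, hψ', hψ']
        exact hP.map_lam i A L hA hL h)
      aug_cl := fun n A h => by
        show PP.aug (Ψ (ψ _)) = _
        rw [hψ']
        exact hP.aug_cl n A h
      mem_pos_iff := fun x => by
        show Ψ x ∈ PP.pos ↔ _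
        rw [hP.mem_pos_iff]
        refine exists₂_congr fun n A => and_congr_right fun _ => and_congr_right fun _ => ?_
        exact ⟨fun h => hΨ.1 ((hψ' _).trans h), fun h => by rw [← h]; exact (hψ' _).symm⟩ }
  have hext : IsExtension P Pe (AdjoinRoot.of (KRR.extPoly P e)) :=
    { isLambdaHom := fun i x => hΨ.1 (by rw [hlam, hΨof, hΨof]; exact pullK_lamK B.π i x)
      injective := fun a b h => Function.LeftInverse.injective (g := B.pushK)
        (fun x => PBReg.pushK_pullK (X := B) x) (by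
          have h' := congrArg Ψ h
          rwa [hΨof, hΨof] at h')
      aug_comp := fun x => by
        show PP.aug (Ψ _) = _
        rw [hΨof]
        exact rankHom_pullK B.π x
      pos_subset := fun a ha => by
        obtain ⟨n, A, hn, hA, rfl⟩ := (hT.mem_pos_iff a).1 ha
        show Ψ _ ∈ PP.pos
        rw [hΨof]
        exact (hP.mem_pos_iff _).2 ⟨n, _, hn, Nagata.isFinLocFreeOfRank_pullback B.π hA,
          (SGA6Ext.pullK_cls B.π (SGA6Ext.finLocFree_of_rank hA)).symm⟩ }
  have hline : Pe.IsLine (AdjoinRoot.root (KRR.extPoly P e)) := by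
    refine ⟨show Ψ _ ∈ PP.pos from ?_, show PP.aug (Ψ _) = 1 from ?_⟩
    · rw [hΨroot]; exact (hP.mem_pos_iff _).2 ⟨1, B.O1, le_rfl, B.hB.invertible, rfl⟩
    · rw [hΨroot]; exact (hP.aug_cl 1 B.O1 B.hB.invertible).trans Nat.cast_one
  have hS := KRRLam.ElemFil.gammaFiltration_eq (hasSplitting (SGA6.Kvb T) P _ hT) he hr hext hline
    (hasSplitting _ Pe φe hMe) k
  have key := (mem_gammaFiltration_iff (PA := Pe) (PB := PP) Ψ hΨ hlam (fun x => rfl) k (ψ x)).1 (by
    rw [hψ']; exact hx)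
  rw [hS] at key
  have h := KRRLam.ElemFil.S_induction (motive := fun z => Mot (Ψ z)) key (fun i a hi ha => ?_)
    (by rw [map_zero]; exact h0) (fun a b ha hb => by rw [map_add]; exact hadd _ _ ha hb)
  · rwa [hψ'] at h
  · rw [map_mul, hΨof]
    exact hmem i a _ hi ha

end Groth.Agent.K0ResLF
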