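import Groth.Agent.K0ResLF.Push
import Groth.Agent.S2159
import Groth.Agent.ResDesc.ResProp
import Groth.Agent.TorWedge.Iso
import Groth.Agent.KoszulLib.Kinds

/-!
# Resolutions of direct images along Koszul-regular immersions, without Noetherian hypotheses
-/

set_option autoImplicit false
set_option linter.style.haveILetI false
set_option linter.unusedSectionVars false
set_option backward.isDefEq.respectTransparency false
set_option backward.isDefEq.respectTransparency.types false

universe u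

open CategoryTheory CategoryTheory.Limits AlgebraicGeometry Opposite

attribute [local instance] HasDerivedCategory.standard

noncomputable section

namespace Groth.Agent.K0ResLF

section Algebra

variable (R : Type u) [CommRing R]

/-- A resolution of length at most `m` by finite projective modules, defined through successive kernels. -/
def FPd : ℕ → ∀ (M : Type u) [AddCommGroup M] [Module R M], Prop
  | 0, M, _, _ => Module.Finite R M ∧ Module.Projective R M
  | m + 1, M, _, _ => ∃ (Q : ModuleCat.{u} R) (p : Q →ₗ[R] M), Module.Finite R Q ∧ Module.Projective R Q ∧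
      Function.Surjective p ∧ FPd m (LinearMap.ker p)

variable {R}

theorem FPd.finite : ∀ {m : ℕ} {M : Type u} [AddCommGroup M] [Module R M], FPd R m M → Module.Finite R M
  | 0, _, _, _, h => h.1
  | _ + 1, _, _, _, ⟨_, p, hQ, _, hp, _⟩ => Module.Finite.of_surjective p hp

theorem FPd.of_equiv : ∀ {m : ℕ} {M N : Type u} [AddCommGroup M] [Module R M] [AddCommGroup N] [Module R N],
    (M ≃ₗ[R] N) → FPd R m M → FPd R m N
  | 0, _, _, _, _, _, _, e, h => by
    haveI := h.1; haveI := h.2
    exact ⟨Module.Finite.equiv e, Module.Projective.of_equiv e⟩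
  | m + 1, _, _, _, _, _, _, e, ⟨Q, p, hQ, hQ', hp, hk⟩ =>
    ⟨Q, e.toLinearMap ∘ₗ p, hQ, hQ', e.surjective.comp hp,
      hk.of_equiv (LinearEquiv.ofEq _ _ (LinearEquiv.ker_comp e p).symm)⟩

theorem fpd_of_subsingleton : ∀ (m : ℕ) (M : Type u) [AddCommGroup M] [Module R M] [Subsingleton M], FPd R m M
  | 0, M, _, _, _ => ⟨inferInstance, inferInstance⟩
  | m + 1, M, _, _, _ =>
    ⟨ModuleCat.of R M, LinearMap.id, inferInstanceAs (Module.Finite R M), inferInstanceAs (Module.Projective R M),
      fun x => ⟨x, rfl⟩, fpd_of_subsingleton m _⟩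

theorem FPd.succ : ∀ {m : ℕ} {M : Type u} [AddCommGroup M] [Module R M], FPd R m M → FPd R (m + 1) M
  | 0, M, _, _, h => by
    haveI : Subsingleton (LinearMap.ker (LinearMap.id : M →ₗ[R] M)) := by
      rw [LinearMap.ker_id]; infer_instance
    exact ⟨ModuleCat.of R M, LinearMap.id, h.1, h.2, fun x => ⟨x, rfl⟩, fpd_of_subsingleton (R := R) 0 _⟩
  | _ + 1, _, _, _, ⟨Q, p, hQ, hQ', hp, hk⟩ => ⟨Q, p, hQ, hQ', hp, hk.succ⟩

theorem FPd.mono {M : Type u} [AddCommGroup M] [Module R M] {m m' : ℕ} (hm : m ≤ m') (h : FPd R m M) : FPd R m' M := by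
  induction hm with
  | refl => exact h
  | step _ ih => exact ih.succ

theorem FPd.prod : ∀ {m : ℕ} {M : Type u} [AddCommGroup M] [Module R M], FPd R m M →
    ∀ (P : Type u) [AddCommGroup P] [Module R P] [Module.Finite R P] [Module.Projective R P], FPd R m (M × P)
  | 0, M, _, _, h, P, _, _, _, _ => by
    haveI := h.1; haveI := h.2
    exact ⟨inferInstance, inferInstance⟩
  | m + 1, M, _, _, ⟨Q, p, hQ, hQ', hp, hk⟩, P, _, _, _, _ =>
    ⟨ModuleCat.of R (Q × P), p.prodMap LinearMap.id, inferInstanceAs (Module.Finite R (Q × P)),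
      inferInstanceAs (Module.Projective R (Q × P)), hp.prodMap Function.surjective_id,
      hk.of_equiv
        { toFun := fun x => ⟨(x.1, 0), Prod.ext x.2 rfl⟩
          map_add' := fun a b => Subtype.ext (Prod.ext rfl (add_zero 0).symm)
          map_smul' := fun c a => Subtype.ext (Prod.ext rfl (smul_zero c).symm)
          invFun := fun x => ⟨x.1.1, congrArg Prod.fst x.2⟩
          left_inv := fun x => rfl
          right_inv := fun x => Subtype.ext (Prod.ext rfl (congrArg Prod.snd x.2).symm) }⟩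

theorem FPd.of_prod : ∀ {m : ℕ} {M : Type u} [AddCommGroup M] [Module R M] {P : Type u} [AddCommGroup P] [Module R P]
    [Module.Finite R P] [Module.Projective R P], FPd R m (M × P) → FPd R m M
  | 0, M, _, _, P, _, _, _, _, h => by
    haveI := h.1; haveI := h.2
    exact ⟨Module.Finite.of_surjective (LinearMap.fst R M P) Prod.fst_surjective,
      Module.Projective.of_split (LinearMap.inl R M P) (LinearMap.fst R M P) (LinearMap.ext fun x => rfl)⟩
  | m + 1, M, _, _, P, _, _, _, _, ⟨Q, p, hQ, hQ', hp, hk⟩ => by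
    let p' : Q →ₗ[R] M := LinearMap.fst R M P ∘ₗ p
    obtain ⟨s, hs⟩ := Module.projective_lifting_property (LinearMap.snd R M P ∘ₗ p ∘ₗ (LinearMap.ker p').subtype)
      LinearMap.id fun x => by
        obtain ⟨q, hq⟩ := hp (0, x)
        exact ⟨⟨q, congrArg Prod.fst hq⟩, congrArg Prod.snd hq⟩
    have es : ∀ x : P, p (s x).1 = (0, x) := fun x =>
      Prod.ext (s x).2 (LinearMap.congr_fun hs x)
    have hmem : ∀ y : LinearMap.ker p', y.1 - (s (p y.1).2).1 ∈ LinearMap.ker p := fun y => by
      rw [LinearMap.mem_ker, map_sub, es, sub_eq_zero]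
      exact Prod.ext y.2 rfl
    have hsum : ∀ x : LinearMap.ker p × P, x.1.1 + (s x.2).1 ∈ LinearMap.ker p' := fun x =>
      add_mem (congrArg Prod.fst x.1.2 : p' x.1.1 = 0) (s x.2).2
    have he : ∀ x : LinearMap.ker p × P, (p (x.1.1 + (s x.2).1)).2 = x.2 := fun x => by
      rw [map_add, show p x.1.1 = 0 from x.1.2, es, zero_add]
    let f : (LinearMap.ker p × P) →ₗ[R] LinearMap.ker p' :=
      LinearMap.codRestrict _ ((LinearMap.ker p).subtype.coprod ((LinearMap.ker p').subtype ∘ₗ s)) hsum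
    have hf : Function.Bijective f := by
      refine ⟨fun x y hxy => ?_, fun y => ⟨(⟨_, hmem y⟩, (p y.1).2), Subtype.ext (sub_add_cancel _ _)⟩⟩
      have h1 : x.1.1 + (s x.2).1 = y.1.1 + (s y.2).1 := congrArg Subtype.val hxy
      have h2 : x.2 = y.2 := by rw [← he x, h1, he y]
      rw [h2, add_left_inj] at h1
      exact Prod.ext (Subtype.ext h1) h2
    exact ⟨Q, p', hQ, hQ', Prod.fst_surjective.comp hp, (hk.prod P).of_equiv (LinearEquiv.ofBijective f hf)⟩

/-- Schanuel: every cover by a finite projective module has a kernel of smaller length. -/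
theorem FPd.ker {m : ℕ} {M : Type u} [AddCommGroup M] [Module R M] (h : FPd R (m + 1) M)
    {Q : Type u} [AddCommGroup Q] [Module R Q] [Module.Finite R Q] [Module.Projective R Q]
    (p : Q →ₗ[R] M) (hp : Function.Surjective p) : FPd R m (LinearMap.ker p) := by
  obtain ⟨Q', p', hQ, hQ', hp', hk⟩ := h
  obtain ⟨e⟩ := S2159.result p' p hp' hp
  exact FPd.of_prod (P := Q') ((hk.prod Q).of_equiv e)

theorem fpd_aug (C : TorWedge.Aug.{u} R) (hC : C.IsProj) (hfin : ∀ k, Module.Finite R (C.P k))
    (hπ : Function.Surjective C.π) : ∀ m : ℕ, (∀ k, m < k → Subsingleton (C.P k)) → FPd R m C.Q := by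
  intro m hz
  have key : ∀ (d : ℕ) (j : ℕ), m ≤ j + d + 1 → FPd R d (LinearMap.range (C.d j)) := by
    intro d
    induction d with
    | zero =>
      intro j hj
      haveI := hz (j + 2) (by omega)
      haveI := hfin (j + 1)
      haveI := hC (j + 1)
      have hinj : Function.Injective (C.d j) := (injective_iff_map_eq_zero _).2 fun x hx => by
        obtain ⟨y, rfl⟩ := C.exact_succ j x hx
        rw [Subsingleton.elim y 0, map_zero]
      exact ⟨Module.Finite.equiv (LinearEquiv.ofInjective _ hinj),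
        Module.Projective.of_equiv (LinearEquiv.ofInjective _ hinj)⟩
    | succ d ih =>
      intro j hj
      refine ⟨C.P (j + 1), (C.d j).rangeRestrict, hfin _, hC _, LinearMap.surjective_rangeRestrict _, ?_⟩
      refine (ih (j + 1) (by omega)).of_equiv (LinearEquiv.ofEq _ _ ?_)
      rw [LinearMap.ker_rangeRestrict]
      exact le_antisymm (by rintro _ ⟨y, rfl⟩; exact C.d_d j y) fun x hx => C.exact_succ j x hx
  cases m with
  | zero =>
    haveI := hz 1 one_pos
    have hinj : Function.Injective C.π := (injective_iff_map_eq_zero _).2 fun x hx => by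
      obtain ⟨y, rfl⟩ := C.exact_zero x hx
      rw [Subsingleton.elim y 0, map_zero]
    haveI := hfin 0
    haveI := hC 0
    exact ⟨Module.Finite.equiv (LinearEquiv.ofBijective C.π ⟨hinj, hπ⟩),
      Module.Projective.of_equiv (LinearEquiv.ofBijective C.π ⟨hinj, hπ⟩)⟩
  | succ m =>
    refine ⟨C.P 0, C.π, hfin 0, hC 0, hπ, ?_⟩
    have e : LinearMap.range (C.d 0) = LinearMap.ker C.π :=
      le_antisymm (by rintro _ ⟨y, rfl⟩; exact C.π_d y) fun x hx => C.exact_zero x hx
    exact (key m 0 (by omega)).of_equiv (LinearEquiv.ofEq _ _ e)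

end Algebra

section Koszul

open Wiebe

variable {A : Type u} [CommRing A]

theorem proj_eq_zero : ∀ {n : ℕ} {k : ℕ}, n < k → ∀ z : X A n, TorWedge.proj k z = 0 := by
  intro n
  induction n with
  | zero =>
    intro k hk z
    obtain ⟨k, rfl⟩ := Nat.exists_eq_succ_of_ne_zero hk.ne'
    simp [TorWedge.proj]
  | succ n ih =>
    intro k hk z
    obtain ⟨k, rfl⟩ := Nat.exists_eq_succ_of_ne_zero (by omega : k ≠ 0)
    apply ext'
    · rw [TorWedge.p0_proj, ih (by omega), map_zero]
    · rw [TorWedge.p1_proj_succ, ih (by omega), map_zero]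

/-- Quotients by sequences with acyclic Koszul complex have finite projective resolutions. -/
theorem fpd_koszul {n : ℕ} (f : Fin n → A) (hf : Acyclic f) (r : ℕ) :
    FPd A n (Fin r → A ⧸ Ideal.span (Set.range f)) := by
  refine fpd_aug (TorWedge.koszul f hf r) (TorWedge.koszul_isProj f hf r) (fun k => ?_)
    (TorWedge.koszul_surj f hf r) n fun k hk => ?_
  · haveI : Module.Finite A (TorWedge.T A n k) :=
      Module.Finite.of_surjective ((TorWedge.proj k).codRestrict _ TorWedge.proj_mem_T)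
        fun z => ⟨z.1, Subtype.ext (TorWedge.mem_T.1 z.2)⟩
    exact inferInstanceAs (Module.Finite A (Fin r → TorWedge.T A n k))
  · haveI : Subsingleton (TorWedge.T A n k) := ⟨fun a b => Subtype.ext (by
      rw [← TorWedge.mem_T.1 a.2, ← TorWedge.mem_T.1 b.2, proj_eq_zero hk, proj_eq_zero hk])⟩
    exact inferInstanceAs (Subsingleton (Fin r → TorWedge.T A n k))

end Koszul

section Sch

variable {X Y : Scheme.{u}}

/-- Affine-locally, sections with resolutions of length at most `m` by finite projective modules. -/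
def LocFPd (m : ℕ) (B : X.Modules) : Prop :=
  ∀ x : X, ∃ U : X.Opens, IsAffineOpen U ∧ x ∈ U ∧ FPd Γ(X, U) m Γ(B, U)

theorem LocFPd.isFT {m : ℕ} {B : X.Modules} (hB : Coh.IsQCoh B) (h : LocFPd m B) : CohB1.IsFT B :=
  QC.isFT_iff_exists_hasFinGen.2 fun x => by
    obtain ⟨U, hU, hx, hp⟩ := h x
    haveI : B.IsQuasicoherent := hB
    haveI := hp.finite
    exact ⟨U, hx, QC.hasFinGen_of_finite hU⟩

theorem LocFPd.isFinLocFree {B : X.Modules} (hB : Coh.IsQCoh B) (h : LocFPd 0 B) : FlatMod.IsFinLocFree B :=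
  LocFree.isFinLocFree_of_affine_projective hB fun x => by
    obtain ⟨U, hU, hx, hfin, hproj⟩ := h x
    exact ⟨U, hU, hx, Module.finitePresentation_of_projective _ _, inferInstance⟩

theorem LocFPd.kernel {m : ℕ} {E B : X.Modules} (q : E ⟶ B) [Epi q] (hE : FlatMod.IsFinLocFree E)
    (hB : Coh.IsQCoh B) (h : LocFPd (m + 1) B) : LocFPd m (kernel q) := fun x => by
  obtain ⟨U, hU, hx, hp⟩ := h x
  have hS := sectSeq_shortExact (K0Res.kerSeq_shortExact q) hU (LocFree.isQCoh_of_isFinLocFree hE) hB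
  haveI := LocFree.projective_sections hE hU
  haveI := LocFree.finitePresentation_sections hE hU
  have hinj : Function.Injective (QC.appₗ (kernel.ι q) U) := (ModuleCat.mono_iff_injective _).1 hS.mono_f
  have hsurj : Function.Surjective (QC.appₗ q U) := (ModuleCat.epi_iff_surjective _).1 hS.epi_g
  have hex : LinearMap.range (QC.appₗ (kernel.ι q) U) = LinearMap.ker (QC.appₗ q U) :=
    ((ShortComplex.ShortExact.moduleCat_exact_iff_function_exact _).1 hS.exact).linearMap_ker_eq.symm
  exact ⟨U, hU, hx, (hp.ker (QC.appₗ q U) hsurj).of_equiv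
    ((LinearEquiv.ofInjective _ hinj).trans (LinearEquiv.ofEq _ _ hex)).symm⟩

theorem exists_locFPd_push [CompactSpace X] {i : Y ⟶ X} [IsClosedImmersion i] (hi : TorWedge.IsKoszul i)
    {F : Y.Modules} (hF : FlatMod.IsFinLocFree F) : ∃ n, LocFPd n ((Scheme.Modules.pushforward i).obj F) := by
  classical
  have key : ∀ x : X, ∃ U : X.Opens, IsAffineOpen U ∧ x ∈ U ∧
      ∃ n, FPd Γ(X, U) n Γ((Scheme.Modules.pushforward i).obj F, U) := by
    intro x
    by_cases hx : x ∈ Set.range i.base
    · obtain ⟨y, rfl⟩ := hx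
      obtain ⟨U, hyU, hU⟩ := hi y
      obtain ⟨W, r, hyW, ⟨e⟩⟩ := hF y
      obtain ⟨W', hW', hWW'⟩ := i.isClosedEmbedding.isInducing.isOpen_iff.1 W.2
      obtain ⟨g, hgW, hyg⟩ := hU.1.exists_basicOpen_le (⟨i.base y, (Set.ext_iff.1 hWW' y).2 hyW⟩ :
        (⟨W', hW'⟩ : X.Opens)) hyU
      obtain ⟨hD, n, f, hf, hker⟩ := hU.basicOpen g
      refine ⟨X.basicOpen g, hD, hyg, n, ?_⟩
      have hle : i ⁻¹ᵁ X.basicOpen g ≤ W := fun z hz => (Set.ext_iff.1 hWW' z).1 (hgW hz)
      obtain ⟨hfree, hfin⟩ := LocFree.free_sections_of_le e (hD.preimage i) hle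
      let b := Module.Free.chooseBasis Γ(Y, i ⁻¹ᵁ X.basicOpen g) Γ(F, i ⁻¹ᵁ X.basicOpen g)
      letI := (i.app (X.basicOpen g)).hom.toAlgebra
      let eQ : (Γ(X, X.basicOpen g) ⧸ Ideal.span (Set.range f)) ≃ₗ[Γ(X, X.basicOpen g)]
          Γ(Y, i ⁻¹ᵁ X.basicOpen g) :=
        { (Ideal.quotEquivOfEq hker.symm).trans
            (RingHom.quotientKerEquivOfSurjective (i.app_surjective (X.basicOpen g) hD)) with
          map_smul' := fun c x => by
            obtain ⟨z, rfl⟩ := Ideal.Quotient.mk_surjective x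
            exact map_mul (i.app (X.basicOpen g)).hom c z }
      let bF := b.reindex (Fintype.equivFin _)
      refine (fpd_koszul f hf _).of_equiv ((LinearEquiv.piCongrRight fun _ => eQ).trans
        { bF.equivFun.symm with
          map_smul' := fun c v => ?_ })
      exact (congrArg bF.equivFun.symm (funext fun j => Algebra.smul_def c (v j))).trans
        (map_smul bF.equivFun.symm ((i.app (X.basicOpen g)).hom c) v)
    · obtain ⟨U, hU, hxU, hle⟩ := exists_isAffineOpen_mem_and_subset
        (U := ⟨(Set.range i.base)ᶜ, i.isClosedEmbedding.isClosed_range.isOpen_compl⟩) hx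
      refine ⟨U, hU, hxU, 0, ?_⟩
      have he : i ⁻¹ᵁ U = ⊥ := TopologicalSpace.Opens.ext (Set.eq_empty_of_forall_notMem fun z hz => hle hz ⟨z, rfl⟩)
      haveI : Subsingleton Γ(Y, i ⁻¹ᵁ U) := by rw [he]; infer_instance
      haveI : Subsingleton Γ((Scheme.Modules.pushforward i).obj F, U) :=
        Module.subsingleton Γ(Y, i ⁻¹ᵁ U) Γ(F, i ⁻¹ᵁ U)
      exact fpd_of_subsingleton 0 _
  choose U hU hxU n hn using key
  obtain ⟨s, hs⟩ := isCompact_univ.elim_finite_subcover (fun x => (U x : Set X)) (fun x => (U x).2)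
    (fun x _ => Set.mem_iUnion.2 ⟨x, hxU x⟩)
  refine ⟨s.sup n, fun x => ?_⟩
  obtain ⟨z, hz, hxz⟩ := Set.mem_iUnion₂.1 (hs (Set.mem_univ x))
  exact ⟨U z, hU z, hxz, (hn z).mono (Finset.le_sup (f := n) hz)⟩

/-- With the resolution property, modules of locally finite projective dimension have finite resolutions. -/
theorem hasLFRes_of_locFPd (hX : PerfAux.HasResolutionProperty X) {A : X.Modules} (hA : Coh.IsQCoh A) {n : ℕ}
    (h : LocFPd n A) : KRR.HasLFRes A := by
  classical
  have cov : ∀ B : {B : X.Modules // Coh.IsQCoh B}, ∃ S : ShortComplex X.Modules, S.ShortExact ∧ S.X₃ = B.1 ∧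
      Coh.IsQCoh S.X₁ ∧ ∀ (m : ℕ), LocFPd m B.1 → FlatMod.IsFinLocFree S.X₂ ∧ LocFPd (m - 1) S.X₁ := by
    intro B
    by_cases hB : ∃ m, LocFPd m B.1
    · obtain ⟨m₀, hm₀⟩ := hB
      obtain ⟨E, q, hE, hq⟩ := hX B.1 B.2 (hm₀.isFT B.2)
      haveI := hq
      refine ⟨K0Res.kerSeq q, K0Res.kerSeq_shortExact q, rfl,
        QC.isQCoh_kernel (LocFree.isQCoh_of_isFinLocFree hE) B.2 q, fun m hm => ⟨hE, ?_⟩⟩
      rcases m with _ | m
      · have hm1 : LocFPd 1 B.1 := fun x => by
          obtain ⟨U, hU, hx, hp⟩ := hm x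
          exact ⟨U, hU, hx, hp.succ⟩
        exact LocFPd.kernel q hE B.2 hm1
      · exact LocFPd.kernel q hE B.2 hm
    · refine ⟨K0Res.kerSeq (𝟙 B.1), K0Res.kerSeq_shortExact (𝟙 B.1), rfl, QC.isQCoh_kernel B.2 B.2 _,
        fun m hm => absurd ⟨m, hm⟩ hB⟩
  choose S hS hS₃ hS₁ hSm using cov
  let next : {B : X.Modules // Coh.IsQCoh B} → {B : X.Modules // Coh.IsQCoh B} := fun B => ⟨(S B).X₁, hS₁ B⟩
  let T : ℕ → ShortComplex X.Modules := fun i => S (next^[i] ⟨A, hA⟩)
  have hl : ∀ i, LocFPd (n - i) (next^[i] ⟨A, hA⟩).1 := fun i => by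
    induction i with
    | zero => exact h
    | succ i ih =>
      rw [Function.iterate_succ_apply', ← Nat.sub_sub]
      exact (hSm _ _ ih).2
  refine hasLFRes_of_res (T := T) (fun i => ⟨hS _, (hSm _ _ (hl i)).1, ?_⟩) (hS₃ _) (n := n) ?_
  · show (S (next^[i + 1] ⟨A, hA⟩)).X₃ = _
    rw [hS₃, Function.iterate_succ_apply']
  · rw [show (T n).X₃ = (next^[n] ⟨A, hA⟩).1 from hS₃ _]
    exact LocFPd.isFinLocFree (next^[n] ⟨A, hA⟩).2 (by simpa using hl n)

/-- Direct images of finite locally free modules along Koszul-regular closed immersions have finite resolutions. -/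
theorem hasLFRes_push_koszul [CompactSpace X] (hX : PerfAux.HasResolutionProperty X) {i : Y ⟶ X}
    [IsClosedImmersion i] (hi : TorWedge.IsKoszul i) {F : Y.Modules} (hF : FlatMod.IsFinLocFree F) :
    KRR.HasLFRes ((Scheme.Modules.pushforward i).obj F) := by
  obtain ⟨n, hn⟩ := exists_locFPd_push hi hF
  haveI : F.IsQuasicoherent := LocFree.isQCoh_of_isFinLocFree hF
  exact hasLFRes_of_locFPd hX (QC.isQCoh_pushforward i) hn

theorem isKoszul_of_isRegularImmersion {i : Y ⟶ X} [IsClosedImmersion i]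
    (hi : RegImm.IsRegularImmersion .koszul i) : TorWedge.IsKoszul i := fun y => by
  obtain ⟨U, hy, -, rs, hrs, hker⟩ := hi.2 y
  refine ⟨U.1, hy, U.2, rs.length, rs.get, KoszulLib.koszul_seq_iff.1 hrs, ?_⟩
  rw [hker]
  exact congrArg Ideal.span (Set.range_list_get rs).symm

end Sch

end Groth.Agent.K0ResLF
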