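import Groth.Agent.K0ResLF.Main
import Groth.Agent.GrothSS.ChangeRings
import Groth.Agent.DRingKP.PerfPd
import Groth.Agent.PCMor.Scheme
import Groth.Agent.S15821
import Groth.Agent.S7070
import Groth.Agent.QC.Localisation
import Groth.Prelude.Def_Mor2

/-!
Direct images of finite locally free modules along regular closed immersions have finite resolutions.
-/

set_option autoImplicit false
set_option backward.isDefEq.respectTransparency false
set_option backward.isDefEq.respectTransparency.types false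
set_option linter.style.haveILetI false

universe u

open CategoryTheory CategoryTheory.Limits AlgebraicGeometry Opposite

attribute [local instance] HasDerivedCategory.standard

noncomputable section

namespace Groth.Agent.K0ResLF

variable {X Y : Scheme.{u}}

/-- The sections of a short complex over an open. -/
def sectSeq (S : ShortComplex Y.Modules) (U : Y.Opens) : ShortComplex (ModuleCat.{u} Γ(Y, U)) :=
  ShortComplex.mk (ModuleCat.ofHom (QC.appₗ S.f U)) (ModuleCat.ofHom (QC.appₗ S.g U))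
    (ModuleCat.hom_ext (LinearMap.ext fun x => by
      change (S.f ≫ S.g).app U x = 0
      rw [S.zero]; rfl))

lemma sectSeq_shortExact {S : ShortComplex Y.Modules} (hS : S.ShortExact) {U : Y.Opens} (hU : IsAffineOpen U)
    (h₂ : Coh.IsQCoh S.X₂) (h₃ : Coh.IsQCoh S.X₃) : (sectSeq S U).ShortExact := by
  haveI := hS.mono_f
  haveI := hS.epi_g
  haveI : (Scheme.Modules.toPresheaf Y ⋙ (evaluation _ Ab.{u}).obj (op U)).PreservesZeroMorphisms :=
    ⟨fun _ _ => rfl⟩
  haveI : PreservesFiniteLimits (Scheme.Modules.toPresheaf Y) :=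
    PreservesLimitsOfSize.preservesFiniteLimits (F := Scheme.Modules.toPresheaf Y)
  haveI : PreservesFiniteLimits (Scheme.Modules.toPresheaf Y ⋙ (evaluation _ Ab.{u}).obj (op U)) :=
    haveI : PreservesFiniteLimits ((evaluation (TopologicalSpace.Opens ↥Y)ᵒᵖ Ab.{u}).obj (op U)) :=
      ⟨fun _ _ _ => evaluation_preservesLimitsOfShape _⟩
    comp_preservesFiniteLimits _ _
  have h : (S.map (Scheme.Modules.toPresheaf Y ⋙ (evaluation _ _).obj (op U))).Exact :=
    hS.exact.map_of_mono_of_preservesKernel _ hS.mono_f inferInstance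
  have hf : Function.Exact (QC.appₗ S.f U) (QC.appₗ S.g U) :=
    ShortComplex.ab_exact_iff_function_exact _ |>.1 h
  exact { exact := (ShortComplex.ShortExact.moduleCat_exact_iff_function_exact _).2 hf
          mono_f := (ModuleCat.mono_iff_injective _).2 (QC.app_injective_of_mono S.f U)
          epi_g := (ModuleCat.epi_iff_surjective _).2 (QC.app_surjective_of_epi hU h₂ h₃ S.g) }

/-- affine-locally, projective dimension of the sections `< n` -/
def AffPd (M : Y.Modules) (n : ℕ) : Prop :=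
  ∀ y : Y, ∃ U : Y.Opens, IsAffineOpen U ∧ y ∈ U ∧ HasProjectiveDimensionLT (ModuleCat.of Γ(Y, U) Γ(M, U)) n

lemma pdLT_sections {M : Y.Modules} (h : FlatMod.IsFinLocFree M) {U : Y.Opens} (hU : IsAffineOpen U) :
    HasProjectiveDimensionLT (ModuleCat.of Γ(Y, U) Γ(M, U)) 1 := by
  haveI := LocFree.projective_sections h hU
  haveI : Projective (ModuleCat.of Γ(Y, U) Γ(M, U)) := (IsProjective.iff_projective Γ(M, U)).1 inferInstance
  infer_instance

lemma res_affPd [IsLocallyNoetherian Y] {T : ℕ → ShortComplex Y.Modules} (hT : K0Res.IsRes (LF Y) T)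
    (hA : Coh.IsCoh (T 0).X₃) {U : Y.Opens} (hU : IsAffineOpen U) : ∀ (i n : ℕ),
    HasProjectiveDimensionLT (ModuleCat.of Γ(Y, U) Γ((T 0).X₃, U)) (n + 1 + i) →
      HasProjectiveDimensionLT (ModuleCat.of Γ(Y, U) Γ((T i).X₃, U)) (n + 1)
  | 0, _, h => h
  | i + 1, n, h => by
    rw [(hT i).2.2]
    haveI := pdLT_sections (hT i).2.1 hU
    exact (sectSeq_shortExact (hT i).1 hU (K0Coh.isCoh_of_isFinLocFree (hT i).2.1).1 (res_coh hT hA i).1).hasProjectiveDimensionLT_X₁
      (n + 1) (hasProjectiveDimensionLT_of_ge (ModuleCat.of Γ(Y, U) Γ((T i).X₂, U)) 1 _ (by omega))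
      (res_affPd hT hA hU i (n + 1) (by rwa [show n + 1 + 1 + i = n + 1 + (i + 1) by omega]))

theorem hasLFRes_of_affPd [IsLocallyNoetherian Y] (hY : KRR.HasEnoughLocFree Y) {A : Y.Modules} (hA : Coh.IsCoh A)
    {n : ℕ} (h : AffPd A (n + 1)) : KRR.HasLFRes A := by
  obtain ⟨T, hT, h0⟩ := K0Res.exists_res (hypCoh hY) hA
  subst h0
  refine hasLFRes_of_res hT rfl (n := n) (LocFree.isFinLocFree_of_affine_projective (res_coh hT hA n).1 fun y => ?_)
  obtain ⟨U, hU, hy, hp⟩ := h y
  have h1 := res_affPd hT hA hU n 0 (by rwa [show 0 + 1 + n = n + 1 by omega])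
  haveI : IsNoetherianRing Γ(Y, U) := IsLocallyNoetherian.component_noetherian ⟨U, hU⟩
  haveI := (QC.isCoh_iff_finite_sections.1 (res_coh hT hA n)).2 ⟨U, hU⟩
  haveI : Module.Projective Γ(Y, U) Γ((T n).X₃, U) :=
    (IsProjective.iff_projective Γ((T n).X₃, U)).2 (projective_iff_hasProjectiveDimensionLT_one.2 h1)
  exact ⟨U, hU, hy, Module.finitePresentation_of_finite _ _, inferInstance⟩

section

variable {A B : Type u} [CommRing A] [CommRing B] [Algebra A B]

lemma pdLT_pi {d : ℕ} (hB : HasProjectiveDimensionLT (ModuleCat.of A B) d) : ∀ n : ℕ,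
    HasProjectiveDimensionLT (ModuleCat.of A (Fin n → B)) d
  | 0 => by
    haveI := (ModuleCat.isZero_of_subsingleton (ModuleCat.of A (Fin 0 → B))).hasProjectiveDimensionLT_zero
    exact hasProjectiveDimensionLT_of_ge (ModuleCat.of A (Fin 0 → B)) 0 d (Nat.zero_le _)
  | n + 1 => by
    let f : B →ₗ[A] (Fin (n + 1) → B) := LinearMap.single A (fun _ => B) 0
    let g : (Fin (n + 1) → B) →ₗ[A] (Fin n → B) := LinearMap.funLeft A B Fin.succ
    let S : ShortComplex (ModuleCat.{u} A) := ShortComplex.mk (ModuleCat.ofHom f) (ModuleCat.ofHom g)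
      (ModuleCat.hom_ext (LinearMap.ext fun x => funext fun i => by simp [f, g, LinearMap.funLeft]; rfl))
    have hS : S.ShortExact :=
      { exact := (ShortComplex.moduleCat_exact_iff S).2 fun x hx => ⟨x 0, funext fun i => by
          refine Fin.cases ?_ (fun j => ?_) i
          · simp [S, f]
          · have := congrFun hx j
            simp [S, g, f, LinearMap.funLeft] at this ⊢
            exact this.symm⟩
        mono_f := (ModuleCat.mono_iff_injective _).2 fun x y hxy => by simpa [S, f] using congrFun hxy 0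
        epi_g := (ModuleCat.epi_iff_surjective _).2 fun x => ⟨Fin.cons 0 x, by
          funext i; simp [S, g, LinearMap.funLeft]⟩ }
    exact hS.hasProjectiveDimensionLT_X₂ d hB (pdLT_pi hB n)

lemma pdLT_of_projective {M : Type u} [AddCommGroup M] [Module A M] [Module B M] [IsScalarTower A B M]
    [Module.Finite B M] [Module.Projective B M] {d : ℕ} (hB : HasProjectiveDimensionLT (ModuleCat.of A B) d) :
    HasProjectiveDimensionLT (ModuleCat.of A M) d := by
  obtain ⟨n, p, hp⟩ := Module.Finite.exists_fin' B M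
  obtain ⟨s, hs⟩ := Module.projective_lifting_property p LinearMap.id hp
  haveI := pdLT_pi hB n
  exact (⟨ModuleCat.ofHom (s.restrictScalars A), ModuleCat.ofHom (p.restrictScalars A),
    ModuleCat.hom_ext (LinearMap.ext fun m => LinearMap.congr_fun hs m)⟩ :
      Retract (ModuleCat.of A M) (ModuleCat.of A (Fin n → B))).hasProjectiveDimensionLT d

end

/-- Direct images of finite locally free modules along regular closed immersions, affine-locally. -/
theorem affPd_push [IsLocallyNoetherian Y] [CompactSpace Y] {i : X ⟶ Y} (hi : Mor2.IsRegularClosedImmersion i)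
    {F : X.Modules} (hF : FlatMod.IsFinLocFree F) :
    ∃ n, AffPd ((Scheme.Modules.pushforward i).obj F) (n + 1) := by
  haveI := hi.1
  have key : ∀ y : Y, ∃ U : Y.Opens, IsAffineOpen U ∧ y ∈ U ∧ ∃ d : ℕ,
      HasProjectiveDimensionLT (ModuleCat.of Γ(Y, U) Γ((Scheme.Modules.pushforward i).obj F, U)) (d + 1) := by
    intro y
    suffices h : ∃ U : Y.Opens, IsAffineOpen U ∧ y ∈ U ∧
        letI := (i.app U).hom.toAlgebra
        ∃ d : ℕ, HasProjectiveDimensionLT (ModuleCat.of Γ(Y, U) Γ(X, i ⁻¹ᵁ U)) (d + 1) by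
      obtain ⟨U, hU, hy, d, hd⟩ := h
      refine ⟨U, hU, hy, d, ?_⟩
      letI := (i.app U).hom.toAlgebra
      letI : Module Γ(Y, U) Γ(F, i ⁻¹ᵁ U) := Module.compHom _ (i.app U).hom
      haveI : IsScalarTower Γ(Y, U) Γ(X, i ⁻¹ᵁ U) Γ(F, i ⁻¹ᵁ U) :=
        IsScalarTower.of_algebraMap_smul fun _ _ => rfl
      haveI := LocFree.projective_sections hF (hU.preimage i)
      haveI := LocFree.finitePresentation_sections hF (hU.preimage i)
      haveI := pdLT_of_projective (M := Γ(F, i ⁻¹ᵁ U)) hd
      exact hasProjectiveDimensionLT_of_iso (LinearEquiv.toModuleIso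
        ({ toFun := id, invFun := id, map_add' := fun _ _ => rfl, map_smul' := fun _ _ => rfl } :
          Γ(F, i ⁻¹ᵁ U) ≃ₗ[Γ(Y, U)] Γ((Scheme.Modules.pushforward i).obj F, U))) _
    by_cases hy : y ∈ Set.range i
    · obtain ⟨z, rfl⟩ := hy
      obtain ⟨U, hU, hz, rs, hrs, hker⟩ := hi.2 z
      refine ⟨U, hU, hz, ?_⟩
      letI := (i.app U).hom.toAlgebra
      have hsurj : Function.Surjective (i.app U).hom := i.app_surjective U hU
      have hk : RingHom.ker (i.app U).hom = Ideal.ofList rs := by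
        rw [← hker, Scheme.Hom.ker_apply]
      let e : (Γ(Y, U) ⧸ Ideal.ofList rs) ≃ₗ[Γ(Y, U)] Γ(X, i ⁻¹ᵁ U) :=
        { (Ideal.quotEquivOfEq hk.symm).trans (RingHom.quotientKerEquivOfSurjective hsurj) with
          map_smul' := fun c x => by
            obtain ⟨y, rfl⟩ := Ideal.Quotient.mk_surjective x
            exact map_mul (i.app U).hom c y }
      exact DRingKP.exists_pd_of_isPerfectModule _ (PCMor.perfectModule_of_equiv e
        (S7070.isPerfectModule_of_koszul rs (S15821.result Γ(Y, U) rs hrs.toIsWeaklyRegular).1))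
    · obtain ⟨U, hU, hyU, hle⟩ := exists_isAffineOpen_mem_and_subset
        (U := ⟨(Set.range i)ᶜ, i.isClosedEmbedding.isClosed_range.isOpen_compl⟩) hy
      refine ⟨U, hU, hyU, 0, ?_⟩
      letI := (i.app U).hom.toAlgebra
      have he : i ⁻¹ᵁ U = ⊥ := TopologicalSpace.Opens.ext (Set.eq_empty_of_forall_notMem fun x hx => hle hx ⟨x, rfl⟩)
      haveI : Subsingleton Γ(X, i ⁻¹ᵁ U) := by rw [he]; infer_instance
      haveI : HasProjectiveDimensionLT (ModuleCat.of Γ(Y, U) Γ(X, i ⁻¹ᵁ U)) 0 :=
        (ModuleCat.isZero_of_subsingleton _).hasProjectiveDimensionLT_zero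
      exact hasProjectiveDimensionLT_of_ge (ModuleCat.of Γ(Y, U) Γ(X, i ⁻¹ᵁ U)) 0 _ (by omega)
  choose U hU hy d hd using key
  obtain ⟨s, hs⟩ := isCompact_univ.elim_finite_subcover (fun y => (U y : Set Y)) (fun y => (U y).2)
    (fun y _ => Set.mem_iUnion.2 ⟨y, hy y⟩)
  refine ⟨s.sup d, fun y => ?_⟩
  obtain ⟨x, hx, hyx⟩ := Set.mem_iUnion₂.1 (hs (Set.mem_univ y))
  refine ⟨U x, hU x, hyx, ?_⟩
  haveI := hd x
  exact hasProjectiveDimensionLT_of_ge (ModuleCat.of Γ(Y, U x) Γ((Scheme.Modules.pushforward i).obj F, U x)) (d x + 1) _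
    (by simpa using Finset.le_sup (f := d) hx)

theorem hasLFRes_push [IsNoetherian Y] (hY : KRR.HasEnoughLocFree Y) {i : X ⟶ Y} (hi : Mor2.IsRegularClosedImmersion i)
    {F : X.Modules} (hF : FlatMod.IsFinLocFree F) :
    Coh.IsCoh ((Scheme.Modules.pushforward i).obj F) ∧ KRR.HasLFRes ((Scheme.Modules.pushforward i).obj F) := by
  haveI := hi.1
  haveI := LocFree.isQCoh_of_isFinLocFree hF
  have hc : Coh.IsCoh ((Scheme.Modules.pushforward i).obj F) :=
    QC.isCoh_pushforward_of_isFinite i (LocFree.isFT_of_isFinLocFree hF)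
  obtain ⟨n, hn⟩ := affPd_push hi hF
  exact ⟨hc, hasLFRes_of_affPd hY hc hn⟩

end Groth.Agent.K0ResLF
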