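import Groth.Agent.K0ResLF.SectPush
import Groth.Agent.KSplit.Gamma
import Groth.Agent.S3799
import Groth.Agent.S1676
import Groth.Agent.CycPB.BundleSmooth

/-!
The push-forwards on the canonical Grothendieck groups of bundles.
-/

set_option autoImplicit false
set_option linter.style.haveILetI false
set_option backward.isDefEq.respectTransparency false
set_option backward.isDefEq.respectTransparency.types false
set_option maxHeartbeats 1000000

universe u

open CategoryTheory CategoryTheory.Limits AlgebraicGeometry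
open Groth.Agent.PnReg Groth.Agent.SGA6Ext

attribute [local instance] HasDerivedCategory.standard

noncomputable section

namespace Groth.Agent.K0ResLF

variable {X Y Q : Scheme.{u}}

/-- The push-forward along a closed immersion, on classes of bundles. -/
def IsPush (i : X ⟶ Y) (a : SGA6.Kvb X →+ SGA6.Kvb Y) : Prop :=
  ∀ F : X.Modules, FlatMod.IsFinLocFree F → ∀ (n : ℕ) (L : ChainComplex Y.Modules ℕ)
    (π : L ⟶ (ChainComplex.single₀ Y.Modules).obj ((Scheme.Modules.pushforward i).obj F)),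
    KRR.IsLFRes ((Scheme.Modules.pushforward i).obj F) n L π →
      a (cls F) = ∑ k ∈ Finset.range (n + 1), (-1 : ℤ) ^ k • cls (L.X k)

theorem exists_push [IsNoetherian X] [ConnectedSpace ↥X] [IsNoetherian Y] [ConnectedSpace ↥Y]
    (hY : KRR.HasEnoughLocFree Y) {i : X ⟶ Y} (hi : Mor2.IsRegularClosedImmersion i) :
    ∃ a, IsPush i a ∧ ∀ b, IsPush i b → b = a := by
  letI := kvbRing X
  letI := kvbLam X
  letI := kvbRing Y
  letI := kvbLam Y
  obtain ⟨a, ha, hu⟩ := S3799.result i hi hY _ _ _ (KSplit.isModel_kvb X) _ _ _ (KSplit.isModel_kvb Y)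
  exact ⟨a, ha, fun b hb => hu b hb⟩

theorem push_comp {Z : Scheme.{u}} [IsNoetherian X] [ConnectedSpace ↥X] [IsNoetherian Y] [ConnectedSpace ↥Y]
    [IsNoetherian Z] [ConnectedSpace ↥Z]
    (hY : KRR.HasEnoughLocFree Y) (hZ : KRR.HasEnoughLocFree Z) {f : X ⟶ Y} {g : Y ⟶ Z}
    (hf : Mor2.IsRegularClosedImmersion f) (hg : Mor2.IsRegularClosedImmersion g)
    {a : SGA6.Kvb X →+ SGA6.Kvb Y} (ha : IsPush f a) {b : SGA6.Kvb Y →+ SGA6.Kvb Z} (hb : IsPush g b)
    {c : SGA6.Kvb X →+ SGA6.Kvb Z} (hc : IsPush (f ≫ g) c) : c = b.comp a := by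
  letI := kvbRing X
  letI := kvbRing Y
  letI := kvbRing Z
  exact pushCl_comp (KX := SGA6.Kvb X) (KY := SGA6.Kvb Y) (KZ := SGA6.Kvb Z)
    (φX := AddMonoidHom.id _) (φY := AddMonoidHom.id _) (φZ := AddMonoidHom.id _)
    hY hZ Function.bijective_id Function.bijective_id hf hg ha hb hc

theorem push_pushK (n : ℕ) {i : X ⟶ Y} (hi : Mor2.IsRegularClosedImmersion i)
    [IsNoetherian X] [ConnectedSpace ↥X] [IsNoetherian Y] [ConnectedSpace ↥Y] (hY : KRR.HasEnoughLocFree Y)
    {a : SGA6.Kvb X →+ SGA6.Kvb Y} (ha : IsPush i a)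
    {a' : SGA6.Kvb (KRR.PY n X) →+ SGA6.Kvb (KRR.PY n Y)} (ha' : IsPush (KRR.projSpaceMap n i) a')
    (z : SGA6.Kvb (KRR.PY n X)) : a (pushK n X z) = pushK n Y (a' z) := by
  obtain ⟨hNX, hCX⟩ := RR.stable_bunPn (n := n) (Y := X)
  obtain ⟨hNY, hCY⟩ := RR.stable_bunPn (n := n) (Y := Y)
  letI := kvbRing X
  letI := kvbLam X
  letI := kvbRing Y
  letI := kvbLam Y
  letI := kvbRing (KRR.PY n X)
  letI := kvbLam (KRR.PY n X)
  letI := kvbRing (KRR.PY n Y)
  letI := kvbLam (KRR.PY n Y)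
  exact DFunLike.congr_fun (pushCl_pushPr n i hi hY (hasEnoughLocFree_PY hY n)
    (KSplit.isModel_kvb X) (KSplit.isModel_kvb Y) (KSplit.isModel_kvb _) (KSplit.isModel_kvb _) ha ha'
    (gX := pushK n X) (fun F hF hreg => pushK_cls ⟨hF, hreg⟩)
    (gY := pushK n Y) (fun F hF hreg => pushK_cls ⟨hF, hreg⟩)) z

theorem push_sect {n : ℕ} [IsNoetherian X] [ConnectedSpace ↥X] (hP : KRR.HasEnoughLocFree (KRR.PY n X))
    {s : X ⟶ KRR.PY n X} (hs : s ≫ KRR.pr n X = 𝟙 X) (hsr : Mor2.IsRegularClosedImmersion s)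
    {a : SGA6.Kvb X →+ SGA6.Kvb (KRR.PY n X)} (ha : IsPush s a) (x : SGA6.Kvb X) : pushK n X (a x) = x := by
  obtain ⟨hNX, hCX⟩ := RR.stable_bunPn (n := n) (Y := X)
  letI := kvbRing X
  letI := kvbLam X
  letI := kvbRing (KRR.PY n X)
  letI := kvbLam (KRR.PY n X)
  exact DFunLike.congr_fun (pushPr_pushCl_sect s hs hsr hP (KSplit.isModel_kvb X) (KSplit.isModel_kvb _) ha
    (gp := pushK n X) (fun F hF hreg => pushK_cls ⟨hF, hreg⟩)) x

/-- Sections of projective spaces are regular closed immersions. -/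
theorem isRegularClosedImmersion_sect {n : ℕ} {s : X ⟶ KRR.PY n X} (hs : s ≫ KRR.pr n X = 𝟙 X) :
    Mor2.IsRegularClosedImmersion s := by
  haveI : Smooth (KRR.pr n X) := CycPB.smooth_toBase n X
  haveI := HQProj.isProper_toBase n X
  haveI : IsSeparated (KRR.pr n X) := inferInstanceAs (IsSeparated (CohB1.ProjSpaceOver.toBase n X))
  haveI : IsClosedImmersion (s ≫ KRR.pr n X) := by rw [hs]; infer_instance
  haveI : IsClosedImmersion s := IsClosedImmersion.of_comp s (KRR.pr n X)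
  exact S1676.result (KRR.pr n X) s hs

/-- A closed immersion into `P^a_B` over a regular closed immersion `X → B`. -/
theorem push_lift (a : ℕ) {B : Scheme.{u}} [IsNoetherian X] [ConnectedSpace ↥X] [IsNoetherian B]
    [ConnectedSpace ↥B] (hB : KRR.HasEnoughLocFree B) {e : X ⟶ B} (he : Mor2.IsRegularClosedImmersion e)
    {h : X ⟶ KRR.PY a B} (hh : h ≫ KRR.pr a B = e) :
    Mor2.IsRegularClosedImmersion h ∧ ∀ (ah : SGA6.Kvb X →+ SGA6.Kvb (KRR.PY a B)) (ae : SGA6.Kvb X →+ SGA6.Kvb B),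
      IsPush h ah → IsPush e ae → ∀ x, pushK a B (ah x) = ae x := by
  have hp := PnReg.isPullback_map (n := a) e
  let s : X ⟶ KRR.PY a X := hp.lift h (𝟙 X) (by rw [hh, Category.id_comp])
  have hs₁ : s ≫ KRR.projSpaceMap a e = h := hp.lift_fst _ _ _
  have hs₂ : s ≫ KRR.pr a X = 𝟙 X := hp.lift_snd _ _ _
  have hsr := isRegularClosedImmersion_sect hs₂
  have hj := isRegularClosedImmersion_projSpaceMap a he
  refine ⟨hs₁ ▸ RegMor2.comp hj hsr, fun ah ae hah hae x => ?_⟩
  obtain ⟨hNX, hCX⟩ := RR.stable_bunPn (n := a) (Y := X)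
  obtain ⟨hNB, hCB⟩ := RR.stable_bunPn (n := a) (Y := B)
  haveI := hj.1
  have hPB := hasEnoughLocFree_PY hB a
  have hPX := hasEnoughLocFree_closed (KRR.projSpaceMap a e) hPB
  obtain ⟨as, has, -⟩ := exists_push hPX hsr
  obtain ⟨aj, haj, -⟩ := exists_push hPB hj
  have hcomp := push_comp hPX hPB hsr hj has haj (c := ah) (hs₁.symm ▸ hah)
  rw [hcomp, AddMonoidHom.comp_apply, ← push_pushK a he hB hae haj, push_sect hPX hs₂ hsr has]

/-- An isomorphism is a regular closed immersion. -/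
theorem isRegularClosedImmersion_of_isIso (σ : X ⟶ Y) [IsIso σ] : Mor2.IsRegularClosedImmersion σ := by
  refine RegMor2.isRegularClosedImmersion_of fun x => ?_
  obtain ⟨U, hU, hx, -⟩ := exists_isAffineOpen_mem_and_subset (X := Y) (x := σ x) (U := ⊤) trivial
  refine ⟨⟨U, hU⟩, hx, MorphismProperty.of_isPullback (isPullback_morphismRestrict σ U).flip inferInstance,
    [], RingTheory.Sequence.IsWeaklyRegular.nil _ _, ?_⟩
  rw [Ideal.ofList_nil, ← RingHom.injective_iff_ker_eq_bot]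
  exact ((ConcreteCategory.isIso_iff_bijective (σ.app U)).1 inferInstance).1

/-- The push-forward along an isomorphism is the inverse image along its inverse. -/
theorem push_iso [IsLocallyNoetherian Y] (σ : X ≅ Y) : IsPush σ.hom (pullK σ.inv) := by
  intro F hF n L π hL
  haveI : IsIso ((Scheme.Modules.pullbackPushforwardAdjunction σ.hom).counit.app F) := inferInstance
  let e : (Scheme.Modules.pushforward σ.hom).obj F ≅ (Scheme.Modules.pullback σ.inv).obj F :=
    ((Scheme.Modules.pullbackId Y).app _).symm ≪≫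
      ((Scheme.Modules.pullbackCongr σ.inv_hom_id).app _).symm ≪≫
      ((Scheme.Modules.pullbackComp σ.inv σ.hom).app _).symm ≪≫
      (Scheme.Modules.pullback σ.inv).mapIso (asIso ((Scheme.Modules.pullbackPushforwardAdjunction σ.hom).counit.app F))
  have hi := DerPerf.isFinLocFree_pullback σ.inv hF
  have hp : FlatMod.IsFinLocFree ((Scheme.Modules.pushforward σ.hom).obj F) := DQCoh.isFinLocFree_of_iso' e.symm hi
  haveI := hL.quasiIso
  rw [pullK_cls _ hF, ← cls_iso e hp]
  exact cl_eq_sum (LF Y) (fun S hS h₂ h₃ => K0ResLF.isFinLocFree_left hS h₂ h₃) hp n L π hL.isZero hL.finLocFree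

end Groth.Agent.K0ResLF
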