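import Groth.Agent.PnReg.HighReg
import Groth.Agent.PnReg.Main
import Groth.Agent.S19429
import Groth.Agent.CohFinite.Serre
import Groth.Agent.CohFinite.RPushCoh
import Groth.Agent.RPushQC.Acyclic
import Groth.Agent.K0Coh.Basic
import Groth.Agent.QC.Pullback
import Groth.Agent.DerPerf.Local
import Groth.Agent.KFlat.ClosedImm
import Groth.Agent.CohFinite.Tensor
import Groth.Prelude.Def_KRR

/-!
Projective spaces and closed subschemes inherit enough locally free modules.
-/

set_option autoImplicit false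
set_option linter.style.haveILetI false
set_option backward.isDefEq.respectTransparency false
set_option backward.isDefEq.respectTransparency.types false
set_option maxHeartbeats 1000000

universe u

open CategoryTheory CategoryTheory.Limits AlgebraicGeometry TopologicalSpace Opposite
open Groth.Agent.PnReg

noncomputable section

namespace Groth.Agent.K0ResLF

variable {n : ℕ} {T : Scheme.{u}}

theorem isCoh_twF (d : ℤ) {F : (CohB1.ProjSpaceOver n T).Modules} (hF : Coh.IsCoh F) :
    Coh.IsCoh (KRR.twF n T d F) :=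
  K0Coh.isCoh_of_iso (twComm d F)
    (CohFinite.isCoh_tensor hF (PicLoc.isInvertible_pullback _ (CohFinite.isInvertible_twist n _ _)))

/-- High twists of coherent modules are regular. -/
theorem exists_reg_twF_coh [IsNoetherian T] {F : (CohB1.ProjSpaceOver n T).Modules} (hF : Coh.IsCoh F) :
    ∃ m₀ : ℕ, ∀ m : ℕ, m₀ ≤ m → KRR.IsRegSheaf n T (KRR.twF n T (m : ℤ) F) := by
  haveI := HQProj.isProper_toBase n T
  have hcov : ∀ y : T, ∃ V : T.affineOpens, y ∈ V.1 := fun y => by
    obtain ⟨V, hV, hy, -⟩ := exists_isAffineOpen_mem_and_subset (X := T) (x := y) (U := ⊤) trivial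
    exact ⟨⟨V, hV⟩, hy⟩
  choose V hV using hcov
  obtain ⟨t, ht⟩ := isCompact_univ.elim_finite_subcover (fun y : T => ((V y).1 : Set T)) (fun y => (V y).1.2)
    fun y _ => Set.mem_iUnion.2 ⟨y, hV y⟩
  have hb : ∀ y : T, ∃ N : ℕ, ∀ m : ℕ, N ≤ m →
      Reg ((chartAt (n := n) (V y).2).Q.obj F) (m : ℤ) := fun y => by
    let c := chartAt (n := n) (V y).2
    haveI : IsNoetherianRing Γ(T, (V y).1) := IsLocallyNoetherian.component_noetherian (V y)
    have hQ : Coh.IsCoh (c.Q.obj F) := QC.isCoh_pullback c.q hF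
    obtain ⟨m₁, hm₁⟩ := CohFinite.vanish_projSpace n Γ(T, (V y).1) _ hQ
    refine ⟨m₁ + n, fun m hm q hq => ?_⟩
    rcases lt_or_ge n q with h | h
    · exact hh_above _ (isQCoh_twist (c.isQCoh hF.1) _) q h
    obtain ⟨p, rfl⟩ : ∃ p, q = p + 1 := ⟨q - 1, by omega⟩
    obtain ⟨e⟩ := GrT.nonempty_iso_tensorPow (𝒜 := CohB1.polyGrading n Γ(T, (V y).1)) (CohFinite.cov_one n _) (m - (p + 1))
    have hh := hm₁ (m - (p + 1)) (by omega) p
    rw [show (m : ℤ) - ((p + 1 : ℕ) : ℤ) = ((m - (p + 1) : ℕ) : ℤ) by omega]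
    exact CohQC.hh_subsingleton_of_iso (PicGrp.tensorModIso (Iso.refl _) e).symm _ hh
  choose N hN using hb
  refine ⟨t.sup N, fun m hm q hq => ?_⟩
  refine W7Hull.isZero_rpushAb_of_cover _ _ (isQCoh_twF _ (isQCoh_twF _ hF.1)) q fun z => ?_
  obtain ⟨y, hy⟩ := Set.mem_iUnion.1 (ht (Set.mem_univ z))
  obtain ⟨hyt, hzy⟩ := Set.mem_iUnion.1 hy
  let c := chartAt (n := n) (V y).2
  refine ⟨(V y).1, (V y).2, hzy, (c.subsingleton_iff _ (isQCoh_twF _ (isQCoh_twF _ hF.1)) q).2 ?_⟩
  obtain ⟨e⟩ := c.nonempty_twF (-(q : ℤ)) (KRR.twF n T (m : ℤ) F)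
  have h := (c.reg_twF (m : ℤ) F).2 (hN y m ((Finset.le_sup hyt).trans hm)) q hq
  rw [zero_sub] at h
  exact CohQC.hh_subsingleton_of_iso e.symm q h

/-- Every coherent module on `P^n_T` is a quotient of a finite locally free one if this holds on `T`. -/
theorem hasEnoughLocFree_PY [IsNoetherian T] (hT : KRR.HasEnoughLocFree T) (n : ℕ) :
    KRR.HasEnoughLocFree (KRR.PY n T) := fun F hF => by
  haveI := HQProj.isProper_toBase n T
  obtain ⟨m, hm⟩ := exists_reg_twF_coh hF
  let G := KRR.twF n T (m : ℤ) F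
  have hG : Coh.IsCoh G := isCoh_twF _ hF
  haveI := RPushQC.hasInjectiveResolutions (KRR.PY n T)
  obtain ⟨E, p, hE, hp⟩ := hT ((Scheme.Modules.pushforward (KRR.pr n T)).obj G)
    (K0Coh.isCoh_of_iso (((Coh.push (KRR.pr n T)).rightDerivedZeroIsoSelf).app G)
      (CohFinite.isCoh_rpush (KRR.pr n T) G hG 0))
  haveI := hp
  haveI := S19429.result n T G hG.1 (hm m le_rfl)
  haveI : (Scheme.Modules.pullback (KRR.pr n T)).IsLeftAdjoint :=
    (Scheme.Modules.pullbackPushforwardAdjunction (KRR.pr n T)).isLeftAdjoint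
  let s : (Scheme.Modules.pullback (KRR.pr n T)).obj E ⟶ G :=
    (Scheme.Modules.pullback (KRR.pr n T)).map p ≫
      (Scheme.Modules.pullbackPushforwardAdjunction (KRR.pr n T)).counit.app G
  haveI : Epi s := epi_comp _ _
  obtain ⟨e₁⟩ := nonempty_twF_twF F (-(m : ℤ)) (m : ℤ) 0 (by omega)
  obtain ⟨e₂⟩ := nonempty_twF_zero F
  let L := Twist.twistOver n T (-(m : ℤ))
  let S := ShortComplex.mk (kernel.ι s) s (kernel.condition s)
  have hS : S.ShortExact :=
    { exact := ShortComplex.exact_kernel s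
      mono_f := inferInstanceAs (Mono (kernel.ι s))
      epi_g := inferInstanceAs (Epi s) }
  haveI : Epi (CohFinite.tmap s L) := (CohFinite.shortExact_tmap (L := L)
    (PicLoc.isInvertible_pullback _ (CohFinite.isInvertible_twist n _ _)) hS).epi_g
  exact ⟨KRR.twF n T (-(m : ℤ)) ((Scheme.Modules.pullback (KRR.pr n T)).obj E),
    (twComm _ _).inv ≫ CohFinite.tmap s L ≫ (twComm _ G ≪≫ e₁ ≪≫ e₂).hom,
    isFinLocFree_twF _ (DerPerf.isFinLocFree_pullback _ hE), inferInstance⟩

/-- Enough locally free modules pass to closed subschemes. -/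
theorem hasEnoughLocFree_closed {X Y : Scheme.{u}} (i : X ⟶ Y) [IsClosedImmersion i] [IsLocallyNoetherian Y]
    (hY : KRR.HasEnoughLocFree Y) : KRR.HasEnoughLocFree X := fun F hF => by
  haveI : IsFinite i := inferInstance
  haveI := hF.1
  obtain ⟨E, p, hE, hp⟩ := hY ((Scheme.Modules.pushforward i).obj F) (QC.isCoh_pushforward_of_isFinite i hF.2)
  haveI := hp
  haveI : (Scheme.Modules.pullback i).IsLeftAdjoint :=
    (Scheme.Modules.pullbackPushforwardAdjunction i).isLeftAdjoint
  haveI : Epi ((Scheme.Modules.pullbackPushforwardAdjunction i).counit.app F) := by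
    refine Preadditive.epi_of_isZero_cokernel _ (KFlat.isZero_of_stalks _ fun x => ?_)
    haveI : Epi ((DerSch.stalkFunctor X x).map
        ((Scheme.Modules.pullbackPushforwardAdjunction i).counit.app F)) :=
      (ModuleCat.epi_iff_surjective _).2 fun z => by
        obtain ⟨m, hm⟩ := (KFlat.pushStalk_bijective i x F).2 z
        exact ⟨_, hm⟩
    exact IsZero.of_iso (isZero_cokernel_of_epi ((DerSch.stalkFunctor X x).map
      ((Scheme.Modules.pullbackPushforwardAdjunction i).counit.app F)))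
      (PreservesCokernel.iso (DerSch.stalkFunctor X x) _)
  exact ⟨_, (Scheme.Modules.pullback i).map p ≫ (Scheme.Modules.pullbackPushforwardAdjunction i).counit.app F,
    DerPerf.isFinLocFree_pullback i hE, inferInstance⟩

end Groth.Agent.K0ResLF
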