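import Groth.Agent.K0Res.Main
import Mathlib.Algebra.Homology.ShortComplex.HomologicalComplex

/-!
The alternating sum of the classes of the terms of a bounded complex is that of its homology.
-/

set_option autoImplicit false
set_option backward.isDefEq.respectTransparency false
set_option backward.isDefEq.respectTransparency.types false
set_option linter.style.haveILetI false

universe v u

open CategoryTheory CategoryTheory.Limits

noncomputable section

namespace Groth.Agent.K0ResLF

variable {C : Type u} [Category.{v} C] [Abelian C] (P : ObjectProperty C) [P.IsClosedUnderIsomorphisms]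
  (L : ChainComplex C ℕ)

/-- boundaries, as the kernel of the map from cycles to homology -/
abbrev bdry (k : ℕ) : C := kernel (L.homologyπ k)

/-- the differential onto the boundaries -/
def toBdry (k : ℕ) : L.X (k + 1) ⟶ bdry L k :=
  kernel.lift _ (L.toCycles (k + 1) k) (L.toCycles_comp_homologyπ _ _)

instance (k : ℕ) : Epi (toBdry L k) := by
  refine ShortComplex.Exact.epi_kernelLift (S := ShortComplex.mk (L.toCycles (k + 1) k) (L.homologyπ k)
    (L.toCycles_comp_homologyπ _ _)) ?_
  exact ShortComplex.exact_of_g_is_cokernel _ (L.homologyIsCokernel (k + 1) k (by simp))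

theorem toBdry_seq (k : ℕ) : ∃ w, (ShortComplex.mk (L.iCycles (k + 1)) (toBdry L k) w).ShortExact := by
  have w : L.iCycles (k + 1) ≫ toBdry L k = 0 := by
    rw [← cancel_mono (kernel.ι (L.homologyπ k)), ← cancel_mono (L.iCycles k)]
    simp [toBdry]
  refine ⟨w, { exact := ShortComplex.exact_of_f_is_kernel _ ?_ }⟩
  refine KernelFork.IsLimit.ofι' _ _ fun {A} x hx => ?_
  have hx' : x ≫ L.d (k + 1) k = 0 := by
    have := congrArg (· ≫ kernel.ι (L.homologyπ k) ≫ L.iCycles k) hx
    simpa [toBdry] using this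
  exact ⟨L.liftCycles x k (by simp) hx', L.liftCycles_i _ _ _ _⟩

theorem clSub_isZero {Z : C} (hZ : IsZero Z) (hP : P Z) : KZero.clSub P Z = 0 := by
  have hse : (ShortComplex.mk (𝟙 Z) (0 : Z ⟶ Z) (by simp)).ShortExact :=
    { exact := ShortComplex.exact_of_isZero_X₂ _ hZ
      mono_f := inferInstanceAs (Mono (𝟙 Z))
      epi_g := ⟨fun a b _ => hZ.eq_of_src a b⟩ }
  simpa using K0Res.clSub_add P hse hP hP hP

/-- The class identity. -/
theorem euler_eq_homology (hker : ∀ S : ShortComplex C, S.ShortExact → P S.X₂ → P S.X₃ → P S.X₁)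
    {Z : C} (hZ : IsZero Z) (hPZ : P Z)
    (hL : ∀ i, P (L.X i)) (hH : ∀ i, P (L.homology i)) (n : ℕ) (hn : ∀ i, n < i → IsZero (L.X i)) :
    ∑ k ∈ Finset.range (n + 1), (-1 : ℤ) ^ k • KZero.clSub P (L.X k) =
      ∑ k ∈ Finset.range (n + 1), (-1 : ℤ) ^ k • KZero.clSub P (L.homology k) := by
  let Z1 (k : ℕ) := L.cycles k
  have hcyc0 : IsIso (L.iCycles 0) := L.isIso_iCycles 0 0 (by simp) (L.shape _ _ (by simp))
  have hse1 : ∀ k, (K0Res.kerSeq (L.homologyπ k)).ShortExact := fun k => K0Res.kerSeq_shortExact _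
  have hZk : ∀ k, P (L.cycles k) ∧ P (bdry L k) := by
    intro k
    induction k with
    | zero =>
      have h0 : P (L.cycles 0) := P.prop_of_iso (asIso (L.iCycles 0)).symm (hL 0)
      exact ⟨h0, hker _ (hse1 0) h0 (hH 0)⟩
    | succ k ih =>
      obtain ⟨w, hw⟩ := toBdry_seq L k
      have h1 : P (L.cycles (k + 1)) := hker _ hw (hL _) ih.2
      exact ⟨h1, hker _ (hse1 _) h1 (hH _)⟩
  have e1 : ∀ k, KZero.clSub P (L.cycles k) = KZero.clSub P (bdry L k) + KZero.clSub P (L.homology k) := fun k =>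
    K0Res.clSub_add P (hse1 k) (hZk k).2 (hZk k).1 (hH k)
  have e2 : ∀ k, KZero.clSub P (L.X (k + 1)) = KZero.clSub P (L.cycles (k + 1)) + KZero.clSub P (bdry L k) :=
    fun k => by
      obtain ⟨w, hw⟩ := toBdry_seq L k
      exact K0Res.clSub_add P hw (hZk _).1 (hL _) (hZk k).2
  have e0 : KZero.clSub P (L.X 0) = KZero.clSub P (L.cycles 0) := by
    obtain ⟨u, v, h⟩ : ∃ (u : Z ⟶ L.cycles 0) (w : u ≫ L.iCycles 0 = 0),
        (ShortComplex.mk u (L.iCycles 0) w).ShortExact :=
      ⟨0, zero_comp, { exact := (ShortComplex.exact_iff_mono _ rfl).2 inferInstance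
                       mono_f := ⟨fun a b _ => hZ.eq_of_tgt a b⟩ }⟩
    have := K0Res.clSub_add P h hPZ (hZk 0).1 (hL 0)
    rw [clSub_isZero P hZ hPZ, zero_add] at this
    exact this.symm
  have key : ∀ m : ℕ, ∑ k ∈ Finset.range (m + 1), (-1 : ℤ) ^ k • KZero.clSub P (L.X k) =
      ∑ k ∈ Finset.range (m + 1), (-1 : ℤ) ^ k • KZero.clSub P (L.homology k) +
        (-1 : ℤ) ^ m • KZero.clSub P (bdry L m) := by
    intro m
    induction m with
    | zero => simp [e0, e1, add_comm]
    | succ m ih =>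
      rw [Finset.sum_range_succ _ (m + 1), ih, Finset.sum_range_succ _ (m + 1), e2, e1]
      simp only [pow_succ, mul_neg, mul_one, neg_smul, smul_add]
      abel
  have hb : IsZero (bdry L n) :=
    (IsZero.iff_id_eq_zero _).2 ((cancel_epi (toBdry L n)).1 ((hn (n + 1) (by omega)).eq_of_src _ _))
  rw [key n, clSub_isZero P hb (hZk n).2, smul_zero, add_zero]

end Groth.Agent.K0ResLF
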