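import Groth.Agent.KosExt.Hom
import Groth.Agent.KosExt.Sheaf
import Groth.Agent.SGA6Ext.Exists
import Groth.Prelude.Def_KoszulSh

/-!
Koszul complexes of cosections of finite locally free modules exist.
-/

set_option autoImplicit false
set_option linter.style.haveILetI false
set_option backward.isDefEq.respectTransparency false
set_option backward.isDefEq.respectTransparency.types false
set_option maxHeartbeats 1000000

universe u

open CategoryTheory CategoryTheory.Limits AlgebraicGeometry TopologicalSpace Opposite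
open Groth.Agent.QC (res resO res_res res_smul app_res)

noncomputable section

namespace Groth.Agent.K0ResLF

open Groth.Agent.KosExt

section Ring

variable {R : Type u} [CommRing R] {M : Type u} [AddCommGroup M] [Module R M]

/-- The contraction between exterior powers. -/
def conPow (φ : M →ₗ[R] R) (p : ℕ) : ↥(⋀[R]^(p + 1) M) →ₗ[R] ↥(⋀[R]^p M) :=
  ((con φ).comp (⋀[R]^(p + 1) M).subtype).codRestrict _ fun z => con_mem φ z.2

theorem conPow_ιMulti (φ : M →ₗ[R] R) (p : ℕ) (e : Fin (p + 1) → M) :
    conPow φ p (exteriorPower.ιMulti R (p + 1) e) = KoszSh.dGen φ p e := by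
  apply Subtype.ext
  show con φ _ = _
  rw [Submodule.subtype_apply, exteriorPower.ιMulti_apply_coe, con_ιMulti]

theorem conPow_conPow (φ : M →ₗ[R] R) (p : ℕ) (z : ↥(⋀[R]^(p + 2) M)) :
    conPow φ p (conPow φ (p + 1) z) = 0 :=
  Subtype.ext (CliffordAlgebra.contractLeft_contractLeft _ _)

end Ring

variable {X : Scheme.{u}} {E : X.Modules} (s : E ⟶ Coh.structureModule X)

/-- A Koszul complex of a cosection of a finite locally free module, with finite locally free terms. -/
theorem exists_cx (hE : FlatMod.IsFinLocFree E) :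
    ∃ C : KoszSh.Cx E s, ∀ p, FlatMod.IsFinLocFree (C.K.X p) := by
  choose φ hφ using fun p => SGA6Ext.isExtPow_extSh E p hE
  let l : ∀ (p : ℕ) (U : X.affineOpens), Γ(SGA6Ext.extSh E p, U.1) ≃ₗ[Γ(X, U.1)]
      ↥(⋀[Γ(X, U.1)]^p Γ(E, U.1)) := fun p U => φ p U
  have hl : ∀ (p : ℕ) (U V : X.affineOpens) (h : V.1 ≤ U.1) (e : Fin p → Γ(E, U.1)),
      res (SGA6Ext.extSh E p) h ((l p U).symm (exteriorPower.ιMulti _ p e)) =
        (l p V).symm (exteriorPower.ιMulti _ p fun j => res E h (e j)) := fun p U V h e => hφ p U V h e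
  let ψ : ∀ (p : ℕ) (U : X.affineOpens), Γ(SGA6Ext.extSh E (p + 1), U.1) →ₗ[Γ(X, U.1)]
      Γ(SGA6Ext.extSh E p, U.1) := fun p U =>
    (l p U).symm.toLinearMap ∘ₗ conPow (KoszSh.secForm s U.1) p ∘ₗ (l (p + 1) U).toLinearMap
  have hψ : ∀ (p : ℕ) (U V : X.affineOpens) (h : V.1 ≤ U.1) (t : Γ(SGA6Ext.extSh E (p + 1), U.1)),
      res (SGA6Ext.extSh E p) h (ψ p U t) = ψ p V (res (SGA6Ext.extSh E (p + 1)) h t) := by
    intro p U V h t
    obtain ⟨y, rfl⟩ := (l (p + 1) U).symm.surjective t
    have hy : y ∈ Submodule.span Γ(X, U.1)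
        (Set.range (exteriorPower.ιMulti Γ(X, U.1) (p + 1) (M := Γ(E, U.1)))) := by
      rw [exteriorPower.ιMulti_span]; trivial
    induction hy using Submodule.span_induction with
    | mem y hy =>
      obtain ⟨e, rfl⟩ := hy
      rw [hl]
      simp only [ψ, LinearMap.comp_apply, LinearEquiv.coe_coe, LinearEquiv.apply_symm_apply, conPow_ιMulti]
      simp only [KoszSh.dGen, map_sum, map_smul]
      refine Finset.sum_congr rfl fun i _ => ?_
      rw [res_smul, hl, map_mul, map_pow, map_neg, map_one, ← KosExt.secForm_res]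
    | zero => simp only [map_zero]
    | add a b _ _ ha hb => simp only [map_add, ha, hb]
    | smul r a _ ha => simp only [map_smul, res_smul, ha]
  choose d hd using fun p => KosExt.exists_hom_affine (SGA6Ext.extSh E (p + 1)) (SGA6Ext.extSh E p) (ψ p) (hψ p)
  have hsq : ∀ p, d (p + 1) ≫ d p = 0 := fun p => KosExt.hom_ext_affine fun U t => by
    show (d p).app U.1 ((d (p + 1)).app U.1 t) = 0
    rw [hd, hd]
    simp only [ψ, LinearMap.comp_apply, LinearEquiv.coe_coe, LinearEquiv.apply_symm_apply, conPow_conPow,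
      map_zero]
  refine ⟨{ K := ChainComplex.of (fun p => SGA6Ext.extSh E p) d hsq, loc := l, loc_res := hl,
            rule := fun p U e => ?_ }, fun p => SGA6Ext.isFinLocFree_extSh E p hE⟩
  dsimp only [ChainComplex.of]
  rw [ChainComplex.of_d]
  show (d p).app U.1 _ = _
  rw [hd]
  simp only [ψ, LinearMap.comp_apply, LinearEquiv.coe_coe, LinearEquiv.apply_symm_apply, conPow_ιMulti]

end Groth.Agent.K0ResLF
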