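import Groth.Agent.K0ResLF.PullFlat
import Groth.Agent.K0ResLF.RRPn
import Groth.Agent.S3797
import Groth.Agent.PnReg.KModel
import Groth.Agent.PnReg.KFree
import Groth.Agent.PnReg.BaseChange
import Groth.Agent.KSixLib.ExchProj
import Groth.Agent.RegMor2.Basic

/-!
Push-forward along a regular closed immersion commutes with push-forward from projective spaces.
-/

set_option autoImplicit false
set_option linter.style.haveILetI false
set_option backward.isDefEq.respectTransparency false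
set_option backward.isDefEq.respectTransparency.types false
set_option maxHeartbeats 1000000

universe v u

open CategoryTheory CategoryTheory.Limits AlgebraicGeometry

attribute [local instance] HasDerivedCategory.standard

noncomputable section

namespace Groth.Agent.K0ResLF

variable {X Y : Scheme.{u}}

theorem flat_pr (n : ℕ) (Y : Scheme.{u}) : Flat (KRR.pr n Y) := (KSixLib.Exch.toBase_proper_flat_lfp n Y).2.1

theorem isRegularClosedImmersion_projSpaceMap (n : ℕ) {i : X ⟶ Y} (hi : Mor2.IsRegularClosedImmersion i) :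
    Mor2.IsRegularClosedImmersion (KRR.projSpaceMap n i) := by
  haveI := flat_pr n Y
  exact RegMor2.of_isPullback (PnReg.isPullback_map i).flip hi

theorem pushCl_pushPr (n : ℕ) (i : X ⟶ Y) (hi : Mor2.IsRegularClosedImmersion i)
    [IsNoetherian X] [ConnectedSpace ↥X] [IsNoetherian Y] [ConnectedSpace ↥Y] (hYe : KRR.HasEnoughLocFree Y)
    (hPe : KRR.HasEnoughLocFree (KRR.PY n Y))
    {KX : Type v} [CommRing KX] [LambdaRing.LambdaOps KX] {PX : LambdaRing.PosStructure KX} {φX : SGA6.Kvb X →+ KX} (hKX : KRR.IsModel X KX PX φX)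
    {KY : Type v} [CommRing KY] [LambdaRing.LambdaOps KY] {PY : LambdaRing.PosStructure KY} {φY : SGA6.Kvb Y →+ KY} (hKY : KRR.IsModel Y KY PY φY)
    {KPX : Type v} [CommRing KPX] [LambdaRing.LambdaOps KPX] {PPX : LambdaRing.PosStructure KPX} {φPX : SGA6.Kvb (KRR.PY n X) →+ KPX} (hKPX : KRR.IsModel (KRR.PY n X) KPX PPX φPX)
    {KPY : Type v} [CommRing KPY] [LambdaRing.LambdaOps KPY] {PPY : LambdaRing.PosStructure KPY} {φPY : SGA6.Kvb (KRR.PY n Y) →+ KPY} (hKPY : KRR.IsModel (KRR.PY n Y) KPY PPY φPY)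
    {gi : KX →+ KY} (hgi : KRR.IsPushCl i φX φY gi)
    {gj : KPX →+ KPY} (hgj : KRR.IsPushCl (KRR.projSpaceMap n i) φPX φPY gj)
    {gX : KPX →+ KX} (hgX : KRR.IsPushPr n X φPX φX gX) {gY : KPY →+ KY} (hgY : KRR.IsPushPr n Y φPY φY gY) :
    gi.comp gX = gY.comp gj := by
  obtain ⟨hNX, hCX⟩ := RR.stable_bunPn (n := n) (Y := X)
  obtain ⟨hNY, hCY⟩ := RR.stable_bunPn (n := n) (Y := Y)
  obtain ⟨qX, hqX, -⟩ := S3797.result (KRR.pr n X) KPX PPX φPX hKPX KX PX φX hKX
  obtain ⟨qY, hqY, -⟩ := S3797.result (KRR.pr n Y) KPY PPY φPY hKPY KY PY φY hKY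
  obtain ⟨pi, hpi, -⟩ := S3797.result i KX PX φX hKX KY PY φY hKY
  obtain ⟨pj, hpj, -⟩ := S3797.result (KRR.projSpaceMap n i) KPX PPX φPX hKPX KPY PPY φPY hKPY
  have hj := isRegularClosedImmersion_projSpaceMap n hi
  haveI := hi.1
  haveI := hj.1
  haveI := flat_pr n Y
  have base : ∀ (d : ℤ) (M : X.Modules), FlatMod.IsFinLocFree M →
      (gi.comp gX).comp φPX (PnReg.gen n X d (SGA6Ext.cls M)) =
        (gY.comp gj).comp φPX (PnReg.gen n X d (SGA6Ext.cls M)) := by
    intro d M hM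
    rw [PnReg.gen_cls d hM]
    let T := Twist.twistOver n Y d
    have hTY : FlatMod.IsFinLocFree T :=
      DQCoh.isFinLocFree_of_iso' (PnReg.twUnitIso d) (PnReg.isFinLocFree_twF d (PnReg.isFinLocFree_unit _))
    have hTX : FlatMod.IsFinLocFree (Twist.twistOver n X d) :=
      DQCoh.isFinLocFree_of_iso' (PnReg.twUnitIso d) (PnReg.isFinLocFree_twF d (PnReg.isFinLocFree_unit _))
    have hgM := DerPerf.isFinLocFree_pullback (KRR.pr n X) hM
    let e : (Scheme.Modules.pullback (KRR.projSpaceMap n i)).obj T ≅ Twist.twistOver n X d :=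
      (Scheme.Modules.pullbackComp _ _).app _ ≪≫ (Scheme.Modules.pullbackCongr (PnReg.map_fst i)).app _
    have h1 : φPX (SGA6Ext.cls (KRR.twF n X d ((Scheme.Modules.pullback (KRR.pr n X)).obj M))) =
        pj (φPY (KRR.cl _ T)) * qX (φX (KRR.cl X M)) := by
      rw [hpj T hTY, hqX M hM, show KRR.cl _ ((Scheme.Modules.pullback (KRR.projSpaceMap n i)).obj T) =
        KRR.cl _ (Twist.twistOver n X d) from SGA6Ext.cls_iso e (DerPerf.isFinLocFree_pullback _ hTY),
        hKPX.map_mul _ _ hTX hgM]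
      rfl
    have h2 : gj (qX (φX (KRR.cl X M))) = qY (gi (φX (KRR.cl X M))) := by
      obtain ⟨m, L, π, hL⟩ := (hasLFRes_push hYe hi hM).2
      obtain ⟨π', hL'⟩ := exists_pull_res_flat (PnReg.isPullback_map (n := n) i) (LocFree.isQCoh_of_isFinLocFree hM) hL
      rw [hqX M hM, hgi M hM m L π hL, hgj _ hgM m _ π' hL', map_sum]
      refine Finset.sum_congr rfl fun k _ => ?_
      rw [map_zsmul, hqY _ (hL.finLocFree k)]
      rfl
    simp only [AddMonoidHom.comp_apply]
    rw [h1, PnReg.push_mul_pull hKPX.map_mul hKX.map_mul hKPX.bijective.2 hKX.bijective.2 hgX hqX,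
      ← PnReg.pull_push_baseChange i hKPY.bijective.2 hpi hpj hgY hgX, mul_comm,
      pushCl_mul_pull hYe hKX.bijective hKY.bijective hKX.map_mul hKY.map_mul hi hpi hgi,
      mul_comm (pj _) (qX _), pushCl_mul_pull hPe hKPX.bijective hKPY.bijective hKPX.map_mul hKPY.map_mul hj hpj hgj,
      h2, mul_comm (qY _),
      PnReg.push_mul_pull hKPY.map_mul hKY.map_mul hKPY.bijective.2 hKY.bijective.2 hgY hqY, mul_comm]
  have hgen : ∀ d : ℤ, ((gi.comp gX).comp φPX).comp (PnReg.gen n X d) =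
      ((gY.comp gj).comp φPX).comp (PnReg.gen n X d) := fun d => SGA6Ext.hom_ext_cls fun M hM => base d M hM
  have key : (gi.comp gX).comp φPX = (gY.comp gj).comp φPX := PnReg.hom_ext_reg fun F hF => by
    rw [PnReg.cls_eq_sum hF.1 hF.2, map_sum, map_sum]
    exact Finset.sum_congr rfl fun k _ => DFunLike.congr_fun (hgen _) _
  ext z
  obtain ⟨w, rfl⟩ := hKPX.bijective.2 z
  exact DFunLike.congr_fun key w

end Groth.Agent.K0ResLF
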