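import Groth.Agent.K0ResLF.PushK
import Groth.Agent.W7AffBC.Basic
import Groth.Agent.RelPCS.FlatBase

/-!
Flat base change of resolutions of direct images along closed immersions.
-/

set_option autoImplicit false
set_option linter.style.haveILetI false
set_option backward.isDefEq.respectTransparency false
set_option backward.isDefEq.respectTransparency.types false

universe u

open CategoryTheory CategoryTheory.Limits AlgebraicGeometry HomologicalComplex

attribute [local instance] HasDerivedCategory.standard

noncomputable section

namespace Groth.Agent.K0ResLF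

variable {X Y P M : Scheme.{u}}

/-- Flat base change of a resolution of a direct image along an affine morphism. -/
theorem exists_pull_res_flat {F : P ⟶ M} [IsAffineHom F] {φ : Y ⟶ M} [Flat φ] {f : X ⟶ Y} {ψ : X ⟶ P}
    (hsq : IsPullback f ψ φ F) {E : P.Modules} (hE : Coh.IsQCoh E) {n : ℕ} {L : ChainComplex M.Modules ℕ}
    {π : L ⟶ (ChainComplex.single₀ M.Modules).obj ((Scheme.Modules.pushforward F).obj E)}
    (hL : KRR.IsLFRes ((Scheme.Modules.pushforward F).obj E) n L π) :
    ∃ π' : ((Scheme.Modules.pullback φ).mapHomologicalComplex _).obj L ⟶ (ChainComplex.single₀ Y.Modules).obj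
        ((Scheme.Modules.pushforward f).obj ((Scheme.Modules.pullback ψ).obj E)),
      KRR.IsLFRes _ n (((Scheme.Modules.pullback φ).mapHomologicalComplex _).obj L) π' := by
  haveI := hL.quasiIso
  let G := Scheme.Modules.pullback φ
  haveI : PreservesFiniteLimits G := RelPCS.preservesFiniteLimits_pullback φ
  haveI : PreservesFiniteColimits G := by
    haveI := (Scheme.Modules.pullbackPushforwardAdjunction φ).leftAdjoint_preservesColimits.{0, 0}
    exact inferInstance
  haveI : IsIso (((Scheme.Modules.pullbackPushforwardAdjunction φ).homEquiv _ _).symm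
      (W7AffBC.theta hsq.flip E)) := W7AffBC.isIso_baseChange hsq.flip E hE
  let e := asIso (((Scheme.Modules.pullbackPushforwardAdjunction φ).homEquiv _ _).symm (W7AffBC.theta hsq.flip E))
  exact ⟨(G.mapHomologicalComplex _).map π ≫
      ((HomologicalComplex.singleMapHomologicalComplex G _ 0).app _).hom ≫
      (ChainComplex.single₀ Y.Modules).map e.hom,
    fun i => DerPerf.isFinLocFree_pullback φ (hL.finLocFree i), fun i hi => G.map_isZero (hL.isZero i hi),
    inferInstance⟩

end Groth.Agent.K0ResLF
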