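import Groth.Agent.K0ResLF.Push
import Groth.Agent.K0ResLF.Euler
import Groth.Agent.KFlat.ClosedImm
import Groth.Agent.DerPerf.Tensor
import Groth.Agent.DerPerf.Local
import Groth.Agent.RegMor2.Basic

/-!
The push-forward on `K₀` of bundles along regular closed immersions: composition and projection formula.
-/

set_option autoImplicit false
set_option backward.isDefEq.respectTransparency false
set_option backward.isDefEq.respectTransparency.types false
set_option linter.style.haveILetI false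

universe v u

open CategoryTheory CategoryTheory.Limits AlgebraicGeometry

attribute [local instance] HasDerivedCategory.standard

noncomputable section

namespace Groth.Agent.K0ResLF

variable {X Y Z : Scheme.{u}}

/-- isomorphic objects have the same class -/
lemma clSub_iso {C : Type*} [Category C] [Abelian C] (P : ObjectProperty C) [P.IsClosedUnderIsomorphisms]
    {A B : C} (e : A ≅ B) (hA : P A) {O : C} (hO : P O) (hO' : IsZero O) :
    KZero.clSub P A = KZero.clSub P B := by
  have hB : P B := P.prop_of_iso e hA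
  have hse : (ShortComplex.mk (0 : O ⟶ A) e.hom zero_comp).ShortExact :=
    { exact := (ShortComplex.exact_iff_mono _ rfl).2 (inferInstanceAs (Mono e.hom))
      mono_f := ⟨fun a b _ => hO'.eq_of_tgt a b⟩
      epi_g := inferInstanceAs (Epi e.hom) }
  have hz : (ShortComplex.mk (0 : O ⟶ O) (0 : O ⟶ O) zero_comp).ShortExact :=
    { exact := ShortComplex.exact_of_isZero_X₂ _ hO'
      mono_f := ⟨fun a b _ => hO'.eq_of_tgt a b⟩
      epi_g := ⟨fun a b _ => hO'.eq_of_src a b⟩ }
  have h0 : KZero.clSub P O = 0 := by simpa using K0Res.clSub_add P hz hO hO hO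
  simpa [h0] using K0Res.clSub_add P hse hO hA hB

lemma res_lf [IsLocallyNoetherian Y] (hY : KRR.HasEnoughLocFree Y) (M : Y.Modules) (hM : FlatMod.IsFinLocFree M) :
    Coh.IsCoh M ∧ KRR.HasLFRes M :=
  ⟨K0Coh.isCoh_of_isFinLocFree hM, hasLFRes_of_pdLT hY (K0Coh.isCoh_of_isFinLocFree hM) (n := 0) (pdLT_one hM)⟩

lemma clSub_res_iso [IsLocallyNoetherian Y] (hY : KRR.HasEnoughLocFree Y) {A B : Y.Modules} (e : A ≅ B)
    (hA : ResP Y A) : KZero.clSub (ResP Y) A = KZero.clSub (ResP Y) B := by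
  haveI := (hypRes hY (res_lf hY)).iso₁
  exact clSub_iso (ResP Y) e hA (res_lf hY _ isFinLocFree_zero) (isZero_zero _)

variable {KX KY KZ : Type v} [CommRing KX] [CommRing KY] [CommRing KZ]

/-- the map from the model to the Grothendieck group of coherent modules with finite resolutions -/
def toRes [IsLocallyNoetherian Y] (hY : KRR.HasEnoughLocFree Y) (φY : SGA6.Kvb Y →+ KY) (hφ : Function.Bijective φY) :
    KY →+ KZero.K0sub (ResP Y) :=
  (SGA6.mapSub (𝟭 Y.Modules) (LF Y) (ResP Y) (res_lf hY)).comp (AddEquiv.ofBijective φY hφ).symm.toAddMonoidHom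

lemma toRes_injective [IsLocallyNoetherian Y] (hY : KRR.HasEnoughLocFree Y) (φY : SGA6.Kvb Y →+ KY)
    (hφ : Function.Bijective φY) : Function.Injective (toRes hY φY hφ) :=
  (bijective_res hY (res_lf hY)).1.comp (AddEquiv.ofBijective φY hφ).symm.injective

lemma toRes_cl [IsLocallyNoetherian Y] (hY : KRR.HasEnoughLocFree Y) (φY : SGA6.Kvb Y →+ KY)
    (hφ : Function.Bijective φY) {L : Y.Modules} (hL : FlatMod.IsFinLocFree L) :
    toRes hY φY hφ (φY (KRR.cl Y L)) = KZero.clSub (ResP Y) L := by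
  have e : (AddEquiv.ofBijective φY hφ).symm (φY (KRR.cl Y L)) = KRR.cl Y L :=
    (AddEquiv.ofBijective φY hφ).symm_apply_apply _
  show SGA6.mapSub _ _ _ _ ((AddEquiv.ofBijective φY hφ).symm (φY (KRR.cl Y L))) = _
  rw [e]
  simp [KRR.cl, K0Res.clSub_eq (LF Y) hL, K0Res.clSub_eq (ResP Y) (res_lf hY L hL), SGA6.mapSub, SGA6.objMap]

/-- the characterisation of the push-forward -/
lemma toRes_push [IsNoetherian Y] (hY : KRR.HasEnoughLocFree Y) (φY : SGA6.Kvb Y →+ KY)
    (hφ : Function.Bijective φY) {f : X ⟶ Y} (hf : Mor2.IsRegularClosedImmersion f) {φX : SGA6.Kvb X →+ KX}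
    {h : KX →+ KY} (hh : KRR.IsPushCl f φX φY h) {F : X.Modules} (hF : FlatMod.IsFinLocFree F) :
    toRes hY φY hφ (h (φX (KRR.cl X F))) = KZero.clSub (ResP Y) ((Scheme.Modules.pushforward f).obj F) := by
  have hp : ResP Y ((Scheme.Modules.pushforward f).obj F) := hasLFRes_push hY hf hF
  obtain ⟨n, L, π, hL⟩ := hp.2
  haveI := hL.quasiIso
  rw [hh F hF n L π hL, map_sum,
    cl_eq_sum (ResP Y) (hypRes hY (res_lf hY)).ker₁ hp n L π hL.isZero (fun i => res_lf hY _ (hL.finLocFree i))]
  exact Finset.sum_congr rfl fun k _ => by rw [map_zsmul, toRes_cl hY φY hφ (hL.finLocFree k)]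

/-- homomorphisms out of a model are determined on classes of bundles -/
lemma model_hom_ext {A : Type*} [AddCommGroup A] {φX : SGA6.Kvb X →+ KX} (hφ : Function.Bijective φX)
    {a b : KX →+ A} (h : ∀ F : X.Modules, FlatMod.IsFinLocFree F → a (φX (KRR.cl X F)) = b (φX (KRR.cl X F))) :
    a = b := by
  have : a.comp φX = b.comp φX := by
    ext ⟨F, hF⟩
    have e : KRR.cl X F = QuotientAddGroup.mk (FreeAbelianGroup.of ⟨F, hF⟩) := K0Res.clSub_eq (LF X) hF
    simp only [AddMonoidHom.comp_apply, QuotientAddGroup.mk'_apply]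
    erw [← e]
    exact h F hF
  ext z
  obtain ⟨x, rfl⟩ := hφ.2 z
  exact DFunLike.congr_fun this x

/-- `(f ≫ g)_K = g_K ∘ f_K` -/
theorem pushCl_comp [IsNoetherian Y] [IsNoetherian Z] (hY : KRR.HasEnoughLocFree Y) (hZ : KRR.HasEnoughLocFree Z)
    {φX : SGA6.Kvb X →+ KX} (hφX : Function.Bijective φX) {φY : SGA6.Kvb Y →+ KY}
    {φZ : SGA6.Kvb Z →+ KZ} (hφZ : Function.Bijective φZ) {f : X ⟶ Y} {g : Y ⟶ Z}
    (hf : Mor2.IsRegularClosedImmersion f) (hg : Mor2.IsRegularClosedImmersion g)
    {a : KX →+ KY} (ha : KRR.IsPushCl f φX φY a) {b : KY →+ KZ} (hb : KRR.IsPushCl g φY φZ b)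
    {c : KX →+ KZ} (hc : KRR.IsPushCl (f ≫ g) φX φZ c) : c = b.comp a := by
  haveI := hg.1
  haveI := GrothSS.preservesFiniteColimits_push g
  refine model_hom_ext hφX fun F hF => toRes_injective hZ φZ hφZ ?_
  have hfg := RegMor2.comp hg hf
  obtain ⟨n, L, π, hL⟩ := (hasLFRes_push hY hf hF).2
  haveI := hL.quasiIso
  let G := Scheme.Modules.pushforward g
  haveI := (hypRes hZ (res_lf hZ)).iso₁
  let e : G.obj ((Scheme.Modules.pushforward f).obj F) ≅ (Scheme.Modules.pushforward (f ≫ g)).obj F :=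
    (Scheme.Modules.pushforwardComp f g).app F
  have hp : ResP Z (G.obj ((Scheme.Modules.pushforward f).obj F)) :=
    (ResP Z).prop_of_iso e.symm (hasLFRes_push hZ hfg hF)
  let π' : (G.mapHomologicalComplex _).obj L ⟶
      (ChainComplex.single₀ Z.Modules).obj (G.obj ((Scheme.Modules.pushforward f).obj F)) :=
    (G.mapHomologicalComplex _).map π ≫ ((HomologicalComplex.singleMapHomologicalComplex G _ 0).app _).hom
  rw [toRes_push hZ φZ hφZ hfg hc hF, AddMonoidHom.comp_apply, ha F hF n L π hL, map_sum, map_sum,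
    ← clSub_res_iso hZ e hp,
    cl_eq_sum (ResP Z) (hypRes hZ (res_lf hZ)).ker₁ hp n _ π' (fun i hi => G.map_isZero (hL.isZero i hi))
      (fun i => hasLFRes_push hZ hg (hL.finLocFree i))]
  exact Finset.sum_congr rfl fun k _ => by
    rw [map_zsmul, map_zsmul, toRes_push hZ φZ hφZ hg hb (hL.finLocFree k)]
    rfl

set_option maxHeartbeats 1600000 in
/-- The projection formula. -/
theorem pushCl_mul_pull [IsNoetherian Y] (hY : KRR.HasEnoughLocFree Y)
    {φX : SGA6.Kvb X →+ KX} (hφX : Function.Bijective φX) {φY : SGA6.Kvb Y →+ KY} (hφY : Function.Bijective φY)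
    (hmulX : ∀ E F : X.Modules, FlatMod.IsFinLocFree E → FlatMod.IsFinLocFree F →
      φX (KRR.cl X E) * φX (KRR.cl X F) = φX (KRR.cl X (((DCoh.tensorBi (X := X)).obj E).obj F)))
    (hmulY : ∀ E F : Y.Modules, FlatMod.IsFinLocFree E → FlatMod.IsFinLocFree F →
      φY (KRR.cl Y E) * φY (KRR.cl Y F) = φY (KRR.cl Y (((DCoh.tensorBi (X := Y)).obj E).obj F)))
    {f : X ⟶ Y} (hf : Mor2.IsRegularClosedImmersion f)
    {g : KY →+ KX} (hg : KRR.IsPull f φY φX g) {h : KX →+ KY} (hh : KRR.IsPushCl f φX φY h) (x : KX) (y : KY) :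
    h (x * g y) = h x * y := by
  haveI := hf.1
  have main : ∀ (F : X.Modules) (E : Y.Modules), FlatMod.IsFinLocFree F → FlatMod.IsFinLocFree E →
      h (φX (KRR.cl X F) * g (φY (KRR.cl Y E))) = h (φX (KRR.cl X F)) * φY (KRR.cl Y E) := by
    intro F E hF hE
    obtain ⟨n, L, π, hL⟩ := (hasLFRes_push hY hf hF).2
    haveI := hL.quasiIso
    let G := (KFlat.schB Y).flip.obj E
    have hG : PreservesFiniteLimits G ∧ PreservesFiniteColimits G :=
      (((KFlat.schB Y).flip.obj E).exact_tfae.out 1 3 rfl rfl).1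
        ((KFlat.isFlat_iff_flatObj E).1 (DerPerf.isFlat_of_isFinLocFree hE))
    haveI := hG.1
    haveI := hG.2
    have hE' := DerPerf.isFinLocFree_pullback f hE
    let T := (Scheme.Modules.pushforward f).obj (((KFlat.schB X).obj F).obj ((Scheme.Modules.pullback f).obj E))
    let e : G.obj ((Scheme.Modules.pushforward f).obj F) ≅ T := KFlat.projFormulaIso f F E
    let π' : (G.mapHomologicalComplex _).obj L ⟶ (ChainComplex.single₀ Y.Modules).obj T :=
      (G.mapHomologicalComplex _).map π ≫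
        ((HomologicalComplex.singleMapHomologicalComplex G _ 0).app _).hom ≫ (ChainComplex.single₀ Y.Modules).map e.hom
    have hπ' : KRR.IsLFRes T n ((G.mapHomologicalComplex _).obj L) π' :=
      ⟨fun i => DerPerf.isFinLocFree_tensor (hL.finLocFree i) hE, fun i hi => G.map_isZero (hL.isZero i hi),
        inferInstance⟩
    rw [hg E hE, hmulX F _ hF hE', hh _ (DerPerf.isFinLocFree_tensor hF hE') n _ π' hπ', hh F hF n L π hL,
      Finset.sum_mul]
    exact Finset.sum_congr rfl fun k _ => by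
      rw [smul_mul_assoc, hmulY _ _ (hL.finLocFree k) hE]
      rfl
  have h1 : ∀ (F : X.Modules), FlatMod.IsFinLocFree F → ∀ y, h (φX (KRR.cl X F) * g y) = h (φX (KRR.cl X F)) * y :=
    fun F hF => DFunLike.congr_fun (model_hom_ext hφY
      (a := h.comp ((AddMonoidHom.mulLeft (φX (KRR.cl X F))).comp g))
      (b := AddMonoidHom.mulLeft (h (φX (KRR.cl X F)))) fun E hE => main F E hF hE)
  exact DFunLike.congr_fun (model_hom_ext hφX
    (a := h.comp (AddMonoidHom.mulRight (g y))) (b := (AddMonoidHom.mulRight y).comp h) fun F hF => h1 F hF y) x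

end Groth.Agent.K0ResLF
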