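import Groth.Agent.K0ResLF.TorVan
import Groth.Agent.K0ResLF.PushK
import Groth.Agent.K0ResLF.KoszulReg
import Groth.Agent.KoszulLib.SchStalk
import Groth.Agent.KoszulLib.SchKer
import Groth.Agent.TorCI.RegularQuot
import Groth.Agent.KFlat.Pullback
import Groth.Agent.W7AffBC.Basic

/-!
Resolutions of direct images along a regular closed immersion stay resolutions under base change when
the codimension does not drop.
-/

set_option autoImplicit false
set_option linter.style.haveILetI false
set_option backward.isDefEq.respectTransparency false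
set_option backward.isDefEq.respectTransparency.types false
set_option maxHeartbeats 1000000

universe u

open CategoryTheory CategoryTheory.Limits AlgebraicGeometry HomologicalComplex RingTheory.Sequence

attribute [local instance] HasDerivedCategory.standard

noncomputable section

namespace Groth.Agent.K0ResLF

variable {X Y P M : Scheme.{u}}

/-- The stalk of the direct image of a bundle at a point of the subscheme. -/
theorem exists_stalk_push (F : P ⟶ M) [IsClosedImmersion F] {E : P.Modules} (hE : FlatMod.IsFinLocFree E) (p : P) :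
    ∃ r : ℕ, Nonempty ((St (F p)).obj ((Scheme.Modules.pushforward F).obj E) ≅
      ModuleCat.of (M.presheaf.stalk (F p))
        (Fin r → M.presheaf.stalk (F p) ⧸ RingHom.ker (F.stalkMap p).hom)) := by
  let A := M.presheaf.stalk (F p)
  let C := P.presheaf.stalk p
  letI : Algebra A C := (F.stalkMap p).hom.toAlgebra
  let Ep : ModuleCat C := (St p).obj E
  letI : Module A Ep := Module.compHom Ep (algebraMap A C)
  haveI : IsScalarTower A C Ep := IsScalarTower.of_algebraMap_smul fun _ _ => rfl
  obtain ⟨hfree, hfin⟩ := DCohLocus.freeAt_of_isFinLocFree hE p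
  haveI : Module.Free C Ep := hfree
  haveI : Module.Finite C Ep := hfin
  let b := Module.Free.chooseBasis C Ep
  let b' := b.reindex (Fintype.equivFin _)
  let e1 : (St (F p)).obj ((Scheme.Modules.pushforward F).obj E) ≃ₗ[A] Ep :=
    LinearEquiv.ofBijective
      ({ toFun := KFlat.pushStalk F p E
         map_add' := map_add _
         map_smul' := fun r m => KFlat.pushStalk_smul F p E r m } :
        (St (F p)).obj ((Scheme.Modules.pushforward F).obj E) →ₗ[A] Ep)
      (KFlat.pushStalk_bijective F p E)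
  let e3 : C ≃ₗ[A] (A ⧸ RingHom.ker (F.stalkMap p).hom) :=
    (Ideal.quotientKerAlgEquivOfSurjective (f := Algebra.ofId A C)
      (F.stalkMap_surjective p)).toLinearEquiv.symm
  exact ⟨_, ⟨(e1 ≪≫ₗ (b'.equivFun.restrictScalars A) ≪≫ₗ LinearEquiv.piCongrRight fun _ => e3).toModuleIso⟩⟩

/-- Local equations of a regular closed immersion, and the stalk of a direct image. -/
theorem exists_eqns (F : P ⟶ M) (hF : Mor2.IsRegularClosedImmersion F) {d : ℕ}
    (hcF : FlatMod.IsFinLocFreeOfRank d (Omega.conormal F)) {E : P.Modules} (hE : FlatMod.IsFinLocFree E)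
    (m : M) (hm : m ∈ Set.range F) :
    ∃ (U : M.affineOpens) (hU : m ∈ U.1) (rs : List Γ(M, U.1)), IsClosedImmersion (F ∣_ U.1) ∧
      IsWeaklyRegular (M.presheaf.stalk m) (rs.map (M.presheaf.germ U.1 m hU).hom) ∧
      RingHom.ker (F.app U.1).hom = Ideal.ofList rs ∧ rs.length = d ∧
      ∃ r : ℕ, Nonempty ((St m).obj ((Scheme.Modules.pushforward F).obj E) ≅
        ModuleCat.of (M.presheaf.stalk m)
          (Fin r → M.presheaf.stalk m ⧸ Ideal.ofList (rs.map (M.presheaf.germ U.1 m hU).hom))) := by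
  haveI := hF.1
  obtain ⟨p, rfl⟩ := hm
  obtain ⟨U, hU, hpU, rs, hrs, hker⟩ := hF.2 p
  have hlen := length_eq_rank F hcF ⟨U, hU⟩ rs hrs hker p hpU
  have hc : IsClosedImmersion (F ∣_ U) :=
    MorphismProperty.of_isPullback (isPullback_morphismRestrict F U).flip hF.1
  have hker' : RingHom.ker (F.app U).hom = Ideal.ofList rs := (Scheme.Hom.ker_apply F ⟨U, hU⟩).symm.trans hker
  letI := (M.presheaf.germ U (F p) hpU).hom.toAlgebra
  haveI := hU.isLocalization_stalk ⟨F p, hpU⟩
  haveI : Module.Flat Γ(M, U) (M.presheaf.stalk (F p)) :=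
    IsLocalization.flat _ (hU.primeIdealOf ⟨F p, hpU⟩).asIdeal.primeCompl
  have hk : RingHom.ker (F.stalkMap p).hom = Ideal.ofList (rs.map (M.presheaf.germ U (F p) hpU).hom) := by
    rw [KoszulLib.ker_stalkMap_eq F p ⟨U, hU⟩ hc hpU, hker', Ideal.map_ofList]
  obtain ⟨r, e⟩ := exists_stalk_push F hE p
  rw [hk] at e
  exact ⟨⟨U, hU⟩, hpU, rs, hc, hrs.toIsWeaklyRegular.of_flat, hker', hlen, r, e⟩

/-- The images of the equations form a regular sequence. -/
theorem isWeaklyRegular_map_eqns [IsLocallyNoetherian Y] {F : P ⟶ M} {φ : Y ⟶ M} {f : X ⟶ Y} {ψ : X ⟶ P}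
    (hsq : IsPullback f ψ φ F) (hf : Mor2.IsRegularClosedImmersion f) {d : ℕ}
    (hcf : FlatMod.IsFinLocFreeOfRank d (Omega.conormal f)) (x : X) (U : M.affineOpens) (hU : φ (f x) ∈ U.1)
    (rs : List Γ(M, U.1)) (hc : IsClosedImmersion (F ∣_ U.1)) (hker : RingHom.ker (F.app U.1).hom = Ideal.ofList rs)
    (hlen : rs.length = d) :
    IsWeaklyRegular (Y.presheaf.stalk (f x))
      ((rs.map (M.presheaf.germ U.1 (φ (f x)) hU).hom).map (φ.stalkMap (f x)).hom) := by
  haveI := hf.1
  obtain ⟨W, hW, hxW, e⟩ := exists_isAffineOpen_mem_and_subset (x := f x) (U := φ ⁻¹ᵁ U.1) hU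
  let B := Y.presheaf.stalk (f x)
  let lB : List B := (rs.map (M.presheaf.germ U.1 (φ (f x)) hU).hom).map (φ.stalkMap (f x)).hom
  obtain ⟨hcW, hkW⟩ := KoszulLib.ker_app_of_isPullback hsq.flip U hc ⟨W, hW⟩ e
  have hlB : Ideal.ofList lB = RingHom.ker (f.stalkMap x).hom := by
    rw [KoszulLib.ker_stalkMap_eq f x ⟨W, hW⟩ hcW hxW, hkW, hker, Ideal.map_ofList, Ideal.map_ofList]
    simp only [lB, List.map_map]
    congr 1
    refine List.map_congr_left fun a _ => ?_
    simp only [Function.comp_apply]
    refine (Scheme.Hom.germ_stalkMap_apply φ U.1 (f x) hU a).trans ?_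
    exact (Y.presheaf.germ_res_apply (homOfLE e) (f x) hxW _).symm
  obtain ⟨V, hV, hxV, rs', hrs', hker'⟩ := hf.2 x
  have hlen' := length_eq_rank f hcf ⟨V, hV⟩ rs' hrs' hker' x hxV
  have hcV : IsClosedImmersion (f ∣_ V) :=
    MorphismProperty.of_isPullback (isPullback_morphismRestrict f V).flip hf.1
  have hk' : RingHom.ker (f.stalkMap x).hom = Ideal.ofList (rs'.map (Y.presheaf.germ V (f x) hxV).hom) := by
    rw [KoszulLib.ker_stalkMap_eq f x ⟨V, hV⟩ hcV hxV, ← Scheme.Hom.ker_apply f ⟨V, hV⟩, hker', Ideal.map_ofList]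
  letI := (Y.presheaf.germ V (f x) hxV).hom.toAlgebra
  haveI := hV.isLocalization_stalk ⟨f x, hxV⟩
  haveI : Module.Flat Γ(Y, V) B := IsLocalization.flat _ (hV.primeIdealOf ⟨f x, hxV⟩).asIdeal.primeCompl
  let l' : List B := rs'.map (Y.presheaf.germ V (f x) hxV).hom
  have hreg : IsWeaklyRegular B l' := hrs'.toIsWeaklyRegular.of_flat
  have hac : Wiebe.Acyclic l'.get := KoszulLib.acyclic_of_isWeaklyRegular' (by rwa [List.ofFn_get])
  have hspan : Ideal.span (Set.range l'.get) = Ideal.span (Set.range lB.get) := by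
    rw [Set.range_list_get, Set.range_list_get]
    exact hk'.symm.trans hlB.symm
  have hll : lB.length ≤ l'.length := by simp [lB, l', hlen, hlen']
  have hmax : ∀ i, lB.get i ∈ IsLocalRing.maximalIdeal B := fun i =>
    IsLocalRing.le_maximalIdeal (RingHom.ker_ne_top _) ((le_of_eq hlB) (Ideal.subset_span (show lB.get i ∈ {r | r ∈ lB} from List.get_mem lB i)))
  have := TorCI.isWeaklyRegular_of_acyclic hmax (KoszulLib.acyclic_of_length_le hac hspan hll)
  rw [List.ofFn_get] at this
  exact this

/-- Pull-back of a resolution. -/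
theorem exists_pull_res [IsLocallyNoetherian Y] {F : P ⟶ M} {φ : Y ⟶ M} {f : X ⟶ Y} {ψ : X ⟶ P}
    (hsq : IsPullback f ψ φ F) (hF : Mor2.IsRegularClosedImmersion F) (hf : Mor2.IsRegularClosedImmersion f) {d : ℕ}
    (hcF : FlatMod.IsFinLocFreeOfRank d (Omega.conormal F)) (hcf : FlatMod.IsFinLocFreeOfRank d (Omega.conormal f))
    {E : P.Modules} (hE : FlatMod.IsFinLocFree E) {n : ℕ} {L : ChainComplex M.Modules ℕ}
    {π : L ⟶ (ChainComplex.single₀ M.Modules).obj ((Scheme.Modules.pushforward F).obj E)}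
    (hL : KRR.IsLFRes ((Scheme.Modules.pushforward F).obj E) n L π) :
    ∃ π' : ((Scheme.Modules.pullback φ).mapHomologicalComplex _).obj L ⟶ (ChainComplex.single₀ Y.Modules).obj
        ((Scheme.Modules.pushforward f).obj ((Scheme.Modules.pullback ψ).obj E)),
      KRR.IsLFRes _ n (((Scheme.Modules.pullback φ).mapHomologicalComplex _).obj L) π' := by
  haveI := hF.1
  haveI := hL.quasiIso
  let G := Scheme.Modules.pullback φ
  haveI : G.IsLeftAdjoint := (Scheme.Modules.pullbackPushforwardAdjunction φ).isLeftAdjoint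
  haveI : PreservesFiniteColimits G := by
    haveI := (Scheme.Modules.pullbackPushforwardAdjunction φ).leftAdjoint_preservesColimits.{0, 0}
    exact inferInstance
  haveI : IsIso (((Scheme.Modules.pullbackPushforwardAdjunction φ).homEquiv _ _).symm
      (W7AffBC.theta hsq.flip E)) :=
    W7AffBC.isIso_baseChange hsq.flip E (LocFree.isQCoh_of_isFinLocFree hE)
  let e : G.obj ((Scheme.Modules.pushforward F).obj E) ≅
      (Scheme.Modules.pushforward f).obj ((Scheme.Modules.pullback ψ).obj E) :=
    asIso (((Scheme.Modules.pullbackPushforwardAdjunction φ).homEquiv _ _).symm (W7AffBC.theta hsq.flip E))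
  have hex : ∀ i, ((G.mapHomologicalComplex _).obj L).ExactAt (i + 1) := fun i => by
    rw [exactAt_iff_isZero_homology]
    refine KFlat.isZero_of_stalks _ fun y => ?_
    refine IsZero.of_iso ?_ ((((G.mapHomologicalComplex _).obj L).sc (i + 1)).mapHomologyIso (St y)).symm
    rw [← ShortComplex.exact_iff_isZero_homology]
    let A := M.presheaf.stalk (φ y)
    let Q : ProjectiveResolution ((St (φ y)).obj ((Scheme.Modules.pushforward F).obj E)) :=
      { complex := ((St (φ y)).mapHomologicalComplex _).obj L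
        projective := fun k => projective_stalk (hL.finLocFree k) (φ y)
        π := ((St (φ y)).mapHomologicalComplex _).map π ≫
          ((HomologicalComplex.singleMapHomologicalComplex (St (φ y)) _ 0).app _).hom }
    have key : ∃ (l : List A) (r : ℕ), IsWeaklyRegular A l ∧
        IsWeaklyRegular (Y.presheaf.stalk y) (l.map (φ.stalkMap y).hom) ∧
        Nonempty ((St (φ y)).obj ((Scheme.Modules.pushforward F).obj E) ≅
          ModuleCat.of A (Fin r → A ⧸ Ideal.ofList l)) := by
      by_cases hy : φ y ∈ Set.range F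
      · obtain ⟨x, rfl⟩ : y ∈ Set.range f := by
          obtain ⟨z, hz⟩ := (Scheme.Pullback.range_fst (f := φ) (g := F)).ge (show y ∈ φ ⁻¹' Set.range F from hy)
          refine ⟨hsq.isoPullback.inv z, ?_⟩
          rw [← hz, ← Scheme.Hom.comp_apply, hsq.isoPullback_inv_fst]
        obtain ⟨U, hU, rs, hc, hreg, hker, hlen, r, he⟩ := exists_eqns F hF hcF hE _ hy
        exact ⟨_, r, hreg, isWeaklyRegular_map_eqns hsq hf hcf x U hU rs hc hker hlen, he⟩
      · refine ⟨[], 0, IsWeaklyRegular.nil _ _, IsWeaklyRegular.nil _ _, ⟨?_⟩⟩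
        haveI : Subsingleton ↑(((Scheme.Modules.pushforward F).obj E).presheaf.stalk (φ y)) :=
          KFlat.subsingleton_stalk_push F E hy
        exact (LinearEquiv.ofSubsingleton _ _).toModuleIso
    obtain ⟨l, r, h1, h2, ⟨e⟩⟩ := key
    exact (ShortComplex.exact_iff_of_iso ((L.sc (i + 1)).mapNatIso (KFlat.pullStalkIso φ y))).2
      (exactAt_extend (φ.stalkMap y).hom l h1 h2 r _ e Q i)
  refine ⟨(G.mapHomologicalComplex _).map π ≫
      ((HomologicalComplex.singleMapHomologicalComplex G _ 0).app _).hom ≫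
      (ChainComplex.single₀ Y.Modules).map e.hom,
    fun i => DerPerf.isFinLocFree_pullback φ (hL.finLocFree i), fun i hi => G.map_isZero (hL.isZero i hi), ?_⟩
  suffices QuasiIso ((G.mapHomologicalComplex _).map π) by infer_instance
  refine ⟨fun i => ?_⟩
  cases i with
  | succ k =>
    exact (quasiIsoAt_iff_exactAt' _ _ ((exactAt_iff_isZero_homology _ _).2
      (ShortComplex.isZero_homology_of_isZero_X₂ _ (G.map_isZero
        (HomologicalComplex.isZero_single_obj_X _ _ _ _ (Nat.succ_ne_zero k)))))).2 (hex k)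
  | zero =>
    have hq : QuasiIsoAt π 0 := inferInstance
    rw [ChainComplex.quasiIsoAt₀_iff, ShortComplex.quasiIso_iff_of_zeros'] at hq
    rotate_left
    · exact L.shape _ _ (by simp)
    · rfl
    · rfl
    rw [ChainComplex.quasiIsoAt₀_iff, ShortComplex.quasiIso_iff_of_zeros']
    rotate_left
    · exact ((G.mapHomologicalComplex _).obj L).shape _ _ (by simp)
    · exact G.map_zero _ _
    · exact G.map_zero _ _
    obtain ⟨h1, h2⟩ := hq
    haveI := h2
    haveI : Epi (π.f 0) := h2
    exact ⟨h1.map_of_epi_of_preservesCokernel G ‹_› inferInstance, G.map_epi (π.f 0)⟩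

end Groth.Agent.K0ResLF
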