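import Groth.Agent.KRRLam.RRProj

/-!
Riemann–Roch for the elementary projection, with a nilpotent augmentation ideal.
-/

universe u

open Finset LambdaRing Polynomial

namespace Groth.Agent.K0ResLF.RR

open Groth.Agent.Lambda
open Groth.Agent.KRRLam hiding isNilpotent_line_of_split rr_elementary

section Lambda

variable {K : Type u} [CommRing K] [LambdaOps K] {P : PosStructure K}

theorem isNilpotent_line_of_split (hN : ∀ y, P.aug y = 0 → IsNilpotent y) {L : Type u} [CommRing L]
    [LambdaOps L] {Q : PosStructure L} {f : K →+* L} (hf : IsExtension P Q f) {e : K}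
    {s : Multiset L} (hs1 : ∀ u ∈ s, Q.IsLine u) (hs2 : s.sum = f e) (hcard : (s.card : ℤ) = P.aug e)
    {v : L} (hv : v ∈ s) : IsNilpotent (v - 1) := by
  set t := s.map (· - 1) with ht
  set y := e - (P.aug e : K)
  have hy : P.aug y = 0 := by simp [y]
  have hg : ∀ i, t.esymm i = f (gamma i y) := fun i => by
    rw [map_gamma hf.isLambdaHom, map_sub, map_intCast, ← hs2, ← hcard, Int.cast_natCast,
      gamma_sum_lines hs1]
  have hz : v - 1 ∈ t := Multiset.mem_map_of_mem _ hv
  have h0 : ((t.map fun a => X - C a).prod).eval (v - 1) = 0 := by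
    obtain ⟨t', ht'⟩ := Multiset.exists_cons_of_mem hz
    rw [ht', Multiset.map_cons, Multiset.prod_cons, eval_mul]
    simp
  rw [Multiset.prod_X_sub_X_eq_sum_esymm, eval_finsetSum, Finset.sum_range_succ'] at h0
  simp only [eval_mul, eval_pow, eval_neg, eval_one, eval_C, eval_X, pow_zero, one_mul,
    Nat.sub_zero, esymm_zero'] at h0
  refine IsNilpotent.of_pow (m := t.card) ?_
  rw [eq_neg_of_add_eq_zero_right h0]
  refine IsNilpotent.neg ((mem_nilradical (R := L)).mp (sum_mem fun k _ => ?_))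
  refine Ideal.mul_mem_left _ _ (Ideal.mul_mem_right _ _ ?_)
  rw [mem_nilradical, hg]
  refine (hN _ ?_).map f
  have hz0 : Q.aug (t.esymm (k + 1)) = 0 := by
    rw [map_esymm', ht, Multiset.map_map,
      Multiset.map_congr rfl (fun u hu => show (Q.aug ∘ fun x => x - 1) u = 0 by simp [(hs1 u hu).2]),
      Multiset.esymm]
    refine Multiset.sum_eq_zero fun x hx => ?_
    obtain ⟨w, hw, rfl⟩ := Multiset.mem_map.mp hx
    obtain ⟨hle, hc⟩ := Multiset.mem_powersetCard.mp hw
    obtain ⟨c, hc0⟩ := Multiset.card_pos_iff_exists_mem.mp (show 0 < w.card by omega)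
    refine Multiset.prod_eq_zero ?_
    obtain ⟨_, _, h⟩ := Multiset.mem_map.mp (Multiset.mem_of_le hle hc0)
    exact h ▸ hc0
  rw [← hf.aug_comp, ← hg]
  exact hz0

end Lambda

section Main

open TensorProduct

variable {K : Type u} [CommRing K] [LambdaOps K] {P : PosStructure K} {e : K} {r : ℕ}

set_option maxHeartbeats 1000000 in
theorem rr_elementary (hK : HasSplitting K P) (he : e ∈ P.pos) (hr : P.aug e = r + 1)
    [LambdaOps (AdjoinRoot (KRR.extPoly P e))] (Pe : PosStructure (AdjoinRoot (KRR.extPoly P e)))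
    (hext : IsExtension P Pe (AdjoinRoot.of (KRR.extPoly P e)))
    (hline : Pe.IsLine (AdjoinRoot.root (KRR.extPoly P e))) (hsplit : HasSplitting _ Pe)
    (hN : ∀ y, Pe.aug y = 0 → IsNilpotent y)
    (f : AdjoinRoot (KRR.extPoly P e) →ₗ[K] K)
    (hf : ∀ i : ℕ, i ≤ r → f (AdjoinRoot.root (KRR.extPoly P e) ^ i) = KRR.sigma i e)
    (linv : AdjoinRoot (KRR.extPoly P e)) (hlinv : linv * AdjoinRoot.root (KRR.extPoly P e) = 1)
    (j : ℕ) (hj : 1 ≤ j) (R : Type) [CommRing R] [Module.Flat ℤ R] (hjR : IsUnit (j : R)) :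
    (∃ w : R ⊗[ℤ] AdjoinRoot (KRR.extPoly P e),
      w * ((1 : R) ⊗ₜ[ℤ] KRR.bott Pe j (AdjoinRoot.of (KRR.extPoly P e) e * linv)) = 1) ∧
    ∀ w : R ⊗[ℤ] AdjoinRoot (KRR.extPoly P e),
      w * ((1 : R) ⊗ₜ[ℤ] KRR.bott Pe j (AdjoinRoot.of (KRR.extPoly P e) e * linv)) = 1 →
      ∀ x : AdjoinRoot (KRR.extPoly P e),
        (1 : R) ⊗ₜ[ℤ] adams P j (f x) =
          LinearMap.lTensor R f.toAddMonoidHom.toIntLinearMap
            ((j : R ⊗[ℤ] AdjoinRoot (KRR.extPoly P e)) * w *
              ((1 : R) ⊗ₜ[ℤ] adams Pe j x)) := by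
  set ι := AdjoinRoot.of (KRR.extPoly P e) with hι
  have hauginv : Pe.aug linv = 1 := by
    have := congrArg Pe.aug hlinv
    rwa [map_mul, hline.2, mul_one, map_one] at this
  have haugy : (Pe.aug (ι e * linv)).toNat = r + 1 := by
    rw [map_mul, hauginv, mul_one, hext.aug_comp, hr]
    omega
  have hlam : ∀ k, LambdaOps.lam k (ι e * linv) = ι (LambdaOps.lam k e) * linv ^ k := fun k => by
    have h := lam_mul_line hsplit hline (ι e * linv) k
    rw [mul_assoc, hlinv, mul_one, ← hext.isLambdaHom] at h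
    calc LambdaOps.lam k (ι e * linv)
        = LambdaOps.lam k (ι e * linv) * (AdjoinRoot.root (KRR.extPoly P e) * linv) ^ k := by
          rw [mul_comm (AdjoinRoot.root (KRR.extPoly P e)) linv, hlinv, one_pow, mul_one]
      _ = _ := by rw [mul_pow, ← mul_assoc, ← h]
  refine ⟨?_, ?_⟩
  · -- `θ^j` differs from `j^(r+1)` by a nilpotent
    have haug : Pe.aug (KRR.bott Pe j (ι e * linv)) = (j : ℤ) ^ (r + 1) := by
      rw [KRR.bott, haugy, map_aeval_int]
      have h1 : (fun i : Fin (r + 1) => Pe.aug (LambdaOps.lam (i.1 + 1) (ι e * linv))) = fun i =>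
          MvPolynomial.aeval (fun _ : Fin (r + 1) => (1 : ℤ)) (MvPolynomial.esymm (Fin (r + 1)) ℤ (i.1 + 1)) := by
        funext i
        obtain ⟨L, φ, hφ, -, s, hs1, hs2, hcard⟩ := exists_split hK he
        rw [hlam, map_mul, map_pow, hauginv, one_pow, mul_one, hext.aug_comp, ← hφ.aug_comp,
          hφ.isLambdaHom, ← hs2, lam_sum_lines hs1, map_esymm',
          Multiset.map_congr rfl (fun u hu => (hs1 u hu).2), MvPolynomial.aeval_esymm_eq_multiset_esymm]
        congr 1
        have hc : s.card = r + 1 := by exact_mod_cast hcard.trans hr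
        simp [Multiset.map_const', hc]
      rw [h1, ← MvPolynomial.comp_aeval_apply]
      have key : MvPolynomial.aeval (fun i : Fin (r + 1) =>
          MvPolynomial.esymm (Fin (r + 1)) ℤ (i.1 + 1)) (KRR.bottPoly j (r + 1)) = KRR.bottSym j (r + 1) := by
        rw [KRR.bottPoly, ← MvPolynomial.esymmAlgHom_apply]
        exact congrArg Subtype.val (AlgEquiv.apply_symm_apply
          (MvPolynomial.esymmAlgEquiv (Fin (r + 1)) ℤ (Fintype.card_fin _)) _)
      rw [key, KRR.bottSym]
      simp [map_prod, map_sum]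
    have hnil : IsNilpotent (KRR.bott Pe j (ι e * linv) - ((j ^ (r + 1) : ℕ) : AdjoinRoot (KRR.extPoly P e))) :=
      hN _ (by rw [map_sub, haug, map_natCast]; push_cast; ring)
    have hnil' := hnil.map
      (Algebra.TensorProduct.includeRight (R := ℤ) (A := R) (B := AdjoinRoot (KRR.extPoly P e)))
    have hu : IsUnit (((j ^ (r + 1) : ℕ) : R ⊗[ℤ] AdjoinRoot (KRR.extPoly P e))) := by
      have := (hjR.pow (r + 1)).map (Algebra.TensorProduct.includeLeftRingHom (R := ℤ) (A := R)
        (B := AdjoinRoot (KRR.extPoly P e)))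
      rw [← Nat.cast_pow, map_natCast] at this
      exact this
    have h := hnil'.isUnit_add_left_of_commute hu (Commute.all _ _)
    rw [map_sub, map_natCast, add_sub_cancel] at h
    obtain ⟨w, hw⟩ := h.exists_left_inv
    exact ⟨w, hw⟩
  intro w hw x
  obtain ⟨L, φ, hφ, hL, s, hs1, hs2, hcard⟩ := exists_split hK he
  have hNK : ∀ y, P.aug y = 0 → IsNilpotent y := fun y hy => by
    obtain ⟨N, hy'⟩ := hN (ι y) (by rw [hext.aug_comp, hy])
    exact ⟨N, hext.injective (by rw [map_pow, hy', map_zero])⟩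
  obtain ⟨u, hu⟩ : ∃ u : Fin (r + 1) → L.carrier, emult u = s := by
    have hlen : s.toList.length = r + 1 := by
      rw [Multiset.length_toList]; exact_mod_cast hcard.trans hr
    refine ⟨fun i => s.toList[i.1]'(by omega), ?_⟩
    rw [emult, Fin.univ_val_map]
    conv_rhs => rw [← Multiset.coe_toList s]
    congr 1
    exact List.ext_getElem (by rw [List.length_ofFn, hlen]) fun n h1 h2 => by rw [List.getElem_ofFn]
  have hmem : ∀ m, u m ∈ s := fun m => hu ▸ Multiset.mem_map_of_mem _ (Finset.mem_univ_val m)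
  let g : L.carrier →+* R ⊗[ℤ] L.carrier :=
    (Algebra.TensorProduct.includeRight (R := ℤ) (A := R) (B := L.carrier)).toRingHom
  let gK := g.comp φ
  let u' := fun m => g (u m)
  have hesymm : ∀ k, gK (LambdaOps.lam k e) = (emult u').esymm k := fun k => by
    rw [RingHom.comp_apply, hφ.isLambdaHom, ← hs2, lam_sum_lines hs1, map_esymm', ← hu, emult_map]
  have hsig : ∀ k, φ (KRR.sigma k e) = hc u k := by
    refine hc_unique u (fun k => φ (KRR.sigma k e)) fun i => ?_
    have h := congrArg φ (sum_lam_mul_sigma e i)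
    simp only [map_sum, map_mul, map_pow, map_neg, map_one] at h
    rw [hu]
    convert h using 1
    · exact Finset.sum_congr rfl fun k _ => by rw [hφ.isLambdaHom, ← hs2, lam_sum_lines hs1]
    · split_ifs <;> simp
  have hsig' : ∀ k, gK (KRR.sigma k e) = hc u' k := fun k => by
    rw [RingHom.comp_apply, hsig, map_hc]
  have hp : (KRR.extPoly P e).map gK = rootPoly u' := by
    rw [extPoly_eq hr, rootPoly_eq, Polynomial.map_sum]
    refine Finset.sum_congr rfl fun k _ => ?_
    rw [Polynomial.map_mul, Polynomial.map_pow, map_X, map_C, map_mul gK, map_pow gK, map_neg, map_one,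
      hesymm]
  -- units
  have hjA : IsUnit (j : R ⊗[ℤ] L.carrier) := by
    have := hjR.map (Algebra.TensorProduct.includeLeftRingHom (R := ℤ) (A := R) (B := L.carrier))
    rwa [map_natCast] at this
  have hnilu : ∀ m, IsNilpotent (u' m - 1) := fun m => by
    have := (isNilpotent_line_of_split hNK hφ hs1 hs2 hcard (hmem m)).map g
    rwa [map_sub, map_one] at this
  have huu : ∀ m, IsUnit (u' m) := fun m => by
    have := (hnilu m).isUnit_add_one
    rwa [sub_add_cancel] at this
  have hS : ∀ k m, IsUnit (∑ a ∈ range j, u' k ^ a * u' m ^ (j - 1 - a)) := fun k m => by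
    have hn : IsNilpotent (∑ a ∈ range j, (u' k ^ a * u' m ^ (j - 1 - a) - 1)) := by
      refine (mem_nilradical (R := R ⊗[ℤ] L.carrier)).mp (sum_mem fun a _ => ?_)
      rw [← Ideal.Quotient.eq_zero_iff_mem]
      have h1 : ∀ m, Ideal.Quotient.mk (nilradical (R ⊗[ℤ] L.carrier)) (u' m) = 1 := fun m => by
        rw [← map_one (Ideal.Quotient.mk _), Ideal.Quotient.eq, mem_nilradical]
        exact hnilu m
      simp [h1]
    have h := hn.isUnit_add_left_of_commute hjA (Commute.all _ _)
    rwa [Finset.sum_sub_distrib, Finset.sum_const, Finset.card_range, nsmul_one, add_sub_cancel] at h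
  -- base change of `K_e`
  let ofA := AdjoinRoot.of (rootPoly u')
  let Ψ₁ : AdjoinRoot (KRR.extPoly P e) →+* AdjoinRoot (rootPoly u') :=
    AdjoinRoot.lift (ofA.comp gK) (AdjoinRoot.root (rootPoly u')) (by
      rw [← eval₂_map, hp]
      exact AdjoinRoot.eval₂_root _)
  have hΨ₁ : ∀ q : K[X], Ψ₁ (AdjoinRoot.mk _ q) = AdjoinRoot.mk (rootPoly u') (q.map gK) := fun q => by
    induction q using Polynomial.induction_on' with
    | add p q hp hq => rw [map_add, map_add, hp, hq, Polynomial.map_add, map_add]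
    | monomial k a =>
      rw [← C_mul_X_pow_eq_monomial, map_mul, map_pow, AdjoinRoot.mk_C, AdjoinRoot.mk_X, map_mul,
        map_pow, AdjoinRoot.lift_of, AdjoinRoot.lift_root, Polynomial.map_mul, Polynomial.map_pow, map_C,
        map_X, map_mul, map_pow, AdjoinRoot.mk_C, AdjoinRoot.mk_X]
      rfl
  let Ψa : R →ₐ[ℤ] AdjoinRoot (rootPoly u') :=
    { ofA.comp (Algebra.TensorProduct.includeLeftRingHom (R := ℤ) (A := R) (B := L.carrier)) with
      commutes' := fun n => by simp }
  let Ψb : AdjoinRoot (KRR.extPoly P e) →ₐ[ℤ] AdjoinRoot (rootPoly u') :=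
    { Ψ₁ with commutes' := fun n => by simp }
  haveI : IsScalarTower ℤ ℤ (AdjoinRoot (rootPoly u')) :=
    ⟨fun a b c => by rw [smul_eq_mul, mul_smul]⟩
  let Ψ : R ⊗[ℤ] AdjoinRoot (KRR.extPoly P e) →ₐ[ℤ] AdjoinRoot (rootPoly u') :=
    Algebra.TensorProduct.lift Ψa Ψb fun _ _ => Commute.all _ _
  have hΨt : ∀ c y, Ψ (c ⊗ₜ[ℤ] y) = ofA (c ⊗ₜ[ℤ] (1 : L.carrier)) * Ψ₁ y := fun c y =>
    Algebra.TensorProduct.lift_tmul _ _ _ c y
  have hbridge : ∀ z : R ⊗[ℤ] AdjoinRoot (KRR.extPoly P e), ∀ q : (R ⊗[ℤ] L.carrier)[X],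
      AdjoinRoot.mk (rootPoly u') q = Ψ z →
        LinearMap.lTensor R φ.toAddMonoidHom.toIntLinearMap
          (LinearMap.lTensor R f.toAddMonoidHom.toIntLinearMap z) = ev u' q := by
    intro z
    induction z using TensorProduct.induction_on with
    | zero =>
      intro q hq
      rw [map_zero, map_zero, ← map_zero (ev u')]
      exact ev_congr (Nat.succ_pos r) (by rw [hq, map_zero, map_zero])
    | add a b ha hb =>
      intro q hq
      obtain ⟨qa, hqa⟩ := AdjoinRoot.mk_surjective (Ψ a)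
      obtain ⟨qb, hqb⟩ := AdjoinRoot.mk_surjective (Ψ b)
      rw [map_add, map_add, ha qa hqa, hb qb hqb, ← map_add]
      exact ev_congr (Nat.succ_pos r) (by rw [hq, map_add, map_add, hqa, hqb])
    | tmul c y =>
      intro q hq
      obtain ⟨g₀, rfl⟩ := AdjoinRoot.mk_surjective y
      have heq : ev u' q = ev u' (C (c ⊗ₜ[ℤ] (1 : L.carrier)) * g₀.map gK) := by
        refine ev_congr (Nat.succ_pos r) ?_
        rw [hq, hΨt, map_mul, AdjoinRoot.mk_C]
        congr 1
        exact hΨ₁ g₀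
      rw [heq, LinearMap.lTensor_tmul, LinearMap.lTensor_tmul]
      clear hq heq
      induction g₀ using Polynomial.induction_on' with
      | add p q hp hq =>
        rw [map_add, map_add, map_add, tmul_add, hp, hq, Polynomial.map_add, mul_add, map_add]
      | monomial k a =>
        rw [← C_mul_X_pow_eq_monomial, Polynomial.map_mul, Polynomial.map_pow, map_C, map_X, ← mul_assoc,
          ← C_mul, ev_C_mul_X_pow, ← hsig' k, map_mul, map_pow, AdjoinRoot.mk_C, AdjoinRoot.mk_X]
        change c ⊗ₜ[ℤ] φ (f (ι a * AdjoinRoot.root (KRR.extPoly P e) ^ k)) = _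
        rw [map_of_mul, functional_root_pow he hr f hf, map_mul]
        simp [gK, g, Algebra.TensorProduct.tmul_mul_tmul]
  obtain ⟨W, hW⟩ := AdjoinRoot.mk_surjective (Ψ w)
  obtain ⟨L₀, hL₀⟩ := AdjoinRoot.mk_surjective linv
  set L₁ := L₀.map gK with hL₁
  have hL' : AdjoinRoot.mk (rootPoly u') (L₁ * X) = 1 := by
    have h := congrArg Ψ₁ hlinv
    rw [map_mul, map_one, AdjoinRoot.lift_root, ← hL₀, hΨ₁] at h
    rw [map_mul, AdjoinRoot.mk_X]
    exact h
  have hθ : Ψ₁ (KRR.bott Pe j (ι e * linv)) = AdjoinRoot.mk (rootPoly u') (thetaPoly j u' L₁) := by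
    rw [KRR.bott, haugy, map_aeval_int]
    have h1 : (fun i : Fin (r + 1) => Ψ₁ (LambdaOps.lam (i.1 + 1) (ι e * linv))) = fun i =>
        MvPolynomial.aeval (fun m => AdjoinRoot.mk (rootPoly u') (C (u' m) * L₁))
          (MvPolynomial.esymm (Fin (r + 1)) ℤ (i.1 + 1)) := by
      funext i
      rw [hlam, map_mul, map_pow, AdjoinRoot.lift_of, RingHom.comp_apply, hesymm, ← hL₀, hΨ₁,
        map_esymm', MvPolynomial.aeval_esymm_eq_multiset_esymm, mul_comm, ← smul_eq_mul,
        Multiset.pow_smul_esymm]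
      congr 1
      simp [emult, Multiset.map_map, Function.comp_def, ofA, mul_comm, hL₁]
    rw [h1, ← MvPolynomial.comp_aeval_apply]
    have key : MvPolynomial.aeval (fun i : Fin (r + 1) =>
        MvPolynomial.esymm (Fin (r + 1)) ℤ (i.1 + 1)) (KRR.bottPoly j (r + 1)) = KRR.bottSym j (r + 1) := by
      rw [KRR.bottPoly, ← MvPolynomial.esymmAlgHom_apply]
      exact congrArg Subtype.val (AlgEquiv.apply_symm_apply
        (MvPolynomial.esymmAlgEquiv (Fin (r + 1)) ℤ (Fintype.card_fin _)) _)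
    rw [key, KRR.bottSym, thetaPoly]
    simp [map_prod, map_sum]
  have hW' : AdjoinRoot.mk (rootPoly u') (W * thetaPoly j u' L₁) = 1 := by
    have h := congrArg Ψ hw
    rw [map_mul Ψ, map_one Ψ, ← hW, hΨt, ← Algebra.TensorProduct.one_def, map_one, one_mul] at h
    rw [map_mul, ← hθ]
    exact h
  have hflat : Function.Injective (LinearMap.lTensor R φ.toAddMonoidHom.toIntLinearMap) := by
    exact Module.Flat.lTensor_preserves_injective_linearMap _ hφ.injective
  obtain ⟨g₀, rfl⟩ := AdjoinRoot.mk_surjective x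
  let ψe := adamsHom j hj (adamsOp_one_pos Pe hj) (adamsOp_mul_pos hsplit hj)
  let ψK := adamsHom j hj (adamsOp_one_pos P hj) (adamsOp_mul_pos hK hj)
  let ψL := adamsHom j hj (adamsOp_one_pos L.posStr hj) (adamsOp_mul_pos hL hj)
  rw [adams_eq P hj, adams_eq Pe hj]
  change (1 : R) ⊗ₜ[ℤ] ψK (f (AdjoinRoot.mk _ g₀)) = LinearMap.lTensor R f.toAddMonoidHom.toIntLinearMap
    ((j : R ⊗[ℤ] AdjoinRoot (KRR.extPoly P e)) * w * ((1 : R) ⊗ₜ[ℤ] ψe (AdjoinRoot.mk _ g₀)))
  induction g₀ using Polynomial.induction_on' with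
  | add p q hp hq => simp only [map_add, tmul_add, hp, hq, mul_add]
  | monomial i a =>
    apply hflat
    have hψe : ψe (AdjoinRoot.mk _ (monomial i a)) =
        ι (ψK a) * AdjoinRoot.root (KRR.extPoly P e) ^ (i * j) := by
      rw [← C_mul_X_pow_eq_monomial, map_mul, map_pow, AdjoinRoot.mk_C, AdjoinRoot.mk_X, map_mul,
        map_pow, show ψe (AdjoinRoot.root (KRR.extPoly P e)) = AdjoinRoot.root (KRR.extPoly P e) ^ j from
          adamsOp_line hline hj, ← pow_mul, mul_comm j i]
      congr 1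
      exact (map_adamsOp hext.isLambdaHom j a).symm
    have hψf : gK (ψK (f (AdjoinRoot.mk _ (monomial i a)))) =
        gK (ψK a) * hc (fun m => u' m ^ j) i := by
      rw [← C_mul_X_pow_eq_monomial, map_mul, map_pow, AdjoinRoot.mk_C, AdjoinRoot.mk_X, map_of_mul,
        functional_root_pow he hr f hf, map_mul, map_mul]
      congr 1
      rw [RingHom.comp_apply, show φ (ψK (KRR.sigma i e)) = ψL (φ (KRR.sigma i e)) from
        map_adamsOp hφ.isLambdaHom j _, hsig, map_hc, map_hc]
      congr 1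
      funext m
      rw [show ψL (u m) = u m ^ j from adamsOp_line (hs1 _ (hmem m)) hj, map_pow]
    rw [hψe]
    have hq : AdjoinRoot.mk (rootPoly u')
        (C ((j : R ⊗[ℤ] L.carrier) * gK (ψK a)) * (W * X ^ (i * j))) =
        Ψ ((j : R ⊗[ℤ] AdjoinRoot (KRR.extPoly P e)) * w *
          ((1 : R) ⊗ₜ[ℤ] (ι (ψK a) * AdjoinRoot.root (KRR.extPoly P e) ^ (i * j)))) := by
      rw [map_mul Ψ, map_mul Ψ, map_natCast Ψ, hΨt, ← Algebra.TensorProduct.one_def, map_one, one_mul]
      rw [map_mul Ψ₁, map_pow Ψ₁, AdjoinRoot.lift_of, AdjoinRoot.lift_root, RingHom.comp_apply,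
        ← hW]
      simp only [map_mul, map_pow, map_natCast, AdjoinRoot.mk_C, AdjoinRoot.mk_X, ofA, gK, RingHom.comp_apply]
      ring
    rw [hbridge _ _ hq, ← smul_eq_C_mul, map_smul, smul_eq_mul, LinearMap.lTensor_tmul]
    change gK (ψK (f (AdjoinRoot.mk _ (monomial i a)))) = _
    rw [hψf, mul_assoc, mul_left_comm,
      univ_identity u' hj hjA huu hS L₁ W hL' hW' i]

end Main

end Groth.Agent.K0ResLF.RR
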