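import Groth.Agent.RDerLib.LES
import Groth.Agent.K0Coh.Basic
import Groth.Agent.CohFinite.RPushCoh
import Groth.Agent.K0Res.Main
import Groth.Agent.PnReg.KPush
import Groth.Agent.PnReg.Main
import Groth.Agent.CohQC.RpushModules
import Groth.Prelude.Def_KRR

/-!
The Euler characteristic of the higher direct images on classes of coherent modules.
-/

set_option autoImplicit false
set_option linter.style.haveILetI false
set_option backward.isDefEq.respectTransparency false
set_option backward.isDefEq.respectTransparency.types false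
set_option maxHeartbeats 1000000

universe u

open CategoryTheory CategoryTheory.Limits AlgebraicGeometry TopologicalSpace Opposite

noncomputable section

namespace Groth.Agent.K0ResLF

/-- The class of a coherent module. -/
abbrev clK {Y : Scheme.{u}} (M : Y.Modules) : SGA6.Kcoh Y := KZero.clSub (fun M : Y.Modules => Coh.IsCoh M) M

theorem clK_iso {Y : Scheme.{u}} [IsLocallyNoetherian Y] {M N : Y.Modules} (e : M ≅ N) (h : Coh.IsCoh M) : clK M = clK N :=
  PnReg.clSub_iso (fun M : Y.Modules => Coh.IsCoh M) e h (K0Coh.isCoh_of_iso e h) fun _ hM => K0Coh.isCoh_of_isZero hM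

theorem clK_zero {Y : Scheme.{u}} [IsLocallyNoetherian Y] {M : Y.Modules} (hz : IsZero M) : clK M = 0 := by
  have hf := K0Coh.isCoh_of_isZero hz
  have h1 : (ShortComplex.mk (0 : M ⟶ M) (0 : M ⟶ M) zero_comp).ShortExact :=
    { exact := ShortComplex.exact_of_isZero_X₂ _ hz
      mono_f := ⟨fun _ _ _ => hz.eq_of_tgt _ _⟩
      epi_g := ⟨fun _ _ _ => hz.eq_of_src _ _⟩ }
  exact left_eq_add.1 (K0Res.clSub_add (fun M : Y.Modules => Coh.IsCoh M) h1 hf hf hf)

theorem kerSeq_exact {C : Type*} [Category C] [Abelian C] (S : ShortComplex C) (hS : S.Exact) :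
    (ShortComplex.mk (kernel.ι S.f) S.f (kernel.condition _)).Exact ∧
      (ShortComplex.mk (Abelian.factorThruImage S.f ≫ Abelian.image.ι S.f) S.g
        (by rw [Abelian.image.fac, S.zero])).Exact :=
  ⟨ShortComplex.exact_kernel S.f, by
    refine (ShortComplex.exact_iff_of_iso ?_).2 hS
    exact ShortComplex.isoMk (Iso.refl _) (Iso.refl _) (Iso.refl _) (by simp) (by simp)⟩

/-- In an exact sequence of coherent modules the middle class splits through the kernels. -/
theorem clK_exact {Y : Scheme.{u}} [IsLocallyNoetherian Y] (S : ShortComplex Y.Modules) (hS : S.Exact)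
    (h₁ : Coh.IsCoh S.X₁) (h₂ : Coh.IsCoh S.X₂) (h₃ : Coh.IsCoh S.X₃) :
    clK (kernel S.g) + clK (kernel S.f) = clK S.X₁ := by
  haveI := hS.epi_kernelLift
  let p : S.X₁ ⟶ kernel S.g := kernel.lift S.g S.f S.zero
  haveI : Epi p := hS.epi_kernelLift
  have hse : (ShortComplex.mk (kernel.ι p) p (kernel.condition p)).ShortExact :=
    { exact := ShortComplex.exact_kernel p
      mono_f := inferInstanceAs (Mono (kernel.ι p))
      epi_g := inferInstanceAs (Epi p) }
  have hk : Coh.IsCoh (kernel S.g) := QC.isCoh_kernel h₂ h₃.1 S.g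
  have hkp : Coh.IsCoh (kernel p) := QC.isCoh_kernel h₁ hk.1 p
  let e : kernel p ≅ kernel S.f :=
    (kernelCompMono p (kernel.ι S.g)).symm ≪≫ kernelIsoOfEq (kernel.lift_ι S.g S.f S.zero)
  rw [← clK_iso e hkp, add_comm]
  exact (K0Res.clSub_add (fun M : Y.Modules => Coh.IsCoh M) hse hkp h₁ hk).symm

section Chi

variable {P Y : Scheme.{u}} [IsLocallyNoetherian Y] (p : P ⟶ Y) [IsProper p] [HasInjectiveResolutions P.Modules]

/-- The alternating sum of the higher direct images. -/
def chiObj (M : ℕ) (F : P.Modules) : SGA6.Kcoh Y :=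
  ∑ q ∈ Finset.range (M + 1), (-1 : ℤ) ^ q • clK ((Coh.Rpush p q).obj F)

theorem chiObj_add {M : ℕ} (hM : ∀ F : P.Modules, Coh.IsCoh F → ∀ q, M < q → IsZero ((Coh.Rpush p q).obj F))
    {S : ShortComplex P.Modules} (hS : S.ShortExact) (h₁ : Coh.IsCoh S.X₁) (h₂ : Coh.IsCoh S.X₂) (h₃ : Coh.IsCoh S.X₃) :
    chiObj p M S.X₂ = chiObj p M S.X₁ + chiObj p M S.X₃ := by
  let T := RDerLib.res hS
  let R := fun (q : ℕ) => Coh.Rpush p q
  have hc : ∀ (q : ℕ) {F : P.Modules}, Coh.IsCoh F → Coh.IsCoh ((R q).obj F) := fun q F hF =>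
    CohFinite.isCoh_rpush p F hF q
  let e : ℕ → SGA6.Kcoh Y := fun q => clK (kernel ((R q).map S.f))
  have step : ∀ q, clK ((R q).obj S.X₂) + e q + e (q + 1) = clK ((R q).obj S.X₁) + clK ((R q).obj S.X₃) := by
    intro q
    have x1 := clK_exact _ (RDerLib.exact₂ (Coh.push p) T q) (hc q h₁) (hc q h₂) (hc q h₃)
    have x2 := clK_exact _ (RDerLib.exact₃ (Coh.push p) T q (q + 1) rfl) (hc q h₂) (hc q h₃) (hc (q + 1) h₁)
    have x3 := clK_exact _ (RDerLib.exact₁ (Coh.push p) T q (q + 1) rfl) (hc q h₃) (hc (q + 1) h₁) (hc (q + 1) h₂)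
    simp only [R, e]
    rw [← x1, ← x2, ← x3]
    abel
  haveI : PreservesFiniteLimits (Coh.push p) := by
    haveI : PreservesLimitsOfSize.{0, 0} (Coh.push p) :=
      (Scheme.Modules.pullbackPushforwardAdjunction p).rightAdjoint_preservesLimits
    infer_instance
  have he0 : e 0 = 0 := by
    haveI : Mono ((R 0).map S.f) := by
      haveI := hS.mono_f
      haveI : Mono ((Coh.push p).map S.f) := inferInstance
      haveI : Mono (((Coh.push p).rightDerivedZeroIsoSelf.hom.app S.X₁) ≫ (Coh.push p).map S.f) := mono_comp _ _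
      rw [← (Coh.push p).rightDerivedZeroIsoSelf.hom.naturality S.f] at this
      exact mono_of_mono _ ((Coh.push p).rightDerivedZeroIsoSelf.hom.app S.X₂)
    exact clK_zero (isZero_kernel_of_mono _)
  have heM : e (M + 1) = 0 :=
    clK_zero (IsZero.of_mono (kernel.ι _) (hM _ h₁ _ (Nat.lt_succ_self M)))
  have tel : ∀ k, ∑ q ∈ Finset.range k, (-1 : ℤ) ^ q • (e q + e (q + 1)) = e 0 - (-1 : ℤ) ^ k • e k := by
    intro k
    induction k with
    | zero => simp
    | succ k ih => rw [Finset.sum_range_succ, ih, pow_succ, mul_neg_one, neg_smul, smul_add]; abel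
  have h := tel (M + 1)
  rw [he0, heM, smul_zero, sub_zero] at h
  simp only [chiObj]
  rw [← Finset.sum_add_distrib, ← add_zero (∑ q ∈ _, (-1 : ℤ) ^ q • clK ((Coh.Rpush p q).obj S.X₂)), ← h,
    ← Finset.sum_add_distrib]
  refine Finset.sum_congr rfl fun q _ => ?_
  rw [← smul_add, ← smul_add, ← add_assoc, step q]

/-- The Euler characteristic of the higher direct images on Grothendieck groups. -/
def chi (M : ℕ) (hM : ∀ F : P.Modules, Coh.IsCoh F → ∀ q, M < q → IsZero ((Coh.Rpush p q).obj F)) :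
    SGA6.Kcoh P →+ SGA6.Kcoh Y :=
  PnReg.liftSub (fun F => chiObj p M F.1) fun _ h₁ h₂ h₃ hS => chiObj_add p hM hS h₁ h₂ h₃

theorem chi_cl (M : ℕ) (hM : ∀ F : P.Modules, Coh.IsCoh F → ∀ q, M < q → IsZero ((Coh.Rpush p q).obj F))
    {F : P.Modules} (hF : Coh.IsCoh F) : chi p M hM (clK F) = chiObj p M F :=
  PnReg.liftSub_cl _ _ hF

end Chi

/-- Vanishing of the higher direct images of the modules from those of the abelian sheaves. -/
theorem isZero_rpush_of_ab {X Y : Scheme.{u}} (f : X ⟶ Y) [HasInjectiveResolutions X.Modules] (F : X.Modules)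
    (q : ℕ) (h : IsZero ((Coh.RpushAb f q).obj (Coh.toAb F))) : IsZero ((Coh.Rpush f q).obj F) := by
  obtain ⟨e⟩ := CohQC.toAb_rpush_iso f F q
  rw [IsZero.iff_id_eq_zero]
  exact (SheafOfModules.toSheaf Y.ringCatSheaf).map_injective ((h.of_iso e).eq_of_src _ _)

/-- No higher direct images above the relative dimension. -/
theorem isZero_rpush_pr_above (n : ℕ) (Y : Scheme.{u}) [HasInjectiveResolutions (KRR.PY n Y).Modules]
    (F : (KRR.PY n Y).Modules) (hF : Coh.IsQCoh F) (q : ℕ) (hq : n < q) :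
    IsZero ((Coh.Rpush (KRR.pr n Y) q).obj F) := by
  refine isZero_rpush_of_ab _ F q ((PnReg.isZero_iff F hF q).2 fun V c => ?_)
  exact PnReg.hh_above _ (c.isQCoh hF) q hq

end Groth.Agent.K0ResLF
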