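import Groth.Agent.K0ResLF.EnoughPn
import Groth.Agent.K0ResLF.PnBC
import Groth.Agent.PnReg.KReg
import Groth.Agent.PerfPush.Unit
import Groth.Agent.ExtShX.LocFreeSecond

/-!
The push-forward along a section of a projective space followed by the projection is the identity.
-/

set_option autoImplicit false
set_option linter.style.haveILetI false
set_option backward.isDefEq.respectTransparency false
set_option backward.isDefEq.respectTransparency.types false
set_option maxHeartbeats 1000000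

universe v u

open CategoryTheory CategoryTheory.Limits AlgebraicGeometry
open Groth.Agent.PnReg

attribute [local instance] HasDerivedCategory.standard

noncomputable section

namespace Groth.Agent.K0ResLF

variable {n : ℕ} {X : Scheme.{u}}

/-- Twisting keeps short exact sequences exact. -/
theorem shortExact_twF {S : ShortComplex (CohB1.ProjSpaceOver n X).Modules} (hS : S.ShortExact) (m : ℤ) :
    (S.map ((DCoh.tensorBi (X := KRR.PY n X)).obj (Twist.twistOver n X m))).ShortExact := by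
  refine ShortComplex.shortExact_of_iso ?_ (CohFinite.shortExact_tmap (L := Twist.twistOver n X m)
    (PicLoc.isInvertible_pullback _ (CohFinite.isInvertible_twist n _ _)) hS)
  let c := ExtShX.commNat (Twist.twistOver n X m)
  exact (ShortComplex.isoMk (c.app S.X₁) (c.app S.X₂) (c.app S.X₃)
    (c.hom.naturality S.f).symm (c.hom.naturality S.g).symm)

/-- A zero module has class zero. -/
theorem cls_isZero {Y : Scheme.{u}} {O : Y.Modules} (hO : IsZero O) : SGA6Ext.cls O = 0 := by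
  have h : FlatMod.IsFinLocFree O := DQCoh.isFinLocFree_of_isZero hO
  have hz : (ShortComplex.mk (0 : O ⟶ O) (0 : O ⟶ O) zero_comp).ShortExact :=
    { exact := ShortComplex.exact_of_isZero_X₂ _ hO
      mono_f := ⟨fun a b _ => hO.eq_of_tgt a b⟩
      epi_g := ⟨fun a b _ => hO.eq_of_src a b⟩ }
  simpa using K0Res.clSub_add (fun M : Y.Modules => FlatMod.IsFinLocFree M) hz h h h

/-- A telescoping sum along short exact sequences of bundles. -/
theorem cls_telescope {Y : Scheme.{u}} (Z L : ℕ → Y.Modules) (N : ℕ)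
    (hS : ∀ k, k ≤ N → ∃ (f : Z (k + 1) ⟶ L k) (g : L k ⟶ Z k) (h : f ≫ g = 0),
      (ShortComplex.mk f g h).ShortExact)
    (hL : ∀ k, k ≤ N → FlatMod.IsFinLocFree (L k)) (hZ : FlatMod.IsFinLocFree (Z 0)) :
    FlatMod.IsFinLocFree (Z (N + 1)) ∧
      SGA6Ext.cls (Z 0) = (∑ k ∈ Finset.range (N + 1), (-1 : ℤ) ^ k • SGA6Ext.cls (L k)) +
        (-1 : ℤ) ^ (N + 1) • SGA6Ext.cls (Z (N + 1)) := by
  induction N with
  | zero =>
    obtain ⟨f, g, h, hs⟩ := hS 0 le_rfl
    have h1 := K0ResLF.isFinLocFree_left hs (hL 0 le_rfl) hZ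
    refine ⟨h1, ?_⟩
    have := K0Res.clSub_add (fun M : Y.Modules => FlatMod.IsFinLocFree M) hs h1 (hL 0 le_rfl) hZ
    simp only [Finset.sum_range_one, pow_zero, one_smul, zero_add, pow_one, neg_smul]
    exact eq_add_neg_of_add_eq ((add_comm _ _).trans this.symm)
  | succ N ih =>
    obtain ⟨hN, e⟩ := ih (fun k hk => hS k (by omega)) (fun k hk => hL k (by omega))
    obtain ⟨f, g, h, hs⟩ := hS (N + 1) le_rfl
    have h1 := K0ResLF.isFinLocFree_left hs (hL _ le_rfl) hN
    refine ⟨h1, ?_⟩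
    have : SGA6Ext.cls (L (N + 1)) = SGA6Ext.cls (Z (N + 1 + 1)) + SGA6Ext.cls (Z (N + 1)) :=
      K0Res.clSub_add (fun M : Y.Modules => FlatMod.IsFinLocFree M) hs h1 (hL _ le_rfl) hN
    rw [e, Finset.sum_range_succ _ (N + 1), this, pow_succ _ (N + 1), mul_neg_one, neg_smul, smul_add]
    abel

/-- `g_K s_K = id` for a section `s` of `g : P^n_X ⟶ X`. -/
theorem pushPr_pushCl_sect (s : X ⟶ KRR.PY n X) (hs : s ≫ KRR.pr n X = 𝟙 X)
    (hsr : Mor2.IsRegularClosedImmersion s) [IsNoetherian X] [ConnectedSpace ↥X]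
    (hPe : KRR.HasEnoughLocFree (KRR.PY n X))
    {KX : Type v} [CommRing KX] [LambdaRing.LambdaOps KX] {PX : LambdaRing.PosStructure KX}
    {φX : SGA6.Kvb X →+ KX} (hKX : KRR.IsModel X KX PX φX)
    {KP : Type v} [CommRing KP] [LambdaRing.LambdaOps KP] {PP : LambdaRing.PosStructure KP}
    {φP : SGA6.Kvb (KRR.PY n X) →+ KP} (hKP : KRR.IsModel (KRR.PY n X) KP PP φP)
    {gs : KX →+ KP} (hgs : KRR.IsPushCl s φX φP gs) {gp : KP →+ KX} (hgp : KRR.IsPushPr n X φP φX gp) :
    gp.comp gs = AddMonoidHom.id KX := by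
  haveI := hsr.1
  obtain ⟨hNP, hCP⟩ := RR.stable_bunPn (n := n) (Y := X)
  obtain ⟨qX, hqX, -⟩ := S3797.result (KRR.pr n X) KP PP φP hKP KX PX φX hKX
  obtain ⟨sK, hsK, -⟩ := S3797.result s KX PX φX hKX KP PP φP hKP
  have hO : FlatMod.IsFinLocFree (Coh.structureModule X) := PerfPush.isFinLocFree_unit X
  have hres := hasLFRes_push hPe hsr hO
  obtain ⟨N, hN⟩ := exists_pdLT hres.2
  obtain ⟨T, hT, hT0⟩ := K0Res.exists_res (hypCoh hPe) hres.1
  have hTN := isFinLocFree_syzygy hT hT0 hres.1 hN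
  let U := trunc T N
  have hUs : ∀ i, (U i).ShortExact := trunc_shortExact (fun i => (hT i).1) N
  have hUl : ∀ i, (U (i + 1)).X₃ = (U i).X₁ := trunc_link (fun i => (hT i).2.2) N
  obtain ⟨π, hπ⟩ := exists_aug U hUs hUl
  have hU0 : (U 0).X₃ = (Scheme.Modules.pushforward s).obj (Coh.structureModule X) :=
    (trunc_zero_X₃ T N).trans hT0
  have hUZ : ∀ i, Coh.IsCoh (U i).X₃ := by
    intro i
    induction i with
    | zero => exact hU0 ▸ hres.1
    | succ i ih =>
      rw [hUl i]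
      exact isCoh_left (hUs i) (K0Coh.isCoh_of_isFinLocFree (trunc_lf hT hTN i)) ih
  choose mZ hmZ using fun i : Fin (N + 2) => exists_reg_twF_coh (hUZ i.1)
  choose mL hmL using fun i : Fin (N + 2) =>
    exists_reg_twF_coh (K0Coh.isCoh_of_isFinLocFree (trunc_lf hT hTN i.1))
  let m₀ : ℕ := max (Finset.univ.sup mZ) (Finset.univ.sup mL)
  have hgs1 : gs 1 = ∑ k ∈ Finset.range (N + 1), (-1 : ℤ) ^ k • φP (KRR.cl _ (U k).X₂) := by
    rw [← hKX.map_one]
    refine (hgs _ hO N (K0Res.complex U hUl)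
      (π ≫ (ChainComplex.single₀ _).map (eqToHom hU0)) ⟨fun i => trunc_lf hT hTN i, fun i hi => trunc_isZero T hi,
        inferInstance⟩).trans ?_
    rfl
  let a : SGA6.Kvb (KRR.PY n X) →+ KX := gp.comp ((AddMonoidHom.mulLeft (gs 1)).comp φP)
  let c : SGA6.Kvb (KRR.PY n X) →+ KX := sK.comp φP
  let O := Coh.structureModule (KRR.PY n X)
  have hOP : FlatMod.IsFinLocFree O := PerfPush.isFinLocFree_unit _
  let b : ℕ → SGA6.Kvb (KRR.PY n X) := fun k => SGA6Ext.cls (KRR.twF n X (k : ℤ) O)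
  have high : ∀ m : ℕ, m₀ ≤ m → a (b m) = c (b m) := by
    intro m hm
    let Tm := Twist.twistOver n X (m : ℤ)
    have hTm : FlatMod.IsFinLocFree Tm :=
      DQCoh.isFinLocFree_of_iso' (twUnitIso (m : ℤ)) (isFinLocFree_twF _ (PnReg.isFinLocFree_unit _))
    have hbm : b m = SGA6Ext.cls Tm := SGA6Ext.cls_iso (twUnitIso (m : ℤ)) (isFinLocFree_twF _ hOP)
    let G := Scheme.Modules.pushforward (KRR.pr n X)
    let Z : ℕ → X.Modules := fun k => G.obj (KRR.twF n X (m : ℤ) (U k).X₃)
    let L : ℕ → X.Modules := fun k => G.obj (KRR.twF n X (m : ℤ) (U k).X₂)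
    have hrZ : ∀ k, k ≤ N + 1 → KRR.IsRegSheaf n X (KRR.twF n X (m : ℤ) (U k).X₃) := fun k hk =>
      hmZ ⟨k, by omega⟩ m ((Finset.le_sup (Finset.mem_univ _)).trans ((le_max_left _ _).trans hm))
    have hrL : ∀ k, k ≤ N + 1 → KRR.IsRegSheaf n X (KRR.twF n X (m : ℤ) (U k).X₂) := fun k hk =>
      hmL ⟨k, by omega⟩ m ((Finset.le_sup (Finset.mem_univ _)).trans ((le_max_right _ _).trans hm))
    let e : Z 0 ≅ (Scheme.Modules.pullback s).obj Tm :=
      G.mapIso (((DCoh.tensorBi (X := KRR.PY n X)).obj Tm).mapIso (eqToIso hU0) ≪≫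
        (twComm (m : ℤ) _).symm ≪≫ KFlat.projFormulaIso s (Coh.structureModule X) Tm ≪≫
        (Scheme.Modules.pushforward s).mapIso (TMul.leftUnitIso _)) ≪≫
      (Scheme.Modules.pushforwardComp s (KRR.pr n X)).app _ ≪≫
      (Scheme.Modules.pushforwardCongr hs).app _ ≪≫ (Scheme.Modules.pushforwardId X).app _
    have hsT := DerPerf.isFinLocFree_pullback s hTm
    have hZ0 : FlatMod.IsFinLocFree (Z 0) := DQCoh.isFinLocFree_of_iso' e.symm hsT
    obtain ⟨-, htel⟩ := cls_telescope Z L N (fun k hk => by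
        have hS := shortExact_push (shortExact_twF (hUs k) (m : ℤ))
          (isQCoh_twF _ (by rw [← hUl k]; exact (hUZ (k + 1)).1))
          (show KRR.IsRegSheaf n X (KRR.twF n X (m : ℤ) (U k).X₁) by rw [← hUl k]; exact hrZ (k + 1) (by omega))
        refine ⟨G.map (((DCoh.tensorBi (X := KRR.PY n X)).obj Tm).map (eqToHom (hUl k) ≫ (U k).f)),
          G.map (((DCoh.tensorBi (X := KRR.PY n X)).obj Tm).map (U k).g), ?_, ?_⟩
        · rw [← Functor.map_comp, ← Functor.map_comp, Category.assoc, (U k).zero, comp_zero]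
          simp
        · refine ShortComplex.shortExact_of_iso ?_ hS
          exact ShortComplex.isoMk (G.mapIso (((DCoh.tensorBi (X := KRR.PY n X)).obj Tm).mapIso
            (eqToIso (hUl k).symm))) (Iso.refl _) (Iso.refl _)
            (by simp [G, Tm, ← Functor.map_comp]) (by simp [G, Tm]))
      (fun k hk => isFinLocFree_push (isFinLocFree_twF _ (trunc_lf hT hTN k)) (hrL k (by omega))) hZ0
    have hlast : SGA6Ext.cls (Z (N + 1)) = 0 := by
      refine cls_isZero ?_
      refine G.map_isZero (((DCoh.tensorBi (X := KRR.PY n X)).obj Tm).map_isZero ?_)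
      rw [hUl N]
      show IsZero (trunc T N N).X₁
      simp [trunc, isZero_zero]
    rw [hlast, smul_zero, add_zero] at htel
    show gp (gs 1 * φP (b m)) = sK (φP (b m))
    rw [hbm, hsK Tm hTm, hgs1, Finset.sum_mul, map_sum,
      show KRR.cl X ((Scheme.Modules.pullback s).obj Tm) = SGA6Ext.cls (Z 0) from SGA6Ext.cls_iso e.symm hsT,
      htel, map_sum]
    refine Finset.sum_congr rfl fun k hk => ?_
    rw [Finset.mem_range] at hk
    rw [smul_mul_assoc, map_zsmul, map_zsmul, mul_comm,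
      show φP (SGA6Ext.cls Tm) * φP (KRR.cl _ (U k).X₂) = φP (KRR.cl _ (KRR.twF n X (m : ℤ) (U k).X₂)) from
        hKP.map_mul _ _ hTm (trunc_lf hT hTN k)]
    exact congrArg _ (hgp _ (isFinLocFree_twF _ (trunc_lf hT hTN k)) (hrL k (by omega)))
  have h0 : a (b 0) = c (b 0) := by
    rw [← Newton.newt_zero n b, ← Newton.newt_le n b (Nat.zero_le m₀) (fun k _ => cls_seq_rel hOP k),
      Newton.newt_map, Newton.newt_map]
    exact Newton.newt_congr n high
  obtain ⟨z⟩ := nonempty_twF_zero O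
  have hb0 : φP (b 0) = 1 := by
    rw [show b 0 = SGA6Ext.cls O from SGA6Ext.cls_iso z (isFinLocFree_twF _ hOP)]
    exact hKP.map_one
  have key : gp (gs 1) = 1 := by
    have h1 : gp (gs 1 * φP (b 0)) = sK (φP (b 0)) := h0
    rw [hb0, mul_one, ← hKP.map_one, hsK _ hOP] at h1
    rw [h1, ← hKX.map_one]
    exact congrArg φX (SGA6Ext.cls_iso (DerPerf.pullUnitIso s) (DerPerf.isFinLocFree_pullback s hOP))
  refine model_hom_ext hKX.bijective fun F hF => ?_
  have hF' := DerPerf.isFinLocFree_pullback (KRR.pr n X) hF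
  have e1 : sK (qX (φX (KRR.cl X F))) = φX (KRR.cl X F) := by
    rw [hqX F hF, hsK _ hF']
    exact congrArg φX (SGA6Ext.cls_iso ((Scheme.Modules.pullbackComp s (KRR.pr n X)).app F ≪≫
      (Scheme.Modules.pullbackCongr hs).app F ≪≫ (Scheme.Modules.pullbackId X).app F)
      (DerPerf.isFinLocFree_pullback s hF'))
  rw [AddMonoidHom.comp_apply, AddMonoidHom.id_apply]
  conv_lhs => rw [← e1, ← one_mul (sK _),
    pushCl_mul_pull hPe hKX.bijective hKP.bijective hKX.map_mul hKP.map_mul hsr hsK hgs,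
    PnReg.push_mul_pull hKP.map_mul hKX.map_mul hKP.bijective.2 hKX.bijective.2 hgp hqX, key, one_mul]

end Groth.Agent.K0ResLF
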