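import Groth.Agent.K0ResLF.AmpleRes
import Groth.Agent.K0ResLF.EulerHom
import Groth.Agent.K0ResLF.PushK
import Groth.Agent.K0ResLF.Nil
import Groth.Agent.SGA6Ext.Model

/-!
# The self-intersection formula and the projection formula in K-theory, without Noetherian hypotheses
-/

set_option autoImplicit false
set_option linter.style.haveILetI false
set_option linter.unusedSectionVars false
set_option backward.isDefEq.respectTransparency false
set_option backward.isDefEq.respectTransparency.types false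
set_option maxHeartbeats 1000000

universe v w u

open CategoryTheory CategoryTheory.Limits AlgebraicGeometry

attribute [local instance] HasDerivedCategory.standard

noncomputable section

namespace Groth.Agent.K0ResLF

variable {X Y : Scheme.{u}}

theorem ker_lf (S : ShortComplex Y.Modules) (hS : S.ShortExact) (h₂ : FlatMod.IsFinLocFree S.X₂)
    (h₃ : FlatMod.IsFinLocFree S.X₃) : FlatMod.IsFinLocFree S.X₁ := by
  haveI := hS.epi_g
  exact DQCoh.isFinLocFree_of_iso' (hS.fIsKernel.conePointUniqueUpToIso (kernelIsKernel S.g)).symm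
    (DCohLocus.isFinLocFree_kernel S.g h₂ h₃)

theorem sum_range_extend {A : Type*} [AddCommGroup A] (a : ℕ → A) {n m : ℕ} (hnm : n ≤ m) (h : ∀ k, n < k → a k = 0) :
    ∑ k ∈ Finset.range (n + 1), a k = ∑ k ∈ Finset.range (m + 1), a k :=
  Finset.sum_subset (Finset.range_mono (by omega)) fun k _ hk => h k (by simpa using hk)

/-- The class of the pull-back of a resolution of a direct image is the product with the alternating sum of
the exterior powers of the conormal module. -/
theorem self_intersection [ConnectedSpace ↥Y] {i : Y ⟶ X} [IsClosedImmersion i] (hi : TorWedge.IsKoszul i)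
    (hN : FlatMod.IsFinLocFree (Omega.conormal i))
    {KY : Type v} [CommRing KY] [LambdaRing.LambdaOps KY] {PY : LambdaRing.PosStructure KY}
    {φY : SGA6.Kvb Y →+ KY} (hKY : KRR.IsModel Y KY PY φY)
    {F : Y.Modules} (hF : FlatMod.IsFinLocFree F) {n : ℕ} {L : ChainComplex X.Modules ℕ}
    {π : L ⟶ (ChainComplex.single₀ X.Modules).obj ((Scheme.Modules.pushforward i).obj F)}
    (hL : KRR.IsLFRes ((Scheme.Modules.pushforward i).obj F) n L π) :
    ∑ k ∈ Finset.range (n + 1), (-1 : ℤ) ^ k • φY (KRR.cl Y ((Scheme.Modules.pullback i).obj (L.X k))) =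
      φY (KRR.cl Y F) * KRR.lamAlt PY (φY (KRR.cl Y (Omega.conormal i))) := by
  have h : TorWedge.Hyp i π := ⟨hL.finLocFree, hL.quasiIso, LocFree.isQCoh_of_isFinLocFree hF⟩
  let d := SGA6Ext.rank (Omega.conormal i)
  have hd : FlatMod.IsFinLocFreeOfRank d (Omega.conormal i) := SGA6Ext.isRank hN
  have hE := fun k => SGA6Ext.isFinLocFree_extSh (Omega.conormal i) k hN
  have eH : ∀ k, Nonempty (CohB1.tensorMod F (SGA6Ext.extSh (Omega.conormal i) k) ≅ (TorWedge.pullCx i L).homology k) :=
    fun k => TorWedge.nonempty_iso h hi hF k (SGA6Ext.isExtPow_extSh (Omega.conormal i) k hN)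
  haveI : (KRR.vbP Y).IsClosedUnderIsomorphisms := lf_iso
  have hX : ∀ k, FlatMod.IsFinLocFree ((TorWedge.pullCx i L).X k) := fun k =>
    DerPerf.isFinLocFree_pullback i (hL.finLocFree k)
  have hH : ∀ k, FlatMod.IsFinLocFree ((TorWedge.pullCx i L).homology k) := fun k =>
    DQCoh.isFinLocFree_of_iso' (eH k).some (SGA6Ext.isFinLocFree_tm hF (hE k))
  have hz : ∀ k, n < k → IsZero ((TorWedge.pullCx i L).X k) := fun k hk =>
    (Scheme.Modules.pullback i).map_isZero (hL.isZero k hk)
  have eu := euler_eq_homology (KRR.vbP Y) (TorWedge.pullCx i L) ker_lf (isZero_zero _) isFinLocFree_zero hX hH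
    (max n d) fun k hk => hz k (lt_of_le_of_lt (le_max_left _ _) hk)
  have e1 : ∀ k, φY (KRR.cl Y ((TorWedge.pullCx i L).homology k)) =
      φY (KRR.cl Y F) * LambdaRing.LambdaOps.lam k (φY (KRR.cl Y (Omega.conormal i))) := fun k => by
    rw [hKY.map_lam k _ _ hN (hE k) (SGA6Ext.isExtPow_extSh (Omega.conormal i) k hN), ← phi_mul hKY hF (hE k)]
    exact congrArg φY (clSub_iso (KRR.vbP Y) (eH k).some (SGA6Ext.isFinLocFree_tm hF (hE k)) isFinLocFree_zero
      (isZero_zero _)).symm
  have e2 : ∀ k, d < k → LambdaRing.LambdaOps.lam k (φY (KRR.cl Y (Omega.conormal i))) = 0 := fun k hk => by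
    rw [hKY.map_lam k _ _ hN (hE k) (SGA6Ext.isExtPow_extSh (Omega.conormal i) k hN)]
    have hr := SGA6Ext.isRank (hE k)
    rw [SGA6Ext.rank_extSh hN, Nat.choose_eq_zero_of_lt hk] at hr
    rw [show KRR.cl Y (SGA6Ext.extSh (Omega.conormal i) k) = 0 from
      clSub_isZero (KRR.vbP Y) (SGA6Ext.isZero_of_rank_zero hr) (hE k), map_zero]
  rw [KRR.lamAlt, hKY.aug_cl d _ hd, Int.toNat_natCast, Finset.mul_sum,
    sum_range_extend _ (le_max_left n d) fun k hk => by
      rw [show KRR.cl Y ((Scheme.Modules.pullback i).obj (L.X k)) = 0 from clSub_isZero (KRR.vbP Y) (hz k hk) (hX k),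
        map_zero, smul_zero],
    sum_range_extend _ (le_max_right n d) fun k hk => by rw [e2 k hk, mul_zero, mul_zero]]
  calc _ = φY (∑ k ∈ Finset.range (max n d + 1), (-1 : ℤ) ^ k • KRR.cl Y ((TorWedge.pullCx i L).X k)) := by
        simp only [map_sum, map_zsmul]; rfl
    _ = φY (∑ k ∈ Finset.range (max n d + 1), (-1 : ℤ) ^ k • KRR.cl Y ((TorWedge.pullCx i L).homology k)) :=
        congrArg φY eu
    _ = _ := by
        rw [map_sum]
        refine Finset.sum_congr rfl fun k _ => ?_
        rw [map_zsmul, e1, zsmul_eq_mul]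
        push_cast
        ring

/-- The projection formula on classes. -/
theorem push_mul_cl {i : Y ⟶ X} [IsClosedImmersion i]
    {KY : Type v} [CommRing KY] {φY : SGA6.Kvb Y →+ KY} {KX : Type w} [CommRing KX] {φX : SGA6.Kvb X →+ KX}
    (hmulX : ∀ E F : X.Modules, FlatMod.IsFinLocFree E → FlatMod.IsFinLocFree F →
      φX (KRR.cl X E) * φX (KRR.cl X F) = φX (KRR.cl X (((DCoh.tensorBi (X := X)).obj E).obj F)))
    (hmulY : ∀ E F : Y.Modules, FlatMod.IsFinLocFree E → FlatMod.IsFinLocFree F →
      φY (KRR.cl Y E) * φY (KRR.cl Y F) = φY (KRR.cl Y (((DCoh.tensorBi (X := Y)).obj E).obj F)))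
    {g : KY →+ KX} (hg : KRR.IsPushCl i φY φX g) {F : Y.Modules} (hF : FlatMod.IsFinLocFree F)
    (hres : KRR.HasLFRes ((Scheme.Modules.pushforward i).obj F)) {E : X.Modules} (hE : FlatMod.IsFinLocFree E) :
    g (φY (KRR.cl Y F) * φY (KRR.cl Y ((Scheme.Modules.pullback i).obj E))) =
      g (φY (KRR.cl Y F)) * φX (KRR.cl X E) := by
  obtain ⟨n, L, π, hL⟩ := hres
  haveI := hL.quasiIso
  let G := (KFlat.schB X).flip.obj E
  have hG : PreservesFiniteLimits G ∧ PreservesFiniteColimits G :=
    (((KFlat.schB X).flip.obj E).exact_tfae.out 1 3 rfl rfl).1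
      ((KFlat.isFlat_iff_flatObj E).1 (DerPerf.isFlat_of_isFinLocFree hE))
  haveI := hG.1
  haveI := hG.2
  have hE' := DerPerf.isFinLocFree_pullback i hE
  let T := (Scheme.Modules.pushforward i).obj (((KFlat.schB Y).obj F).obj ((Scheme.Modules.pullback i).obj E))
  let e : G.obj ((Scheme.Modules.pushforward i).obj F) ≅ T := KFlat.projFormulaIso i F E
  let π' : (G.mapHomologicalComplex _).obj L ⟶ (ChainComplex.single₀ X.Modules).obj T :=
    (G.mapHomologicalComplex _).map π ≫
      ((HomologicalComplex.singleMapHomologicalComplex G _ 0).app _).hom ≫ (ChainComplex.single₀ X.Modules).map e.hom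
  have hπ' : KRR.IsLFRes T n ((G.mapHomologicalComplex _).obj L) π' :=
    ⟨fun k => DerPerf.isFinLocFree_tensor (hL.finLocFree k) hE, fun k hk => G.map_isZero (hL.isZero k hk),
      inferInstance⟩
  rw [hmulY F _ hF hE', hg _ (DerPerf.isFinLocFree_tensor hF hE') n _ π' hπ', hg F hF n L π hL, Finset.sum_mul]
  exact Finset.sum_congr rfl fun k _ => by
    rw [smul_mul_assoc, hmulX _ _ (hL.finLocFree k) hE]
    rfl

end Groth.Agent.K0ResLF
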