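import Groth.Agent.K0ResLF.Canon

/-!
Exchanging two projective spaces; independence of the factorisation.
-/

set_option autoImplicit false
set_option linter.style.haveILetI false
set_option backward.isDefEq.respectTransparency false
set_option backward.isDefEq.respectTransparency.types false
set_option maxHeartbeats 1000000

universe u

open CategoryTheory CategoryTheory.Limits AlgebraicGeometry
open Groth.Agent.PnReg Groth.Agent.SGA6Ext

attribute [local instance] HasDerivedCategory.standard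

noncomputable section

namespace Groth.Agent.K0ResLF

variable {X Y : Scheme.{u}}

theorem pullK_iso_cancel (σ : X ≅ Y) (z : SGA6.Kvb X) : pullK σ.hom (pullK σ.inv z) = z := by
  have e : (pullK σ.hom).comp (pullK σ.inv) = AddMonoidHom.id _ := hom_ext_cls fun F hF => by
    have h1 := DerPerf.isFinLocFree_pullback σ.inv hF
    rw [AddMonoidHom.comp_apply, AddMonoidHom.id_apply, pullK_cls _ hF, pullK_cls _ h1]
    exact cls_iso ((Scheme.Modules.pullbackComp σ.hom σ.inv).app F ≪≫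
      (Scheme.Modules.pullbackCongr σ.hom_inv_id).app F ≪≫ (Scheme.Modules.pullbackId X).app F)
      (DerPerf.isFinLocFree_pullback σ.hom h1)
  exact DFunLike.congr_fun e z

/-- The isomorphism of the twisted inverse images under the exchange. -/
theorem nonempty_pullback_swap (a b : ℕ) (σ : KRR.PY b (KRR.PY a Y) ⟶ KRR.PY a (KRR.PY b Y))
    (h₁ : σ ≫ KRR.pr a (KRR.PY b Y) = KRR.projSpaceMap b (KRR.pr a Y))
    (h₂ : σ ≫ KRR.projSpaceMap a (KRR.pr b Y) = KRR.pr b (KRR.PY a Y)) (i l : ℤ) (M : Y.Modules) :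
    Nonempty ((Scheme.Modules.pullback σ).obj (KRR.twF a (KRR.PY b Y) i
        ((Scheme.Modules.pullback (KRR.pr a (KRR.PY b Y))).obj
          (KRR.twF b Y l ((Scheme.Modules.pullback (KRR.pr b Y)).obj M)))) ≅
      KRR.twF b (KRR.PY a Y) l ((Scheme.Modules.pullback (KRR.pr b (KRR.PY a Y))).obj
          (KRR.twF a Y i ((Scheme.Modules.pullback (KRR.pr a Y)).obj M)))) := by
  let Ta := Twist.twistOver a Y i
  let Tb := Twist.twistOver b Y l
  let p := KRR.pr b (KRR.PY a Y)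
  let q := KRR.projSpaceMap b (KRR.pr a Y)
  let tb : (Scheme.Modules.pullback q).obj Tb ≅ Twist.twistOver b (KRR.PY a Y) l :=
    (Scheme.Modules.pullbackComp _ _).app _ ≪≫ (Scheme.Modules.pullbackCongr (map_fst (KRR.pr a Y))).app _
  let ta : (Scheme.Modules.pullback σ).obj (Twist.twistOver a (KRR.PY b Y) i) ≅ (Scheme.Modules.pullback p).obj Ta :=
    (Scheme.Modules.pullback σ).mapIso (((Scheme.Modules.pullbackComp _ _).app _ ≪≫
      (Scheme.Modules.pullbackCongr (map_fst (KRR.pr b Y))).app _).symm) ≪≫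
      (Scheme.Modules.pullbackComp σ (KRR.projSpaceMap a (KRR.pr b Y))).app _ ≪≫
      (Scheme.Modules.pullbackCongr h₂).app _
  have hw : q ≫ KRR.pr b Y = p ≫ KRR.pr a Y := (isPullback_map (KRR.pr a Y)).w
  let tM : (Scheme.Modules.pullback q).obj ((Scheme.Modules.pullback (KRR.pr b Y)).obj M) ≅
      (Scheme.Modules.pullback p).obj ((Scheme.Modules.pullback (KRR.pr a Y)).obj M) :=
    (Scheme.Modules.pullbackComp _ _).app M ≪≫ (Scheme.Modules.pullbackCongr hw).app M ≪≫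
      ((Scheme.Modules.pullbackComp _ _).app M).symm
  obtain ⟨e₁⟩ := TMul.nonempty_pullTensorIso σ (Twist.twistOver a (KRR.PY b Y) i)
    ((Scheme.Modules.pullback (KRR.pr a (KRR.PY b Y))).obj (KRR.twF b Y l ((Scheme.Modules.pullback (KRR.pr b Y)).obj M)))
  obtain ⟨e₂⟩ := TMul.nonempty_pullTensorIso q Tb ((Scheme.Modules.pullback (KRR.pr b Y)).obj M)
  obtain ⟨e₃⟩ := TMul.nonempty_pullTensorIso p Ta ((Scheme.Modules.pullback (KRR.pr a Y)).obj M)
  exact ⟨e₁.symm ≪≫ PicGrp.tensorModIso ta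
      ((Scheme.Modules.pullbackComp σ (KRR.pr a (KRR.PY b Y))).app _ ≪≫ (Scheme.Modules.pullbackCongr h₁).app _ ≪≫
        e₂.symm ≪≫ PicGrp.tensorModIso tb tM) ≪≫
    (TMul.assocIso _ _ _).symm ≪≫ PicGrp.tensorModIso (TMul.commIso _ _) (Iso.refl _) ≪≫ TMul.assocIso _ _ _ ≪≫
    PicGrp.tensorModIso (Iso.refl _) e₃⟩

/-- Pushing forward in either order. -/
theorem pushK_swap (a b : ℕ) [IsNoetherian Y] [IsNoetherian (KRR.PY a Y)] [IsNoetherian (KRR.PY b Y)]
    (σ : KRR.PY b (KRR.PY a Y) ⟶ KRR.PY a (KRR.PY b Y))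
    (h₁ : σ ≫ KRR.pr a (KRR.PY b Y) = KRR.projSpaceMap b (KRR.pr a Y))
    (h₂ : σ ≫ KRR.projSpaceMap a (KRR.pr b Y) = KRR.pr b (KRR.PY a Y))
    (z : SGA6.Kvb (KRR.PY a (KRR.PY b Y))) :
    pushK a Y (pushK b (KRR.PY a Y) (pullK σ z)) = pushK b Y (pushK a (KRR.PY b Y) z) := by
  let A := (pushK a Y).comp ((pushK b (KRR.PY a Y)).comp (pullK σ))
  let B := (pushK b Y).comp (pushK a (KRR.PY b Y))
  have base : ∀ k l : ℕ, k ≤ a → l ≤ b → ∀ M : Y.Modules, FlatMod.IsFinLocFree M →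
      A (gen a (KRR.PY b Y) (-(k : ℤ)) (gen b Y (-(l : ℤ)) (cls M))) =
        B (gen a (KRR.PY b Y) (-(k : ℤ)) (gen b Y (-(l : ℤ)) (cls M))) := by
    intro k l hk hl M hM
    have hi := isFinLocFree_twF (n := b) (-(l : ℤ)) (DerPerf.isFinLocFree_pullback (KRR.pr b Y) hM)
    have hj := isFinLocFree_twF (n := a) (-(k : ℤ)) (DerPerf.isFinLocFree_pullback (KRR.pr a Y) hM)
    have hk' := isFinLocFree_twF (n := a) (-(k : ℤ)) (DerPerf.isFinLocFree_pullback (KRR.pr a (KRR.PY b Y)) hi)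
    obtain ⟨e⟩ := nonempty_pullback_swap a b σ h₁ h₂ (-(k : ℤ)) (-(l : ℤ)) M
    have key : pullK σ (gen a (KRR.PY b Y) (-(k : ℤ)) (gen b Y (-(l : ℤ)) (cls M))) =
        gen b (KRR.PY a Y) (-(l : ℤ)) (gen a Y (-(k : ℤ)) (cls M)) := by
      rw [gen_cls _ hM, gen_cls _ hi, gen_cls _ hM, gen_cls _ hj, pullK_cls _ hk']
      exact cls_iso e (DerPerf.isFinLocFree_pullback σ hk')
    simp only [A, B, AddMonoidHom.comp_apply, key]
    rcases Nat.eq_zero_or_pos k with rfl | hk0 <;> rcases Nat.eq_zero_or_pos l with rfl | hl0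
    · simp only [Nat.cast_zero, neg_zero, pushK_gen_zero]
    · simp only [Nat.cast_zero, neg_zero, pushK_gen_zero, pushK_gen_neg hl0 hl, map_zero]
    · simp only [Nat.cast_zero, neg_zero, pushK_gen_zero, pushK_gen_neg hk0 hk, map_zero]
    · simp only [pushK_gen_neg hk0 hk, pushK_gen_neg hl0 hl, map_zero]
  have inner : ∀ k : ℕ, k ≤ a → A.comp (gen a (KRR.PY b Y) (-(k : ℤ))) = B.comp (gen a (KRR.PY b Y) (-(k : ℤ))) :=
    fun k hk => hom_ext_reg fun F hF => by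
      rw [cls_eq_sum hF.1 hF.2, map_sum, map_sum]
      refine Finset.sum_congr rfl fun l _ => ?_
      have h := hom_ext_cls (f := (A.comp (gen a (KRR.PY b Y) (-(k : ℤ)))).comp (gen b Y (-((l : ℕ) : ℤ))))
        (g := (B.comp (gen a (KRR.PY b Y) (-(k : ℤ)))).comp (gen b Y (-((l : ℕ) : ℤ))))
        fun M hM => base k l hk (Nat.lt_succ_iff.1 l.2) M hM
      exact DFunLike.congr_fun h _
  have outer : A = B := hom_ext_reg fun F hF => by
    rw [cls_eq_sum hF.1 hF.2, map_sum, map_sum]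
    exact Finset.sum_congr rfl fun k _ => DFunLike.congr_fun (inner k (Nat.lt_succ_iff.1 k.2)) _
  exact DFunLike.congr_fun outer z

/-- Independence of the factorisation, on the canonical groups. -/
theorem push_indep (n m : ℕ) [IsNoetherian X] [ConnectedSpace ↥X] [IsNoetherian Y] [ConnectedSpace ↥Y]
    (hY : KRR.HasEnoughLocFree Y) {i₁ : X ⟶ KRR.PY n Y} {i₂ : X ⟶ KRR.PY m Y}
    (h₁ : Mor2.IsRegularClosedImmersion i₁) (h₂ : Mor2.IsRegularClosedImmersion i₂)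
    (hf : i₁ ≫ KRR.pr n Y = i₂ ≫ KRR.pr m Y)
    {a₁ : SGA6.Kvb X →+ SGA6.Kvb (KRR.PY n Y)} (ha₁ : IsPush i₁ a₁)
    {a₂ : SGA6.Kvb X →+ SGA6.Kvb (KRR.PY m Y)} (ha₂ : IsPush i₂ a₂) (x : SGA6.Kvb X) :
    pushK n Y (a₁ x) = pushK m Y (a₂ x) := by
  obtain ⟨hN₁, hC₁⟩ := RR.stable_bunPn (n := n) (Y := Y)
  obtain ⟨hN₂, hC₂⟩ := RR.stable_bunPn (n := m) (Y := Y)
  obtain ⟨hNQ, hCQ⟩ := RR.stable_bunPn (n := m) (Y := KRR.PY n Y)
  obtain ⟨hNQ', hCQ'⟩ := RR.stable_bunPn (n := n) (Y := KRR.PY m Y)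
  have hP₁ := hasEnoughLocFree_PY hY n
  have hP₂ := hasEnoughLocFree_PY hY m
  have hA := isPullback_map (n := m) (KRR.pr n Y)
  let k : X ⟶ KRR.PY m (KRR.PY n Y) := hA.lift i₂ i₁ hf.symm
  let σ : KRR.PY m (KRR.PY n Y) ≅ KRR.PY n (KRR.PY m Y) :=
    hA.isoIsPullback _ _ (isPullback_map (n := n) (KRR.pr m Y)).flip
  have s₁ : σ.hom ≫ KRR.pr n (KRR.PY m Y) = KRR.projSpaceMap m (KRR.pr n Y) := IsPullback.isoIsPullback_hom_fst ..
  have s₂ : σ.hom ≫ KRR.projSpaceMap n (KRR.pr m Y) = KRR.pr m (KRR.PY n Y) := IsPullback.isoIsPullback_hom_snd ..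
  obtain ⟨hk, hkK⟩ := push_lift m hP₁ h₁ (h := k) (hA.lift_snd _ _ _)
  have hk' : (k ≫ σ.hom) ≫ KRR.pr n (KRR.PY m Y) = i₂ := by rw [Category.assoc, s₁]; exact hA.lift_fst _ _ _
  obtain ⟨hkr', hkK'⟩ := push_lift n hP₂ h₂ hk'
  obtain ⟨ak, hak, -⟩ := exists_push (hasEnoughLocFree_PY hP₁ m) hk
  obtain ⟨ak', hak', -⟩ := exists_push (hasEnoughLocFree_PY hP₂ n) hkr'
  have hcomp := push_comp (hasEnoughLocFree_PY hP₁ m) (hasEnoughLocFree_PY hP₂ n) hk
    (isRegularClosedImmersion_of_isIso σ.hom) hak (push_iso σ) hak'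
  rw [← hkK ak a₁ hak ha₁, ← hkK' ak' a₂ hak' ha₂, hcomp, AddMonoidHom.comp_apply,
    ← pushK_swap n m σ.hom s₁ s₂, pullK_iso_cancel]

end Groth.Agent.K0ResLF
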