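import Groth.Agent.KChi.TorKoszul
import Groth.Agent.DRingKP.Tor
import Groth.Agent.FMTool.BC
import Mathlib.RingTheory.Regular.RegularSequence

/-!
Extension of scalars keeps resolutions of sums of copies of `A/(l)` exact when `l` stays regular.
-/

set_option autoImplicit false
set_option linter.style.haveILetI false
set_option backward.isDefEq.respectTransparency false
set_option backward.isDefEq.respectTransparency.types false

universe u

open CategoryTheory CategoryTheory.Limits MonoidalCategory HomologicalComplex RingTheory.Sequence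

noncomputable section

namespace Groth.Agent.K0ResLF

variable {A : Type u} [CommRing A]

theorem additive_leftDerived {C D : Type*} [Category C] [Category D] [Abelian C] [HasProjectiveResolutions C]
    [Abelian D] (F : C ⥤ D) [F.Additive] (n : ℕ) : (F.leftDerived n).Additive := ⟨fun {X Y f g} => by
  let P := projectiveResolution X
  let Q := projectiveResolution Y
  rw [F.leftDerived_map_eq n f (ProjectiveResolution.lift f P Q) (ProjectiveResolution.lift_commutes f P Q),
    F.leftDerived_map_eq n g (ProjectiveResolution.lift g P Q) (ProjectiveResolution.lift_commutes g P Q),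
    F.leftDerived_map_eq n (f + g) (ProjectiveResolution.lift f P Q + ProjectiveResolution.lift g P Q)
      (by rw [Preadditive.add_comp, ProjectiveResolution.lift_commutes, ProjectiveResolution.lift_commutes,
        Functor.map_add, Preadditive.comp_add]),
    Functor.map_add, Preadditive.add_comp, Preadditive.comp_add]⟩

theorem subsingleton_H_of_regular (l : List A) : ∀ (M : Type u) [AddCommGroup M] [Module A M],
    IsWeaklyRegular M l → ∀ p : ℤ, p ≠ 0 → Subsingleton ((KChi.KX l M).homology p) := by
  induction l with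
  | nil =>
    intro M _ _ _ p hp
    exact KChi.subsingleton_H [] p (by simp only [List.length_nil]; omega)
  | cons f l ih =>
    intro M _ _ hl p hp
    rw [isWeaklyRegular_cons_iff] at hl
    haveI := ih (QuotSMulTop f M) hl.2 p hp
    refine Module.length_eq_zero_iff.1 ((KChi.length_H_of_regular (M := M) hl.1 l p).trans ?_)
    exact Module.length_eq_zero

theorem subsingleton_tor_regular (l : List A) (hA : IsWeaklyRegular A l) (M : Type u) [AddCommGroup M]
    [Module A M] (hM : IsWeaklyRegular M l) {i : ℕ} (hi : 0 < i) :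
    Subsingleton (DRing.Tor A i M (A ⧸ Ideal.ofList l)) := by
  haveI := subsingleton_H_of_regular l M hM (-(i : ℤ)) (by omega)
  haveI : Subsingleton (DRing.Tor A i (A ⧸ Ideal.ofList l) M) :=
    Module.length_eq_zero_iff.1 ((KChi.length_tor_eq l hA M i).trans Module.length_eq_zero)
  exact FMTool.subsingleton_tor_swap hi this

theorem isZero_tor_pi (l : List A) (hA : IsWeaklyRegular A l) (M : Type u) [AddCommGroup M]
    [Module A M] (hM : IsWeaklyRegular M l) (r : ℕ) (N : ModuleCat.{u} A)
    (e : N ≅ ModuleCat.of A (Fin r → A ⧸ Ideal.ofList l)) (p : ℕ) :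
    IsZero (((CategoryTheory.Tor (ModuleCat.{u} A) (p + 1)).obj (ModuleCat.of A M)).obj N) := by
  let T := (CategoryTheory.Tor (ModuleCat.{u} A) (p + 1)).obj (ModuleCat.of A M)
  haveI : T.Additive := additive_leftDerived _ _
  let C := ModuleCat.of A (A ⧸ Ideal.ofList l)
  haveI : Subsingleton (T.obj C) := subsingleton_tor_regular l hA M hM (Nat.succ_pos p)
  have hC : IsZero (T.obj C) := ModuleCat.isZero_of_subsingleton _
  refine (IsZero.iff_id_eq_zero _).2 ?_
  let F := ModuleCat.of A (Fin r → A ⧸ Ideal.ofList l)
  let π : ∀ j : Fin r, F ⟶ C := fun j => ModuleCat.ofHom (LinearMap.proj j)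
  let ι : ∀ j : Fin r, C ⟶ F := fun j => ModuleCat.ofHom (LinearMap.single A (fun _ : Fin r => A ⧸ Ideal.ofList l) j)
  have hid : 𝟙 N = e.hom ≫ (∑ j, π j ≫ ι j) ≫ e.inv := by
    have : (∑ j, π j ≫ ι j) = 𝟙 F := by
      refine ModuleCat.hom_ext (LinearMap.ext fun x => ?_)
      rw [ModuleCat.hom_sum]
      simp [π, ι, F, C, Finset.univ_sum_single]
    rw [this, Category.id_comp, Iso.hom_inv_id]
  rw [← T.map_id, hid, Functor.map_comp, Functor.map_comp, Functor.map_sum, Finset.sum_eq_zero fun j _ => by
    rw [Functor.map_comp, hC.eq_zero_of_tgt (T.map (π j)), zero_comp]]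
  simp

variable {B : Type u} [CommRing B]

theorem exactAt_extend (φ : A →+* B) (l : List A) (hA : IsWeaklyRegular A l)
    (hB : IsWeaklyRegular B (l.map φ)) (r : ℕ) (N : ModuleCat.{u} A)
    (e : N ≅ ModuleCat.of A (Fin r → A ⧸ Ideal.ofList l)) (P : ProjectiveResolution N) (p : ℕ) :
    (((ModuleCat.extendScalars.{u, u, u} φ).mapHomologicalComplex (ComplexShape.down ℕ)).obj
      P.complex).ExactAt (p + 1) := by
  letI : Algebra A B := φ.toAlgebra
  have hM : IsWeaklyRegular B l := (isWeaklyRegular_map_algebraMap_iff B B l).1 hB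
  have h := (isZero_tor_pi l hA B hM r N e p).of_iso
    (P.isoLeftDerivedObj (tensorLeft (ModuleCat.of A B)) (p + 1)).symm
  replace h := (exactAt_iff _ _).1 ((exactAt_iff_isZero_homology _ _).2 h)
  rw [exactAt_iff]
  let F := ModuleCat.extendScalars.{u, u, u} φ
  haveI : F.IsLeftAdjoint := (ModuleCat.extendRestrictScalarsAdj φ).isLeftAdjoint
  let e' : tensorLeft (ModuleCat.of A B) ≅ F ⋙ ModuleCat.restrictScalars φ :=
    NatIso.ofComponents (fun M => Iso.refl _) (fun g => by
      apply ModuleCat.MonoidalCategory.tensor_ext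
      intro a b
      rfl)
  exact (ShortComplex.exact_map_iff_of_faithful _ (ModuleCat.restrictScalars φ)).1
    ((ShortComplex.exact_iff_of_iso ((P.complex.sc (p + 1)).mapNatIso e')).1 h)

end Groth.Agent.K0ResLF
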