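import Groth.Agent.K0ResLF.Canon

/-!
Push-forwards on models, in terms of those on classes of bundles.
-/

set_option autoImplicit false
set_option backward.isDefEq.respectTransparency false
set_option backward.isDefEq.respectTransparency.types false

universe v w u

open CategoryTheory CategoryTheory.Limits AlgebraicGeometry

attribute [local instance] HasDerivedCategory.standard

noncomputable section

namespace Groth.Agent.K0ResLF

variable {X Y : Scheme.{u}} {KX : Type v} {KY : Type w} [CommRing KX] [CommRing KY]

/-- A push-forward on models comes from one on classes of bundles. -/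
theorem exists_isPush_of_isPushCl {i : X ⟶ Y} {φX : SGA6.Kvb X →+ KX} {φY : SGA6.Kvb Y →+ KY}
    (hY : Function.Bijective φY) {g : KX →+ KY} (hg : KRR.IsPushCl i φX φY g) :
    ∃ a : SGA6.Kvb X →+ SGA6.Kvb Y, IsPush i a ∧ ∀ z, g (φX z) = φY (a z) := by
  refine ⟨(AddEquiv.ofBijective φY hY).symm.toAddMonoidHom.comp (g.comp φX), fun F hF n L π hL => ?_, fun z =>
    ((AddEquiv.ofBijective φY hY).apply_symm_apply _).symm⟩
  refine hY.1 (((AddEquiv.ofBijective φY hY).apply_symm_apply _).trans ?_)
  rw [map_sum]
  refine (hg F hF n L π hL).trans (Finset.sum_congr rfl fun k _ => ?_)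
  rw [map_zsmul]

end Groth.Agent.K0ResLF
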